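import Cfsg.Agent.H7.ZassKernel
import Cfsg.Agent.H21.Complement

/-!
Zassenhaus groups with `n - 1 ≤ 2 d`: the kernel has no proper nontrivial subgroup normalised by the two-point
stabiliser, so it is elementary abelian.
-/

set_option autoImplicit false
set_option linter.style.haveILetI false

namespace Cfsg.Agent.H7.ZK

open MulAction

variable {G Ω : Type*} [Group G] [MulAction G Ω] [Finite Ω] {a b : Ω} {U : Subgroup G} (K : ZK G a b U)
  (hle : Nat.card Ω - 2 ≤ 2 * Nat.card ↥(stabilizer G a ⊓ stabilizer G b))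
include K hle

/-- No proper nontrivial subgroup of the kernel is invariant. -/
theorem invariant_eq (W : Subgroup G) (hW : W ≤ U) (hne : W ≠ ⊥)
    (hinv : ∀ h ∈ stabilizer G a ⊓ stabilizer G b, ∀ w ∈ W, h * w * h⁻¹ ∈ W) : W = U := by
  haveI := K.z.finite
  by_contra hWU
  have h1 : 1 < Nat.card W := (Subgroup.one_lt_card_iff_ne_bot W).2 hne
  obtain ⟨k, hk⟩ := K.dvd_card_sub_one W hW hinv
  have h2 : 2 * Nat.card W ≤ Nat.card U := by
    obtain ⟨j, hj⟩ := Subgroup.card_dvd_of_le hW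
    rw [hj, mul_comm]
    refine Nat.mul_le_mul_left _ ?_
    rcases j with _ | _ | j
    · rw [mul_zero] at hj; exact absurd hj Nat.card_pos.ne'
    · exact absurd (Subgroup.eq_of_le_of_card_ge hW (by rw [hj]; simp)) hWU
    · omega
  have h3 := K.card_U
  generalize Nat.card ↥(stabilizer G a ⊓ stabilizer G b) = d at *
  have hd : d ≤ Nat.card W - 1 := by
    rw [hk]; refine Nat.le_mul_of_pos_right _ (Nat.pos_of_ne_zero ?_)
    rintro rfl; rw [mul_zero] at hk; omega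
  omega

/-- A nilpotent kernel is abelian. -/
theorem comm (hnil : Group.IsNilpotent U) : ∀ u ∈ U, ∀ v ∈ U, u * v = v * u := by
  haveI := K.z.finite
  haveI := hnil
  haveI : Nontrivial U := by
    obtain ⟨c, hca, hcb⟩ := K.z.exists_move K.ne
    obtain ⟨u, hu, e⟩ := K.reach hca
    exact ⟨⟨⟨u, hu⟩, 1, fun e' => hcb (by rw [← e, show u = 1 from congrArg Subtype.val e', one_smul])⟩⟩
  set W : Subgroup G := (Subgroup.center U).map U.subtype with hWd
  have hne : W ≠ ⊥ := by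
    intro e
    rw [hWd, Subgroup.map_eq_bot_iff_of_injective _ Subtype.val_injective] at e
    obtain ⟨z, hz, hz1⟩ := (Subgroup.bot_or_exists_ne_one (Subgroup.center U)).resolve_left
      (Group.IsNilpotent.center_ne_bot U)
    rw [e, Subgroup.mem_bot] at hz
    exact hz1 hz
  have hinv : ∀ h ∈ stabilizer G a ⊓ stabilizer G b, ∀ w ∈ W, h * w * h⁻¹ ∈ W := by
    rintro h hh _ ⟨⟨w, hwU⟩, hw, rfl⟩
    refine ⟨⟨h * w * h⁻¹, K.conj h hh.1 w hwU⟩, Subgroup.mem_center_iff.2 fun g => Subtype.ext ?_, rfl⟩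
    have hg : h⁻¹ * g.1 * h ∈ U := by simpa using K.conj h⁻¹ (inv_mem hh.1) g.1 g.2
    have := congrArg Subtype.val (Subgroup.mem_center_iff.1 hw ⟨_, hg⟩)
    show g.1 * (h * w * h⁻¹) = h * w * h⁻¹ * g.1
    calc g.1 * (h * w * h⁻¹) = h * ((h⁻¹ * g.1 * h) * w) * h⁻¹ := by group
      _ = h * (w * (h⁻¹ * g.1 * h)) * h⁻¹ := by rw [show (h⁻¹ * g.1 * h) * w = w * (h⁻¹ * g.1 * h) from this]
      _ = _ := by group
  have e := K.invariant_eq hle W (Subgroup.map_subtype_le _) hne hinv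
  intro u hu v hv
  obtain ⟨⟨u', hu'⟩, hc, rfl⟩ : u ∈ W := e.symm ▸ hu
  exact (congrArg Subtype.val (Subgroup.mem_center_iff.1 hc ⟨v, hv⟩)).symm

/-- An abelian kernel has prime exponent. -/
theorem elementary (hcomm : ∀ u ∈ U, ∀ v ∈ U, u * v = v * u) :
    ∃ p f : ℕ, p.Prime ∧ (∀ u ∈ U, u ^ p = 1) ∧ Nat.card U = p ^ f := by
  classical
  haveI := K.z.finite
  have hlt : 1 < Nat.card U := by
    obtain ⟨c, hca, hcb⟩ := K.z.exists_move K.ne
    obtain ⟨u, hu, e⟩ := K.reach hca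
    haveI : Nontrivial U :=
      ⟨⟨⟨u, hu⟩, 1, fun e' => hcb (by rw [← e, show u = 1 from congrArg Subtype.val e', one_smul])⟩⟩
    exact Finite.one_lt_card
  obtain ⟨p, hp, hpd⟩ := Nat.exists_prime_and_dvd hlt.ne'
  haveI : Fact p.Prime := ⟨hp⟩
  obtain ⟨⟨x, hx⟩, hxo⟩ := exists_prime_orderOf_dvd_card' p hpd
  rw [Subgroup.orderOf_mk] at hxo
  let W : Subgroup G :=
    { carrier := {u | u ∈ U ∧ u ^ p = 1}
      one_mem' := ⟨one_mem U, one_pow p⟩
      mul_mem' := fun {u v} hu hv => ⟨mul_mem hu.1 hv.1, by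
        rw [(show Commute u v from hcomm u hu.1 v hv.1).mul_pow, hu.2, hv.2, one_mul]⟩
      inv_mem' := fun {u} hu => ⟨inv_mem hu.1, by rw [inv_pow, hu.2, inv_one]⟩ }
  have hxW : x ∈ W := ⟨hx, by rw [← hxo, pow_orderOf_eq_one]⟩
  have e : W = U := by
    refine K.invariant_eq hle W (fun u hu => hu.1) (fun e => ?_) ?_
    · rw [e, Subgroup.mem_bot] at hxW
      rw [hxW, orderOf_one] at hxo
      exact hp.one_lt.ne hxo
    · rintro h hh w ⟨hw, hwp⟩
      exact ⟨K.conj h hh.1 w hw, by rw [conj_pow, hwp]; group⟩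
  have hall : ∀ u ∈ U, u ^ p = 1 := fun u hu => (e.symm ▸ hu : u ∈ W).2
  have hP : IsPGroup p U := fun u => ⟨1, Subtype.ext (by simpa using hall u.1 u.2)⟩
  obtain ⟨f, hf⟩ := IsPGroup.iff_card.1 hP
  exact ⟨p, f, hp, hall, hf⟩

end Cfsg.Agent.H7.ZK
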