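import Cfsg.Agent.H7.ZassEven
import Cfsg.Agent.H7.ZassLarge
import Cfsg.Agent.H7.LineWeyl

/-!
Recognition of `PSL₂(q)`, `q` odd: Zassenhaus groups with abelian kernel of order `2 d + 1` whose two-point stabilisers
are abelian and inverted by an involution.
-/

set_option autoImplicit false
set_option linter.style.haveILetI false

namespace Cfsg.Agent.H7

open MulAction OnePoint

universe u v

variable {G : Type u} {Ω : Type v} [Group G] [MulAction G Ω] [Fintype Ω] {a b : Ω} {U : Subgroup G}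

open H31 in
/-- A representation on the projective line attached to a kernel of order `2 d + 1`. -/
theorem ZK.exists_lineRep (K : ZK G a b U) (hcard : Fintype.card Ω = 2 * Nat.card ↥(stabilizer G a ⊓ stabilizer G b) + 2)
    (hcomm : ∀ h ∈ stabilizer G a ⊓ stabilizer G b, ∀ k ∈ stabilizer G a ⊓ stabilizer G b, h * k = k * h) :
    ∃ (F : Type) (_ : Field F) (_ : Fintype F) (_ : DecidableEq F) (e : OnePoint F ≃ Ω)
      (ρ : G →* Equiv.Perm (OnePoint F)), (∀ g x, e (ρ g x) = g • e x) ∧ e ∞ = a ∧ e ((0 : F) : OnePoint F) = b ∧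
      IsLineRep ρ (Nat.card ↥(stabilizer G a ⊓ stabilizer G b)) := by
  classical
  haveI := K.z.finite
  set H := stabilizer G a ⊓ stabilizer G b with hH
  set d := Nat.card H with hd
  have hle : Nat.card Ω - 2 ≤ 2 * d := by rw [Nat.card_eq_fintype_card]; omega
  have hc := K.comm hle K.nilpotent
  letI : CommGroup U := { (inferInstance : Group U) with
    mul_comm := fun x y => Subtype.ext (hc x.1 x.2 y.1 y.2) }
  let φ : H →* AddMonoid.End (Additive U) :=
    { toFun := fun h => (H21.conjHom K.le_normalizer h).toMonoidHom.toAdditive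
      map_one' := AddMonoidHom.ext fun x => congrArg Additive.ofMul (by rw [map_one]; rfl)
      map_mul' := fun h k => AddMonoidHom.ext fun x => congrArg Additive.ofMul (by rw [map_mul]; rfl) }
  have hφ : ∀ (h : H) (x : Additive U), ((φ h x).toMul : G) = h.1 * (x.toMul : G) * h.1⁻¹ := fun h x => rfl
  have hφcomm : ∀ x ∈ Set.range φ, ∀ y ∈ Set.range φ, x * y = y * x := by
    rintro _ ⟨h, rfl⟩ _ ⟨k, rfl⟩
    rw [← map_mul, ← map_mul, show h * k = k * h from Subtype.ext (hcomm h.1 h.2 k.1 k.2)]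
  let R : Subring (AddMonoid.End (Additive U)) := Subring.closure (Set.range φ)
  have hφR : ∀ h, φ h ∈ R := fun h => Subring.subset_closure ⟨h, rfl⟩
  letI : CommRing R := Subring.closureCommRingOfComm hφcomm
  have hequiv : ∀ (f : R) (h : H) x, f.1 (φ h x) = φ h (f.1 x) := by
    intro f h x
    exact DFunLike.congr_fun (congrArg Subtype.val (mul_comm f ⟨φ h, hφR h⟩)) x
  -- invariant subgroups
  have hsub : ∀ W : AddSubgroup (Additive U), (∀ h, ∀ x ∈ W, φ h x ∈ W) → W = ⊥ ∨ W = ⊤ := by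
    intro W hW
    rw [or_iff_not_imp_left]
    intro hne
    let W' : Subgroup G := (AddSubgroup.toSubgroup' W).map U.subtype
    have hW'U : W' ≤ U := Subgroup.map_subtype_le _
    obtain ⟨x, hx, hx0⟩ := (AddSubgroup.bot_or_exists_ne_zero W).resolve_left hne
    have e := K.invariant_eq hle W' hW'U (fun e => hx0 (by
        have hm : (x.toMul : G) ∈ W' := ⟨x.toMul, hx, rfl⟩
        rw [e, Subgroup.mem_bot] at hm
        exact congrArg Additive.ofMul (Subtype.ext hm : x.toMul = 1)))
      (fun h hh => by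
        rintro _ ⟨w, hw, rfl⟩
        exact ⟨(φ ⟨h, hh⟩ (Additive.ofMul w)).toMul, hW ⟨h, hh⟩ _ hw, rfl⟩)
    rw [eq_top_iff]
    rintro y -
    obtain ⟨w, hw, hwy⟩ : (y.toMul : G) ∈ W' := e.symm ▸ y.toMul.2
    rwa [show y = Additive.ofMul w from (congrArg Additive.ofMul (Subtype.ext hwy)).symm]
  have hU1 : 1 < Nat.card U := by
    have := K.card_U
    rw [Nat.card_eq_fintype_card (α := Ω), hcard] at this
    have : 0 < d := Nat.card_pos
    omega
  obtain ⟨u₁, hu₁⟩ := @exists_ne (Additive U) (Finite.one_lt_card_iff_nontrivial.1 hU1) 0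
  have hinj : ∀ f : R, f ≠ 0 → Function.Injective f.1 := by
    intro f hf
    rcases hsub f.1.ker (fun h x hx => AddMonoidHom.mem_ker.2 (by
        show f.1 (φ h x) = 0
        have h0 : f.1 x = 0 := hx
        rw [hequiv, h0, map_zero])) with e | e
    · exact (AddMonoidHom.ker_eq_bot_iff f.1).1 e
    · exact absurd (Subtype.ext (AddMonoidHom.ext fun x =>
        AddMonoidHom.mem_ker.1 (e ▸ AddSubgroup.mem_top x : x ∈ f.1.ker))) hf
  haveI : Finite R := Finite.of_injective
    (fun f : R => (f.1 : Additive U → Additive U)) fun f g e => Subtype.ext (DFunLike.coe_injective e)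
  have hfield : IsField R := by
    haveI : NoZeroDivisors R := ⟨fun {f g} h => or_iff_not_imp_left.2 fun hf => Subtype.ext <| AddMonoidHom.ext fun x =>
      hinj f hf ((DFunLike.congr_fun (congrArg Subtype.val h) x).trans (map_zero f.1).symm)⟩
    haveI : Nontrivial R := ⟨⟨0, 1, fun e => hu₁ (DFunLike.congr_fun (congrArg Subtype.val e) u₁).symm⟩⟩
    haveI : IsDomain R := NoZeroDivisors.to_isDomain R
    exact Finite.isField_of_domain R
  letI : Field R := hfield.toField
  let ev : R →+ Additive U := AddMonoidHom.mk' (fun f => f.1 u₁) fun f g => rfl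
  have hev : Function.Bijective ev := by
    constructor
    · rw [injective_iff_map_eq_zero]
      intro f hf
      by_contra hne
      exact hu₁ (hinj f hne (hf.trans (map_zero f.1).symm))
    · have := (hsub ev.range (by
        rintro h _ ⟨f, rfl⟩
        exact ⟨⟨φ h, hφR h⟩ * f, rfl⟩)).resolve_left fun e => hu₁ (by
          have hm : ev 1 ∈ ev.range := ⟨1, rfl⟩
          rw [e, AddSubgroup.mem_bot] at hm
          exact hm)
      exact fun x => (this ▸ AddSubgroup.mem_top x : x ∈ ev.range)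
  haveI : Small.{0} R := Countable.toSmall R
  let r := Shrink.ringEquiv.{0} (α := R)
  let τ : Shrink.{0} R ≃+ Additive U := r.toAddEquiv.trans (AddEquiv.ofBijective ev hev)
  have hτmul : ∀ (h : H) (x : Shrink.{0} R), φ h (τ x) = τ (r.symm ⟨φ h, hφR h⟩ * x) := by
    intro h x
    show φ h ((r x).1 u₁) = (r (r.symm ⟨φ h, hφR h⟩ * x)).1 u₁
    rw [map_mul, RingEquiv.apply_symm_apply]
    rfl
  haveI : Finite (Shrink.{0} R) := Finite.of_equiv _ τ.toEquiv.symm
  letI : Fintype (Shrink.{0} R) := Fintype.ofFinite _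
  let T : Shrink.{0} R → G := fun x => ((τ x).toMul : G)
  have hTU : ∀ x, T x ∈ U := fun x => (τ x).toMul.2
  have hT0 : T 0 = 1 := by show ((τ 0).toMul : G) = 1; rw [map_zero]; rfl
  have hTadd : ∀ x y, T (x + y) = T x * T y := fun x y => by
    show ((τ (x + y)).toMul : G) = _; rw [map_add]; rfl
  have hTinj : Function.Injective T := fun x y e => τ.injective (congrArg Additive.ofMul (Subtype.ext e))
  let toPt : OnePoint (Shrink.{0} R) → Ω := fun p => Option.elim p a (fun x => T x • b)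
  have hbij : Function.Bijective toPt := by
    constructor
    · rintro (_ | x) (_ | y) e
      · rfl
      · exact absurd e.symm (K.smul_ne (hTU y) K.ne.symm)
      · exact absurd e (K.smul_ne (hTU x) K.ne.symm)
      · exact congrArg _ (hTinj (K.injective (hTU x) (hTU y) e))
    · intro p
      by_cases hp : p = a
      · exact ⟨∞, hp.symm⟩
      · obtain ⟨w, hw, e⟩ := K.reach hp
        refine ⟨((τ.symm (Additive.ofMul ⟨w, hw⟩) : Shrink.{0} R) : OnePoint (Shrink.{0} R)), ?_⟩
        show ((τ (τ.symm (Additive.ofMul ⟨w, hw⟩))).toMul : G) • b = p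
        rw [AddEquiv.apply_symm_apply]
        exact e
  let pe : OnePoint (Shrink.{0} R) ≃ Ω := Equiv.ofBijective toPt hbij
  let ρ : G →* Equiv.Perm (OnePoint (Shrink.{0} R)) :=
    { toFun := fun g => (pe.trans (MulAction.toPerm g)).trans pe.symm
      map_one' := by ext p; simp
      map_mul' := fun x y => by ext p; simp [mul_smul] }
  have hρ : ∀ g x, pe (ρ g x) = g • pe x := fun g x => pe.apply_symm_apply _
  have hρ' : ∀ g p q, g • toPt p = toPt q → ρ g p = q := fun g p q e => by
    show pe.symm (g • pe p) = q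
    rw [Equiv.symm_apply_eq]; exact e
  have hb : pe ((0 : Shrink.{0} R) : OnePoint (Shrink.{0} R)) = b := by
    show T 0 • b = b
    rw [hT0, one_smul]
  refine ⟨Shrink.{0} R, inferInstance, inferInstance, Classical.decEq _, pe, ρ, hρ, rfl, hb, ?_, ?_, ?_, ?_, ?_, ?_⟩
  · rw [injective_iff_map_eq_one]
    intro g hg
    haveI := K.z.faithful
    refine FaithfulSMul.eq_of_smul_eq_smul (α := Ω) fun w => ?_
    obtain ⟨p, rfl⟩ := pe.surjective w
    rw [← hρ, hg, one_smul]; rfl
  · intro x y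
    obtain ⟨g, hg⟩ := (K.z.transitive).exists_smul_eq (pe x) (pe y)
    exact ⟨g, pe.injective (by rw [hρ, hg])⟩
  · intro x
    refine ⟨T x, hρ' _ _ _ (K.smul_a (hTU x)), fun y => hρ' _ _ _ ?_⟩
    show T x • T y • b = T (y + x) • b
    rw [smul_smul, ← hTadd, add_comm]
  · intro g hg
    have hga : g • a = a := by
      have := hρ g ∞
      rw [hg] at this
      exact this.symm
    have hgb : g • b ≠ a := fun e => K.ne (smul_left_cancel g (hga.trans e.symm))
    obtain ⟨w, hw, hwb⟩ := K.reach hgb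
    have hh : w⁻¹ * g ∈ H := ⟨(show w⁻¹ * g ∈ stabilizer G a from mul_mem (inv_mem (K.le hw)) hga),
      show (w⁻¹ * g) • b = b by rw [mul_smul, inv_smul_eq_iff, hwb]⟩
    refine ⟨r.symm ⟨φ ⟨_, hh⟩, hφR _⟩, τ.symm (Additive.ofMul ⟨w, hw⟩), ?_, fun y => hρ' _ _ _ ?_⟩
    · intro e
      have h1 := hτmul ⟨_, hh⟩ 1
      rw [e, zero_mul, map_zero] at h1
      have h2 : φ ⟨_, hh⟩⁻¹ (φ ⟨_, hh⟩ (τ 1)) = 0 := by rw [h1, map_zero]
      replace h2 : (φ (⟨_, hh⟩⁻¹ * ⟨_, hh⟩)) (τ 1) = 0 := by rw [map_mul]; exact h2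
      rw [inv_mul_cancel, map_one] at h2
      exact one_ne_zero (τ.injective (h2.trans (map_zero τ).symm))
    · show g • T y • b = T _ • b
      rw [add_comm, hTadd, mul_smul]
      have e1 : T (τ.symm (Additive.ofMul ⟨w, hw⟩)) = w := by
        show ((τ (τ.symm (Additive.ofMul ⟨w, hw⟩))).toMul : G) = w
        rw [AddEquiv.apply_symm_apply]; rfl
      have e2 : T (r.symm ⟨φ ⟨_, hh⟩, hφR _⟩ * y) = (w⁻¹ * g) * T y * (w⁻¹ * g)⁻¹ := by
        show ((τ _).toMul : G) = _
        rw [← hτmul]; rfl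
      rw [e1, e2, K.conj_smul hh.2, mul_smul w⁻¹, smul_inv_smul]
  · rw [show Nat.card {g : G // ρ g ∞ = ∞} = Nat.card (stabilizer G a) from
      Nat.card_congr (Equiv.subtypeEquivRight fun g => ⟨fun h => ?_, fun h => hρ' _ _ _ h⟩), K.card_stab,
      ← Nat.card_congr (τ.toEquiv.trans Additive.toMul)]
    have := hρ g ∞
    rw [h] at this
    exact this.symm
  · rw [Nat.card_congr (τ.toEquiv.trans Additive.toMul)]
    have := K.card_U
    rw [Nat.card_eq_fintype_card (α := Ω), hcard] at this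
    omega

open H31 in
/-- `PSL₂(q)` recognised by its stabilisers. -/
theorem ZK.psl_of_half (K : ZK G a b U) (hcard : Fintype.card Ω = 2 * Nat.card ↥(stabilizer G a ⊓ stabilizer G b) + 2)
    (hcomm : ∀ h ∈ stabilizer G a ⊓ stabilizer G b, ∀ k ∈ stabilizer G a ⊓ stabilizer G b, h * k = k * h)
    (hswap : ∃ t : G, t * t = 1 ∧ t • a = b ∧ t • b = a ∧
      ∀ h ∈ stabilizer G a ⊓ stabilizer G b, t * h * t = h⁻¹)
    (hfix : Even (Nat.card ↥(stabilizer G a ⊓ stabilizer G b)) →
      ∀ s : G, s * s = 1 → s • a = b → ∃ c : Ω, s • c = c) :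
    ∃ (F : Type) (_ : Field F) (_ : Fintype F), ringChar F ≠ 2 ∧ Fintype.card F + 1 = Fintype.card Ω ∧
      Nonempty (G ≃* Matrix.ProjectiveSpecialLinearGroup (Fin 2) F) := by
  haveI := K.z.finite
  obtain ⟨F, _, _, _, e, ρ, hρ, he1, he2, h⟩ := K.exists_lineRep hcard hcomm
  obtain ⟨t, tt, ta, tb, tinv⟩ := hswap
  refine ⟨F, inferInstance, inferInstance, h.ringChar_ne_two, ?_, nonempty_mulEquiv_psl_of_range_eq ρ h.inj
    (LineWeyl.range_eq_of h ⟨t, e.injective ?_, e.injective ?_, tt, ?_, fun g hg => tinv g ⟨?_, ?_⟩⟩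
      fun hm s hs hsi => ?_)⟩
  · rw [h.fintype_card]; omega
  · rw [hρ, he1, he2, ta]
  · rw [hρ, he1, he2, tb]
  · intro e'
    rw [e', one_smul] at ta
    exact K.ne ta
  · show g • a = a
    rw [← he1, ← hρ, (IsLineRep.mem_torus.1 hg).1]
  · show g • b = b
    rw [← he2, ← hρ, (IsLineRep.mem_torus.1 hg).2]
  · obtain ⟨c, hc⟩ := hfix hm s hs (by rw [← he1, ← hρ, hsi, he2])
    exact ⟨e.symm c, e.injective (by rw [hρ, Equiv.apply_symm_apply, hc])⟩

/-- Even two-point stabilisers of order `(n - 1) / 2` give `PSL₂(q)`. -/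
theorem ZHyp.psl_of_even_half (Z : ZHyp G Ω) (hab : a ≠ b)
    (heven : Even (Nat.card ↥(stabilizer G a ⊓ stabilizer G b)))
    (hcard : Fintype.card Ω = 2 * Nat.card ↥(stabilizer G a ⊓ stabilizer G b) + 2) :
    ∃ (F : Type) (_ : Field F) (_ : Fintype F), ringChar F ≠ 2 ∧ Fintype.card F + 1 = Fintype.card Ω ∧
      Nonempty (G ≃* Matrix.ProjectiveSpecialLinearGroup (Fin 2) F) := by
  obtain ⟨U, K, -⟩ := Z.exists_ZK hab
  have hh := fun {g : G} (ga : g • a = b) (gb : g • b = a) => Z.even_half hab heven hcard ga gb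
  obtain ⟨t, ta, tb⟩ := Z.two hab hab.symm
  have tt := (hh ta tb).1
  have ht : ∀ h ∈ stabilizer G a ⊓ stabilizer G b, t * h * t = h⁻¹ := by
    intro h hm
    have h2 := (hh (g := t * h) (by rw [mul_smul, show h • a = a from hm.1, ta])
      (by rw [mul_smul, show h • b = b from hm.2, tb])).1
    exact eq_inv_of_mul_eq_one_left (by rw [← h2]; group)
  refine K.psl_of_half hcard (fun h hm k km => ?_) ⟨t, tt, ta, tb, ht⟩ fun _ s ss sa =>
    (hh sa (by rw [← sa, ← mul_smul, ss, one_smul])).2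
  have h3 : t * (h * k) * t = (t * h * t) * (t * k * t) := by
    rw [show (t * h * t) * (t * k * t) = t * h * (t * t) * k * t by group, tt]; group
  rw [ht _ (mul_mem hm km), ht h hm, ht k km, ← mul_inv_rev] at h3
  exact inv_injective h3

end Cfsg.Agent.H7
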