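import Cfsg.Agent.H21.Complement
import Cfsg.Agent.H21.UniqueSubgroup
import Cfsg.Agent.H22.Frobenius
import Cfsg.Agent.H23.QuaternionAut
import Cfsg.Agent.H78.IndexTwo

/-!
A group of even order acting fixed-point-freely, with at most one subgroup of order 3 and no normal subgroup of
index 2, has a normal quaternion subgroup of order 8 with centraliser of small index divisible by 3.
-/

set_option autoImplicit false
set_option linter.style.haveILetI false

namespace Cfsg.Agent.H7.CompTwo

universe u v

variable {A : Type u} [Group A] [Finite A]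

theorem pResidual_eq_top (hno : ∀ N : Subgroup A, N.Normal → N.index ≠ 2) : Cfsg.pResidual 2 A = ⊤ := by
  haveI : Fact (Nat.Prime 2) := ⟨Nat.prime_two⟩
  obtain ⟨k, hk⟩ := H22.exists_index_pResidual_eq (G := A) (p := 2)
  rcases k with _ | k
  · exact Subgroup.index_eq_one.1 hk
  exfalso
  have hc : Nat.card (A ⧸ Cfsg.pResidual 2 A) = 2 ^ (k + 1) := hk
  obtain ⟨K, hK⟩ := Sylow.exists_subgroup_card_pow_prime 2 (n := k) (G := A ⧸ Cfsg.pResidual 2 A)
    (hc ▸ pow_dvd_pow 2 k.le_succ)
  have hKi : K.index = 2 := by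
    have := K.card_mul_index
    rw [hK, hc, pow_succ] at this
    exact Nat.eq_of_mul_eq_mul_left (pow_pos two_pos k) this
  haveI := Subgroup.normal_of_index_eq_two hKi
  exact hno (K.comap (QuotientGroup.mk' _)) inferInstance
    ((Subgroup.index_comap_of_surjective K (QuotientGroup.mk'_surjective _)).trans hKi)

/-- Everything commuting with all elements of odd order is central. -/
theorem central_of_odd (hno : ∀ N : Subgroup A, N.Normal → N.index ≠ 2) {x : A}
    (h : ∀ g : A, Odd (orderOf g) → g * x = x * g) : ∀ g : A, g * x = x * g := by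
  intro g
  have hle : Cfsg.pResidual 2 A ≤ Subgroup.centralizer {x} := by
    rw [Cfsg.pResidual, Subgroup.closure_le]
    intro y hy
    exact Subgroup.mem_centralizer_singleton_iff.2 (h y (Nat.coprime_two_right.1 hy))
  rw [pResidual_eq_top hno] at hle
  exact Subgroup.mem_centralizer_singleton_iff.1 (hle (Subgroup.mem_top g))

/-- Elements of `2`-power order lie in the derived subgroup. -/
theorem mem_commutator (hno : ∀ N : Subgroup A, N.Normal → N.index ≠ 2) {q : A} {k : ℕ} (hq : q ^ 2 ^ k = 1) :
    q ∈ commutator A := by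
  have hodd : ¬ 2 ∣ Nat.card (Abelianization A) := fun h => by
    obtain ⟨N, hN, hi⟩ := H78.exists_normal_index_two_of_surjective (P := Abelianization A)
      (fun a b => mul_comm a b) h Abelianization.of (QuotientGroup.mk_surjective)
    exact hno N hN hi
  rw [← Abelianization.ker_of, MonoidHom.mem_ker, ← orderOf_eq_one_iff]
  refine Nat.eq_one_of_dvd_coprimes (Nat.Coprime.pow_left k (Nat.prime_two.coprime_iff_not_dvd.2 hodd))
    (orderOf_dvd_of_pow_eq_one (by rw [← map_pow, hq, map_one])) (orderOf_dvd_natCard _)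

/-- The derived subgroup centralises cyclic normal subgroups. -/
theorem commutator_centralizes (C : Subgroup A) [C.Normal] [IsCyclic C] {q : A} (hq : q ∈ commutator A) {c : A}
    (hc : c ∈ C) : q * c = c * q := by
  let e := IsCyclic.mulAutMulEquiv C
  let f : A →* (ZMod (Nat.card C))ˣ := e.toMonoidHom.comp MulAut.conjNormal
  have h1 := Abelianization.commutator_subset_ker f hq
  have h2 : (MulAut.conjNormal q : MulAut C) = 1 := e.injective (by rw [map_one]; exact h1)
  have h3 := congrArg Subtype.val (DFunLike.congr_fun h2 ⟨c, hc⟩)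
  rw [MulAut.conjNormal_apply] at h3
  exact mul_inv_eq_iff_eq_mul.1 h3

variable {V : Type v} [Group V] [Finite V] [Nontrivial V] (ψ : A →* MulAut V)
  (hfpf : ∀ e : A, e ≠ 1 → ∀ k : V, ψ e k = k → k = 1)
include hfpf

theorem sylow_shape {p : ℕ} [Fact p.Prime] (P : Sylow p A) :
    IsCyclic (P : Subgroup A) ∨ (p = 2 ∧ ∃ n : ℕ, Nonempty ((P : Subgroup A) ≃* QuaternionGroup (2 ^ n))) :=
  H21.cyclic_or_quaternion p P.2 (H21.unique_subgroup_of_fpf P.2 (ψ.comp P.1.subtype)
    fun e he k hk => hfpf e (fun h => he (Subtype.ext h)) k hk)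

theorem isCyclic_odd {p : ℕ} [Fact p.Prime] (hp : p ≠ 2) (P : Sylow p A) : IsCyclic (P : Subgroup A) :=
  (sylow_shape ψ hfpf P).resolve_right fun h => hp h.1

/-- An element of odd order normalising a `2`-subgroup either centralises it or the subgroup is quaternion of
order 8 and the cube centralises it. -/
theorem odd_normalizer {D : Subgroup A} (hD : IsPGroup 2 D) {g : A} (hg : g ∈ Subgroup.normalizer (D : Set A))
    (ho : Odd (orderOf g)) :
    g ∈ Subgroup.centralizer (D : Set A) ∨
      (Nonempty (QuaternionGroup 2 ≃* D) ∧ g ^ 3 ∈ Subgroup.centralizer (D : Set A)) := by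
  haveI : Fact (Nat.Prime 2) := ⟨Nat.prime_two⟩
  set σ : MulAut D := D.normalizerMonoidHom ⟨g, hg⟩ with hσ
  have hker : ∀ y : Subgroup.normalizer (D : Set A), D.normalizerMonoidHom y = 1 → (y : A) ∈ Subgroup.centralizer (D : Set A) := by
    intro y hy
    have : y ∈ D.normalizerMonoidHom.ker := hy
    rwa [Subgroup.normalizerMonoidHom_ker, Subgroup.mem_subgroupOf] at this
  have hσr : σ ^ orderOf g = 1 := by
    rw [hσ, ← map_pow, show (⟨g, hg⟩ : Subgroup.normalizer (D : Set A)) ^ orderOf g = 1 from
      Subtype.ext (pow_orderOf_eq_one g), map_one]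
  by_cases hσ1 : σ = 1
  · exact Or.inl (hker ⟨g, hg⟩ hσ1)
  right
  obtain ⟨P, hP⟩ := hD.exists_le_sylow
  rcases sylow_shape ψ hfpf P with hc | ⟨-, n, ⟨e⟩⟩
  · haveI := Subgroup.isCyclic_of_le hP
    exact absurd (H23.mulAut_eq_one_of_isCyclic hD σ ho hσr) hσ1
  let eD : D ≃* ((D.subgroupOf P).map e.toMonoidHom) :=
    (Subgroup.subgroupOfEquivOfLe hP).symm.trans ((D.subgroupOf P).equivMapOfInjective e.toMonoidHom e.injective)
  let τ := MulAut.congr eD
  obtain ⟨f⟩ := H23.q8_of_odd_auto _ (τ σ) ho (by rw [← map_pow, hσr, map_one])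
    (fun h => hσ1 (τ.injective (h.trans (map_one τ).symm)))
  let k : QuaternionGroup 2 ≃* D := f.trans eD.symm
  refine ⟨⟨k⟩, hker (⟨g, hg⟩ ^ 3) ?_⟩
  rw [map_pow, ← hσ]
  let α := MulAut.congr k.symm σ
  have hα : α ^ 3 = 1 := by
    rcases H23.q8_auto_order (α (QuaternionGroup.a 1)) (α (QuaternionGroup.xa 0))
        (fun x y => by simp only [← H23.q8Map_eq, map_mul])
        (fun x y h => α.injective (by simpa only [← H23.q8Map_eq] using h)) with h | h
    · refine MulEquiv.ext fun x => ?_
      simp only [← H23.q8Map_eq] at h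
      exact h x
    · exfalso
      simp only [← H23.q8Map_eq] at h
      have h4 : α ^ 4 = 1 := MulEquiv.ext fun x => h x
      have h1 : α ^ orderOf g = 1 := by rw [← map_pow, hσr, map_one]
      have h5 : orderOf α = 1 := Nat.eq_one_of_dvd_coprimes
        (show Nat.Coprime 4 (orderOf g) from (Nat.coprime_two_left.2 ho).pow_left 2)
        (orderOf_dvd_of_pow_eq_one h4) (orderOf_dvd_of_pow_eq_one h1)
      exact hσ1 ((MulAut.congr k.symm).injective ((orderOf_eq_one_iff.1 h5).trans (map_one _).symm))
  exact (MulAut.congr k.symm).injective (by rw [map_pow, map_one]; exact hα)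

/-- A nontrivial group without normal subgroups of index two, with at most one subgroup of order three. -/
theorem exists_quaternion (heven : 2 ∣ Nat.card A) (hno : ∀ N : Subgroup A, N.Normal → N.index ≠ 2)
    (hthree : ∀ S T : Subgroup A, Nat.card S = 3 → Nat.card T = 3 → S = T) :
    ∃ i j : A, i ^ 4 = 1 ∧ i * i ≠ 1 ∧ j * j = i * i ∧ j * i = i⁻¹ * j ∧
      3 ∣ (Subgroup.centralizer ({i, j} : Set A)).index ∧ 3 ∣ Nat.card (Subgroup.centralizer ({i, j} : Set A)) ∧
      (Subgroup.centralizer ({i, j} : Set A)).index ≤ 36 := by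
  classical
  haveI : Fact (Nat.Prime 2) := ⟨Nat.prime_two⟩
  haveI : Fact (Nat.Prime 3) := ⟨Nat.prime_three⟩
  -- a Sylow 2-subgroup is not central in a subgroup carrying it
  obtain ⟨P⟩ : Nonempty (Sylow 2 A) := inferInstance
  have hnc : ¬ IsCyclic (P : Subgroup A) := fun h => by
    obtain ⟨N, hN, hi⟩ := H78.exists_normal_index_two_of_cyclic_sylow P h heven
    exact hno N hN hi
  -- the normal `2'`-by-`2` subgroup without elements of order three
  obtain ⟨L, hL, hLi, hL3⟩ : ∃ L : Subgroup A, L.Normal ∧ (∃ k, L.index = 3 ^ k) ∧ ¬ 3 ∣ Nat.card L := by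
    by_cases h3 : 3 ∣ Nat.card A
    · obtain ⟨t, ht⟩ := exists_prime_orderOf_dvd_card' 3 h3
      have hT : Nat.card (Subgroup.zpowers t) = 3 := by rw [Nat.card_zpowers, ht]
      haveI hTn : (Subgroup.zpowers t).Normal := ⟨fun x hx g => by
        have e := hthree ((Subgroup.zpowers t).map (MulAut.conj g).toMonoidHom) (Subgroup.zpowers t)
          (by rw [Subgroup.card_map_of_injective (MulAut.conj g).injective, hT]) hT
        rw [← e]
        exact ⟨x, hx, rfl⟩⟩
      have htc : ∀ g : A, g * t = t * g := central_of_odd hno fun g hg => by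
        let f : A →* MulAut (Subgroup.zpowers t) := MulAut.conjNormal
        have h1 : f g ^ 2 = 1 := by
          refine orderOf_dvd_iff_pow_eq_one.1 ((orderOf_dvd_natCard _).trans (dvd_of_eq ?_))
          rw [IsCyclic.card_mulAut, hT, Nat.totient_prime Nat.prime_three]
        have h2 : f g = 1 := by
          rw [← orderOf_eq_one_iff]
          exact Nat.eq_one_of_dvd_coprimes (Nat.coprime_two_left.2 hg)
            (orderOf_dvd_of_pow_eq_one h1) (orderOf_map_dvd f g)
        have h3 := congrArg Subtype.val (DFunLike.congr_fun h2 ⟨t, Subgroup.mem_zpowers t⟩)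
        rw [MulAut.conjNormal_apply] at h3
        exact mul_inv_eq_iff_eq_mul.1 h3
      obtain ⟨R⟩ : Nonempty (Sylow 3 A) := inferInstance
      haveI := isCyclic_odd ψ hfpf (by norm_num) R
      haveI : IsMulCommutative (R : Subgroup A) := inferInstance
      have htR : t ∈ (R : Subgroup A) := by
        obtain ⟨Q, hQ⟩ := (IsPGroup.of_card (p := 3) (n := 1) (by rw [hT, pow_one]) :
          IsPGroup 3 (Subgroup.zpowers t)).exists_le_sylow
        obtain ⟨g, rfl⟩ := MulAction.exists_smul_eq A R Q
        have hh : t ∈ ((g • R : Sylow 3 A) : Subgroup A) := hQ (Subgroup.mem_zpowers t)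
        rw [H22.mem_smul_sylow] at hh
        rwa [show g⁻¹ * t * g = t by rw [mul_assoc, ← htc, inv_mul_cancel_left]] at hh
      have hle : Subgroup.normalizer ((R : Subgroup A) : Set A) ≤ Subgroup.centralizer ((R : Subgroup A) : Set A) := by
        refine (Sylow.normalizer_le_centralizer_or_le_commutator R).resolve_right fun hc => ?_
        open scoped IsMulCommutative in
        let τ : A →* (R : Subgroup A) := MonoidHom.transfer (MonoidHom.id (R : Subgroup A))
        have hk : τ t = 1 := Abelianization.commutator_subset_ker τ (hc htR)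
        open scoped IsMulCommutative in
        rw [show τ t = _ from MonoidHom.transfer_eq_pow _ t fun k g₀ _ => by
          rw [mul_assoc, ← (show Commute g₀ (t ^ k) from Commute.pow_right (htc g₀) k).eq, inv_mul_cancel_left]] at hk
        have h1 : orderOf t ∣ (R : Subgroup A).index := orderOf_dvd_of_pow_eq_one (congrArg Subtype.val hk)
        rw [ht] at h1
        exact R.not_dvd_index h1
      have hcompl := MonoidHom.ker_transferSylow_isComplement' R hle
      refine ⟨(MonoidHom.transferSylow R hle).ker, inferInstance, ?_, ?_⟩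
      · rw [hcompl.symm.index_eq_card]
        exact R.2.exists_card_eq
      · rw [← hcompl.index_eq_card]
        exact R.not_dvd_index
    · exact ⟨⊤, inferInstance, ⟨0, by simp⟩, fun h => h3 (by rwa [Subgroup.card_top] at h)⟩
  haveI := hL
  obtain ⟨k3, hk3⟩ := hLi
  have htwoL : ∀ x : A, ∀ k, x ^ 2 ^ k = 1 → x ∈ L := fun x k hx => by
    rw [← QuotientGroup.eq_one_iff, ← orderOf_eq_one_iff]
    refine Nat.eq_one_of_dvd_coprimes (Nat.Coprime.pow k k3 (by norm_num : Nat.Coprime 2 3))
      (orderOf_dvd_of_pow_eq_one (by rw [← QuotientGroup.mk_pow, hx]; rfl)) ?_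
    rw [← hk3]
    exact orderOf_dvd_natCard _
  have hPL : (P : Subgroup A) ≤ L := fun x hx => by
    obtain ⟨k, hk⟩ := P.2 ⟨x, hx⟩
    exact htwoL x k (congrArg Subtype.val hk)
  -- `L` has a normal 2-complement
  have hfc : H22.FrobeniusCondition 2 L := by
    intro D hD g hg hco
    rw [Nat.coprime_two_right] at hco
    have hg' : (g : A) ∈ Subgroup.normalizer ((D.map L.subtype : Subgroup A) : Set A) :=
      Subgroup.le_normalizer_map L.subtype ⟨g, hg, rfl⟩
    have hD' : IsPGroup 2 (D.map L.subtype) := hD.map L.subtype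
    have key : (g : A) ∈ Subgroup.centralizer ((D.map L.subtype : Subgroup A) : Set A) := by
      have hgo : Odd (orderOf (g : A)) := by rwa [Subgroup.orderOf_coe]
      rcases odd_normalizer ψ hfpf hD' hg' hgo with h | ⟨-, h⟩
      · exact h
      · have hc : Nat.Coprime (orderOf (g : A)) 3 := by
          rw [Subgroup.orderOf_coe, Nat.coprime_comm, Nat.prime_three.coprime_iff_not_dvd]
          exact fun h' => hL3 (h'.trans (orderOf_dvd_natCard g))
        exact Subgroup.zpowers_le.2 h ((mem_powers_iff_mem_zpowers).1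
          (exists_pow_eq_self_of_coprime hc.symm |>.imp fun m hm => hm))
    rw [Subgroup.mem_centralizer_iff] at key ⊢
    exact fun x hx => Subtype.ext (key x.1 ⟨x, hx, rfl⟩)
  obtain ⟨PL, N, hN, hNc⟩ := H22.hasNormalPComplement_of_frobenius hfc
  have hres : Cfsg.pResidual 2 L ≤ N := H22.pResidual_le_of_isPGroup_quotient N
    (IsPGroup.of_card (n := (Nat.card L).factorization 2) (by
      rw [← Subgroup.index_eq_card, hNc.symm.index_eq_card, PL.card_eq_multiplicity]))
  set O : Subgroup A := (Cfsg.pResidual 2 L).map L.subtype with hO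
  haveI : O.Normal := ConjAct.normal_of_characteristic_of_normal
  have hOodd : Odd (Nat.card O) := by
    rw [hO, Subgroup.card_map_of_injective L.subtype_injective]
    refine Odd.of_dvd_nat ?_ (Subgroup.card_dvd_of_le hres)
    rw [← hNc.index_eq_card, Nat.odd_iff, ← Nat.two_dvd_ne_zero]
    exact PL.not_dvd_index
  have hOz : IsZGroup O := ⟨fun p hp R => by
    haveI := Fact.mk hp
    rcases eq_or_ne p 2 with rfl | hp2
    · have : (R : Subgroup O) = ⊥ := Subgroup.card_eq_one.1 (by
        rw [R.card_eq_multiplicity, Nat.factorization_eq_zero_of_not_dvd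
          (fun h => Nat.not_even_iff_odd.2 hOodd (even_iff_two_dvd.2 h)), pow_zero])
      rw [this]; infer_instance
    · obtain ⟨S, hS⟩ := (R.2.map O.subtype).exists_le_sylow
      haveI := isCyclic_odd ψ hfpf hp2 S
      haveI := Subgroup.isCyclic_of_le hS
      exact isCyclic_of_surjective _
        ((R : Subgroup O).equivMapOfInjective O.subtype O.subtype_injective).symm.surjective⟩
  haveI : IsCyclic (commutator O) := IsZGroup.isCyclic_commutator O
  haveI : IsCyclic (Abelianization O) := inferInstance
  -- `P` centralises `O`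
  have hPO : ∀ q ∈ (P : Subgroup A), ∀ x ∈ O, q * x = x * q := by
    intro q hq x hx
    obtain ⟨k, hk⟩ := P.2 ⟨q, hq⟩
    replace hk : q ^ 2 ^ k = 1 := congrArg Subtype.val hk
    have hqA := mem_commutator hno hk
    let C : Subgroup A := (commutator O).map O.subtype
    haveI : C.Normal := ConjAct.normal_of_characteristic_of_normal
    haveI : IsCyclic C := isCyclic_of_surjective _
      ((commutator O).equivMapOfInjective O.subtype O.subtype_injective).surjective
    let f : A →* MulAut (Abelianization O) :=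
      { toFun := fun g => (MulAut.conjNormal g : MulAut O).abelianizationCongr
        map_one' := MulEquiv.ext fun y => QuotientGroup.induction_on y fun z => by
          show Abelianization.of ((MulAut.conjNormal (1 : A) : MulAut O) z) = _
          rw [map_one]; rfl
        map_mul' := fun g h => MulEquiv.ext fun y => QuotientGroup.induction_on y fun z => by
          show Abelianization.of ((MulAut.conjNormal (g * h) : MulAut O) z) = _
          rw [map_mul]; rfl }
    let e := IsCyclic.mulAutMulEquiv (Abelianization O)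
    have h1 : f q = 1 := e.injective (by
      rw [map_one]; exact Abelianization.commutator_subset_ker (e.toMonoidHom.comp f) hqA)
    have h2 : Abelianization.of ((MulAut.conjNormal q : MulAut O) ⟨x, hx⟩) = Abelianization.of ⟨x, hx⟩ :=
      DFunLike.congr_fun h1 (Abelianization.of ⟨x, hx⟩)
    set c : O := ⟨x, hx⟩⁻¹ * (MulAut.conjNormal q : MulAut O) ⟨x, hx⟩ with hc
    have hcC : (c : A) ∈ C := ⟨c, by
      rw [← Abelianization.ker_of, SetLike.mem_coe, MonoidHom.mem_ker, hc, map_mul, map_inv, h2, inv_mul_cancel], rfl⟩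
    have hqc := commutator_centralizes C hqA hcC
    have hconj : q * x * q⁻¹ = x * c := by
      rw [hc, Subgroup.coe_mul, Subgroup.coe_inv, MulAut.conjNormal_apply, ← mul_assoc, mul_inv_cancel, one_mul]
    have hpow : ∀ n : ℕ, q ^ n * x * (q ^ n)⁻¹ = x * (c : A) ^ n := by
      intro n
      induction n with
      | zero => simp
      | succ n ih =>
        calc q ^ (n + 1) * x * (q ^ (n + 1))⁻¹ = q * (q ^ n * x * (q ^ n)⁻¹) * q⁻¹ := by
              rw [pow_succ']; group
          _ = (q * x * q⁻¹) * (q * (c : A) ^ n * q⁻¹) := by rw [ih]; group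
          _ = x * c * (c : A) ^ n := by
              rw [hconj, (Commute.pow_right hqc n).eq, mul_inv_cancel_right]
          _ = _ := by rw [mul_assoc, ← pow_succ']
    have hc1 : (c : A) = 1 := by
      have h3 := hpow (2 ^ k)
      rw [hk, one_mul, inv_one, mul_one, left_eq_mul] at h3
      rw [← orderOf_eq_one_iff]
      exact Nat.eq_one_of_dvd_coprimes (Nat.Coprime.pow_left k (Nat.coprime_two_left.2 hOodd))
        (orderOf_dvd_of_pow_eq_one h3) (by rw [Subgroup.orderOf_coe]; exact orderOf_dvd_natCard c)
    rw [hc1, mul_one] at hconj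
    exact mul_inv_eq_iff_eq_mul.1 hconj
  -- so `P` is normal
  have hLres : L ≤ O ⊔ P := by
    have hPL' : ((P.subtype hPL : Sylow 2 L) : Subgroup L).map L.subtype = P := by
      rw [Sylow.coe_subtype, Subgroup.map_subgroupOf_eq_of_le hPL]
    rw [hO, ← hPL', ← Subgroup.map_sup, H22.pResidual_sup_sylow, ← MonoidHom.range_eq_map, L.range_subtype]
  haveI hPn : (P : Subgroup A).Normal := by
    have hOP : O ⊔ P ≤ Subgroup.normalizer ((P : Subgroup A) : Set A) := sup_le
      (fun o ho => by
        rw [Subgroup.mem_normalizer_iff]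
        intro x
        constructor
        · intro hx; rwa [← hPO x hx o ho, mul_inv_cancel_right]
        · intro hx
          have h' := hPO _ hx o ho
          rw [inv_mul_cancel_right] at h'
          have hx' : x = o * x * o⁻¹ := mul_left_cancel h'
          rw [hx']; exact hx)
      Subgroup.le_normalizer
    have hn : ((P.subtype hPL : Sylow 2 L) : Subgroup L).Normal := by
      refine ⟨fun x hx g => ?_⟩
      rw [Sylow.coe_subtype, Subgroup.mem_subgroupOf] at hx ⊢
      exact ((Subgroup.mem_normalizer_iff.1 (hOP (hLres g.2))) x.1).1 hx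
    haveI := Sylow.characteristic_of_normal _ hn
    rw [show (P : Subgroup A) = (((P.subtype hPL : Sylow 2 L) : Subgroup L)).map L.subtype by
      rw [Sylow.coe_subtype, Subgroup.map_subgroupOf_eq_of_le hPL]]
    exact ConjAct.normal_of_characteristic_of_normal
  have hmem : ∀ g : A, g ∈ Subgroup.normalizer ((P : Subgroup A) : Set A) := fun g => by
    rw [Subgroup.normalizer_eq_top]; trivial
  -- some element of odd order acts on it
  obtain ⟨g, hgo, hgc⟩ : ∃ g : A, Odd (orderOf g) ∧ g ∉ Subgroup.centralizer ((P : Subgroup A) : Set A) := by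
    by_contra hall
    push Not at hall
    have hcen : ∀ x ∈ (P : Subgroup A), ∀ g : A, g * x = x * g := fun x hx =>
      central_of_odd hno fun g hg => (Subgroup.mem_centralizer_iff.1 (hall g hg) x hx).symm
    haveI : IsMulCommutative (P : Subgroup A) := ⟨⟨fun x y => Subtype.ext (hcen y.1 y.2 x.1)⟩⟩
    exact hnc (H21.isCyclic_of_comm_fpf (ψ.comp P.1.subtype)
      fun e he k hk => hfpf e (fun h => he (Subtype.ext h)) k hk)
  obtain ⟨⟨f⟩, hg3⟩ := (odd_normalizer ψ hfpf P.2 (hmem g) hgo).resolve_left hgc
  set i : A := (f (QuaternionGroup.a 1)).1 with hi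
  set j : A := (f (QuaternionGroup.xa 0)).1 with hj
  have hcent : Subgroup.centralizer ({i, j} : Set A) = Subgroup.centralizer ((P : Subgroup A) : Set A) := by
    refine le_antisymm (fun x hx => Subgroup.mem_centralizer_iff.2 fun y hy => ?_)
      (Subgroup.centralizer_le (Set.insert_subset (f _).2 (Set.singleton_subset_iff.2 (f _).2)))
    obtain ⟨w, hw⟩ := f.surjective ⟨y, hy⟩
    have hiy := Subgroup.mem_centralizer_iff.1 hx i (Set.mem_insert _ _)
    have hjy := Subgroup.mem_centralizer_iff.1 hx j (Set.mem_insert_of_mem _ rfl)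
    rw [show y = (f w).1 from (congrArg Subtype.val hw).symm]
    obtain ⟨n, rfl | rfl⟩ := H23.q8_decomp w
    · rw [map_pow, Subgroup.coe_pow]
      exact (show Commute i x from hiy).pow_left _
    · rw [map_mul, map_pow, Subgroup.coe_mul, Subgroup.coe_pow]
      exact Commute.mul_left (show Commute j x from hjy) ((show Commute i x from hiy).pow_left _)
  set C := Subgroup.centralizer ({i, j} : Set A) with hC
  haveI hCn : C.Normal := by rw [hcent]; infer_instance
  have h3idx : 3 ∣ C.index := by
    have hgq : (QuotientGroup.mk g : A ⧸ C) ≠ 1 := fun h => hgc (hcent ▸ (QuotientGroup.eq_one_iff g).1 h)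
    have : orderOf (QuotientGroup.mk g : A ⧸ C) = 3 := orderOf_eq_prime (by
      rw [← QuotientGroup.mk_pow, QuotientGroup.eq_one_iff, hcent]; exact hg3) hgq
    rw [← this]
    exact orderOf_dvd_natCard _
  refine ⟨i, j, ?_, ?_, ?_, ?_, h3idx, ?_, ?_⟩
  · rw [hi, ← Subgroup.coe_pow, ← map_pow, show (QuaternionGroup.a 1 : QuaternionGroup 2) ^ 4 = 1 by decide,
      map_one, Subgroup.coe_one]
  · rw [hi, ← Subgroup.coe_mul, ← map_mul]
    intro h
    have := f.injective ((Subtype.ext h : f (QuaternionGroup.a 1 * QuaternionGroup.a 1) = 1).trans (map_one f).symm)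
    exact absurd this (by decide)
  · rw [hi, hj, ← Subgroup.coe_mul, ← Subgroup.coe_mul, ← map_mul, ← map_mul,
      show (QuaternionGroup.xa 0 * QuaternionGroup.xa 0 : QuaternionGroup 2) = QuaternionGroup.a 1 * QuaternionGroup.a 1 by decide]
  · rw [hi, hj, ← Subgroup.coe_inv, ← Subgroup.coe_mul, ← Subgroup.coe_mul, ← map_inv, ← map_mul, ← map_mul,
      show (QuaternionGroup.xa 0 * QuaternionGroup.a 1 : QuaternionGroup 2) = (QuaternionGroup.a 1)⁻¹ * QuaternionGroup.xa 0 by decide]
  · -- the central subgroup of order three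
    have hA3 : 3 ∣ Nat.card A := h3idx.trans C.index_dvd_card
    obtain ⟨t, ht⟩ := exists_prime_orderOf_dvd_card' 3 hA3
    have htC : t ∈ C := by
      by_contra htC
      rw [hcent] at htC
      refine htC (Subgroup.mem_centralizer_iff.2 fun q hq => ?_)
      obtain ⟨k, hk⟩ := P.2 ⟨q, hq⟩
      haveI : (Subgroup.zpowers t).Normal := ⟨fun x hx a => by
        have e := hthree ((Subgroup.zpowers t).map (MulAut.conj a).toMonoidHom) (Subgroup.zpowers t)
          (by rw [Subgroup.card_map_of_injective (MulAut.conj a).injective, Nat.card_zpowers, ht])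
          (by rw [Nat.card_zpowers, ht])
        rw [← e]
        exact ⟨x, hx, rfl⟩⟩
      exact commutator_centralizes (Subgroup.zpowers t) (mem_commutator hno (congrArg Subtype.val hk : q ^ 2 ^ k = 1))
        (Subgroup.mem_zpowers t)
    rw [← ht, ← Nat.card_zpowers]
    exact Subgroup.card_dvd_of_le (Subgroup.zpowers_le.2 htC)
  · -- the bound on the index
    let S : Set A := {x | ∃ q : QuaternionGroup 2, q * q ≠ 1 ∧ (f q).1 = x}
    have hS : Nat.card S ≤ 6 := by
      have : Nat.card {q : QuaternionGroup 2 // q * q ≠ 1} = 6 := by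
        rw [Nat.card_eq_fintype_card]; decide
      rw [← this]
      refine Nat.card_le_card_of_surjective (fun q => ⟨(f q.1).1, q.1, q.2, rfl⟩) ?_
      rintro ⟨x, q, hq, rfl⟩
      exact ⟨⟨q, hq⟩, rfl⟩
    have hconj : ∀ (a : A) (q : QuaternionGroup 2), q * q ≠ 1 → a * (f q).1 * a⁻¹ ∈ S := by
      intro a q hq
      refine ⟨f.symm ⟨a * (f q).1 * a⁻¹, hPn.conj_mem _ (f q).2 a⟩, fun h => hq ?_, by rw [MulEquiv.apply_symm_apply]⟩
      rw [← f.injective.eq_iff, map_one, map_mul, MulEquiv.apply_symm_apply] at h
      have h' : a * (f q).1 * a⁻¹ * (a * (f q).1 * a⁻¹) = 1 := congrArg Subtype.val h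
      rw [show a * (f q).1 * a⁻¹ * (a * (f q).1 * a⁻¹) = a * ((f q).1 * (f q).1) * a⁻¹ by group,
        conj_eq_one_iff] at h'
      exact f.injective (Subtype.ext (by rw [map_mul, Subgroup.coe_mul, h', map_one, Subgroup.coe_one]))
    let F : A ⧸ C → S × S := fun c => Quotient.liftOn' c
      (fun a => (⟨a * i * a⁻¹, hconj a _ (by decide)⟩, ⟨a * j * a⁻¹, hconj a _ (by decide)⟩))
      (fun a b hab => by
        rw [QuotientGroup.leftRel_apply] at hab
        have h1 := Subgroup.mem_centralizer_iff.1 hab
        refine Prod.ext (Subtype.ext ?_) (Subtype.ext ?_)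
        · show a * i * a⁻¹ = b * i * b⁻¹
          calc a * i * a⁻¹ = a * (i * (a⁻¹ * b)) * b⁻¹ := by group
            _ = a * ((a⁻¹ * b) * i) * b⁻¹ := by rw [h1 i (Set.mem_insert _ _)]
            _ = _ := by group
        · show a * j * a⁻¹ = b * j * b⁻¹
          calc a * j * a⁻¹ = a * (j * (a⁻¹ * b)) * b⁻¹ := by group
            _ = a * ((a⁻¹ * b) * j) * b⁻¹ := by rw [h1 j (Set.mem_insert_of_mem _ rfl)]
            _ = _ := by group)
    have hF : Function.Injective F := by
      intro c d h
      induction c using QuotientGroup.induction_on with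
      | _ a =>
        induction d using QuotientGroup.induction_on with
        | _ b =>
          rw [QuotientGroup.eq, hC, Subgroup.mem_centralizer_iff]
          rintro x (rfl | rfl)
          · have e : a * i * a⁻¹ = b * i * b⁻¹ := congrArg Subtype.val (congrArg Prod.fst h)
            calc i * (a⁻¹ * b) = a⁻¹ * (a * i * a⁻¹) * b := by group
              _ = _ := by rw [e]; group
          · have e : a * j * a⁻¹ = b * j * b⁻¹ := congrArg Subtype.val (congrArg Prod.snd h)
            calc j * (a⁻¹ * b) = a⁻¹ * (a * j * a⁻¹) * b := by group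
              _ = _ := by rw [e]; group
    haveI : Finite S := Set.toFinite S
    calc C.index ≤ Nat.card (S × S) := Nat.card_le_card_of_injective F hF
      _ ≤ 36 := by rw [Nat.card_prod]; exact Nat.mul_le_mul hS hS

end Cfsg.Agent.H7.CompTwo
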