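import Cfsg.Agent.H7.ZassEven
import Cfsg.Agent.H7.ZassLarge
import Cfsg.Agent.H7.CompIndexTwo
import Cfsg.Agent.S0728

/-!
Sharply triply transitive groups as Zassenhaus groups: for odd `q` the two-point stabiliser has a subgroup of index 2
normalised by a swapping involution, and the group is not simple.
-/

set_option autoImplicit false
set_option linter.style.haveILetI false

namespace Cfsg.Agent.H7

open MulAction

variable {G Ω : Type*} [Group G] [MulAction G Ω] [Fintype Ω] {a b : Ω}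

/-- A full two-point stabiliser is transitive on the remaining points. -/
theorem ZHyp.trans_rest (Z : ZHyp G Ω) (hab : a ≠ b)
    (hcard : Fintype.card Ω = Nat.card ↥(stabilizer G a ⊓ stabilizer G b) + 2) {x y : Ω} (hxa : x ≠ a) (hxb : x ≠ b)
    (hya : y ≠ a) (hyb : y ≠ b) : ∃ h ∈ stabilizer G a ⊓ stabilizer G b, h • x = y := by
  classical
  haveI := Z.finite
  let f : ↥(stabilizer G a ⊓ stabilizer G b) → {w : Ω // w ≠ a ∧ w ≠ b} := fun h =>
    ⟨h.1 • x, fun e => hxa (smul_left_cancel h.1 (e.trans h.2.1.symm)),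
      fun e => hxb (smul_left_cancel h.1 (e.trans h.2.2.symm))⟩
  have hc : Fintype.card {w : Ω // w ≠ a ∧ w ≠ b} + 2 = Fintype.card Ω := by
    rw [Fintype.card_subtype, ← Finset.card_pair hab,
      show (Finset.univ.filter fun w : Ω => w ≠ a ∧ w ≠ b) = ({a, b} : Finset Ω)ᶜ by ext w; simp,
      Finset.card_compl_add_card]
  have hf : Function.Bijective f := by
    refine Function.Injective.bijective_of_nat_card_le (fun h k e => Subtype.ext ?_) ?_
    · have e' : h.1 • x = k.1 • x := congrArg Subtype.val e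
      refine inv_mul_eq_one.1 (Z.three _ a b x hab hxb.symm hxa.symm ?_ ?_ ?_)
      · rw [mul_smul, inv_smul_eq_iff, show k.1 • a = a from k.2.1]; exact h.2.1.symm
      · rw [mul_smul, inv_smul_eq_iff, show k.1 • b = b from k.2.2]; exact h.2.2.symm
      · rw [mul_smul, ← e', inv_smul_smul]
    · rw [Nat.card_eq_fintype_card]; omega
  obtain ⟨h, hh⟩ := hf.2 ⟨y, hya, hyb⟩
  exact ⟨h.1, h.2, congrArg Subtype.val hh⟩

/-- With `d = n - 1` the group is sharply triply transitive. -/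
theorem ZHyp.sharply (Z : ZHyp G Ω) (hab : a ≠ b)
    (hcard : Fintype.card Ω = Nat.card ↥(stabilizer G a ⊓ stabilizer G b) + 2) :
    IsMultiplyPretransitive G Ω 3 ∧ ∀ t : Fin 3 ↪ Ω, stabilizer G t = ⊥ := by
  obtain ⟨c, hca, hcb⟩ := Z.exists_move hab
  refine ⟨isMultiplyPretransitive_iff.2 fun x y => ?_, fun t => ?_⟩
  · have key : ∀ t : Fin 3 ↪ Ω, ∃ g : G, g • t 0 = a ∧ g • t 1 = b ∧ g • t 2 = c := by
      intro t
      obtain ⟨g, g0, g1⟩ := Z.two (t.injective.ne (show (0 : Fin 3) ≠ 1 by decide)) hab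
      obtain ⟨h, hh, h2⟩ := Z.trans_rest hab hcard (x := g • t 2)
        (fun e => t.injective.ne (show (2 : Fin 3) ≠ 0 by decide) (smul_left_cancel g (e.trans g0.symm)))
        (fun e => t.injective.ne (show (2 : Fin 3) ≠ 1 by decide) (smul_left_cancel g (e.trans g1.symm))) hca hcb
      exact ⟨h * g, by rw [mul_smul, g0]; exact hh.1, by rw [mul_smul, g1]; exact hh.2, by rw [mul_smul, h2]⟩
    obtain ⟨g, g0, g1, g2⟩ := key x
    obtain ⟨k, k0, k1, k2⟩ := key y
    refine ⟨k⁻¹ * g, Function.Embedding.ext fun i => ?_⟩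
    show (k⁻¹ * g) • x i = y i
    rw [mul_smul, inv_smul_eq_iff]
    fin_cases i
    · exact g0.trans k0.symm
    · exact g1.trans k1.symm
    · exact g2.trans k2.symm
  · rw [Subgroup.eq_bot_iff_forall]
    intro g hg
    have h : ∀ i, g • t i = t i := fun i => congrFun (congrArg DFunLike.coe hg) i
    exact Z.three g (t 0) (t 1) (t 2) (t.injective.ne (by decide)) (t.injective.ne (by decide))
      (t.injective.ne (by decide)) (h 0) (h 1) (h 2)

/-- At most one subgroup of order three in the two-point stabiliser. -/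
theorem ZHyp.three_unique (Z : ZHyp G Ω) (hab : a ≠ b) (heven : Even (Fintype.card Ω)) (h6 : 6 ≤ Fintype.card Ω)
    (hcard : Fintype.card Ω = Nat.card ↥(stabilizer G a ⊓ stabilizer G b) + 2) (S T : Subgroup G)
    (hS : S ≤ stabilizer G a ⊓ stabilizer G b) (hT : T ≤ stabilizer G a ⊓ stabilizer G b)
    (hS3 : Nat.card S = 3) (hT3 : Nat.card T = 3) : S = T := by
  classical
  haveI := Z.finite
  haveI := Z.faithful
  obtain ⟨h3, hsharp⟩ := Z.sharply hab hcard
  let f := MulAction.toPermHom G Ω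
  have hf : Function.Injective f := MulAction.toPerm_injective
  have hle : ∀ {R : Subgroup G}, R ≤ stabilizer G a ⊓ stabilizer G b →
      R.map f.rangeRestrict ≤ stabilizer f.range a ⊓ stabilizer f.range b := by
    rintro R hR _ ⟨r, hr, rfl⟩
    exact ⟨(hR hr).1, (hR hr).2⟩
  have hfi : Function.Injective f.rangeRestrict := fun x y e => hf (congrArg Subtype.val e)
  refine Subgroup.map_injective hfi (Cfsg.Agent.S0728.result heven h6 f.range ?_ ?_ hab _ _ (hle hS) (hle hT)
    (by rw [Subgroup.card_map_of_injective hfi, hS3]) (by rw [Subgroup.card_map_of_injective hfi, hT3]))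
  · rw [isMultiplyPretransitive_iff] at h3 ⊢
    intro x y
    obtain ⟨g, hg⟩ := h3 x y
    exact ⟨⟨f g, g, rfl⟩, hg⟩
  · intro t
    rw [Subgroup.eq_bot_iff_forall]
    rintro ⟨_, g, rfl⟩ hg
    have h1 : g ∈ stabilizer G t := hg
    rw [hsharp, Subgroup.mem_bot] at h1
    exact Subtype.ext ((congrArg f h1).trans (map_one f))

/-- For odd `q` the two-point stabiliser of a sharply triply transitive group has an index-two subgroup. -/
theorem ZHyp.exists_index_two (Z : ZHyp G Ω) (hab : a ≠ b) (heven : Even (Fintype.card Ω))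
    (h6 : 6 ≤ Fintype.card Ω) (hcard : Fintype.card Ω = Nat.card ↥(stabilizer G a ⊓ stabilizer G b) + 2) :
    ∃ N : Subgroup ↥(stabilizer G a ⊓ stabilizer G b), N.index = 2 := by
  classical
  haveI := Z.finite
  by_contra hno
  push Not at hno
  obtain ⟨U, K, -⟩ := Z.exists_ZK hab
  have hd : Even (Nat.card ↥(stabilizer G a ⊓ stabilizer G b)) := by
    rw [hcard, Nat.even_add] at heven
    exact heven.2 even_two
  obtain ⟨hUc, z, hz, z1, zz, huniq, -, hzinv⟩ := K.exists_central_involution hd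
  have hUcard : Nat.card U = Nat.card ↥(stabilizer G a ⊓ stabilizer G b) + 1 := by
    have := K.card_U
    rw [Nat.card_eq_fintype_card (α := Ω)] at this
    omega
  obtain ⟨p, f, hp, hexp, hpf⟩ := K.elementary (by rw [Nat.card_eq_fintype_card, hcard]; omega) hUc
  haveI : Nontrivial U := Finite.one_lt_card_iff_nontrivial.1 (by rw [hUcard]; omega)
  have hp2 : p ≠ 2 := by
    rintro rfl
    have h2 : Even (Nat.card U) := by
      rw [hpf]
      rcases f with _ | f
      · rw [pow_zero] at hpf; omega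
      · exact ⟨2 ^ f, by ring⟩
    rw [hUcard, Nat.even_add_one] at h2
    exact h2 hd
  haveI : Fact p.Prime := ⟨hp⟩
  obtain ⟨⟨i, hi⟩, ⟨j, hj⟩, i4, i2, j2, ji, h3idx, h3c, hidx⟩ :=
    CompTwo.exists_quaternion (H21.conjHom K.le_normalizer) K.conjHom_fpf (even_iff_two_dvd.1 hd)
      (fun N _ => hno N) (fun S T hS hT => Subgroup.map_injective Subtype.val_injective
        (Z.three_unique hab heven h6 hcard _ _ (Subgroup.map_subtype_le S) (Subgroup.map_subtype_le T)
          (by rw [Subgroup.card_map_of_injective Subtype.val_injective, hS])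
          (by rw [Subgroup.card_map_of_injective Subtype.val_injective, hT])))
  have hiz : i * i = z := by
    refine huniq _ (mul_mem hi hi) (fun e => i2 (Subtype.ext e)) ?_
    have := congrArg Subtype.val i4
    rw [Subgroup.coe_pow, Subgroup.coe_one] at this
    rw [← this]
    simp only [pow_succ, pow_zero, one_mul, mul_assoc]
  have hjz : j * j = z := (congrArg Subtype.val j2).trans hiz
  have hji : j * i = i⁻¹ * j := congrArg Subtype.val ji
  set C := Subgroup.centralizer ({⟨i, hi⟩, ⟨j, hj⟩} : Set ↥(stabilizer G a ⊓ stabilizer G b))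
  -- the kernel as a vector space
  letI : CommGroup U := { (inferInstance : Group U) with
    mul_comm := fun x y => Subtype.ext (hUc x.1 x.2 y.1 y.2) }
  let ψ := H21.conjHom K.le_normalizer
  let I : U ≃* U := ψ ⟨i, hi⟩
  let J : U ≃* U := ψ ⟨j, hj⟩
  have hI2 : ∀ u, I (I u) = u⁻¹ := fun u => Subtype.ext (by
    show i * (i * u.1 * i⁻¹) * i⁻¹ = (u.1)⁻¹
    rw [← hzinv u.1 u.2, ← hiz]; group)
  have hJ2 : ∀ u, J (J u) = u⁻¹ := fun u => Subtype.ext (by
    show j * (j * u.1 * j⁻¹) * j⁻¹ = (u.1)⁻¹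
    rw [← hzinv u.1 u.2, ← hjz]; group)
  have hJI : ∀ u, J (I u) = (I (J u))⁻¹ := fun u => by
    have h1 : J (I u) = I.symm (J u) := Subtype.ext (by
      show j * (i * u.1 * i⁻¹) * j⁻¹ = i⁻¹ * (j * u.1 * j⁻¹) * i⁻¹⁻¹
      rw [show j * (i * u.1 * i⁻¹) * j⁻¹ = (j * i) * u.1 * (j * i)⁻¹ by group, hji]; group)
    rw [h1, MulEquiv.symm_apply_eq, map_inv, hI2, inv_inv]
  have hIJ : ∀ u, I (J u) = (J (I u))⁻¹ := fun u => by rw [hJI, inv_inv]
  have hup : ∀ u : U, u ^ p = 1 := fun u => Subtype.ext (by simpa using hexp u.1 u.2)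
  obtain ⟨x, y, hxy⟩ := ZMod.sq_add_sq p (-1)
  have hmod : ∀ (u : U) (m n : ℕ), (m : ZMod p) = n → u ^ m = u ^ n := by
    intro u m n h
    rw [ZMod.natCast_eq_natCast_iff'] at h
    rw [pow_eq_pow_mod m (hup u), pow_eq_pow_mod n (hup u), h]
  let E : U →* U := (I.toMonoidHom ^ x.val) * (J.toMonoidHom ^ y.val)
  have hE : ∀ u, E u = I u ^ x.val * J u ^ y.val := fun u => rfl
  have hEE : ∀ u, E (E u) = u := by
    intro u
    rw [hE (E u), hE u, map_mul, map_mul, map_pow, map_pow, map_pow, map_pow, hI2, hJ2, hJI, mul_pow, mul_pow,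
      ← pow_mul, ← pow_mul, ← pow_mul, ← pow_mul, inv_pow, inv_pow, inv_pow]
    have key : u ^ (x.val * x.val + y.val * y.val + 1) = 1 := by
      rw [hmod u _ 0 (by push_cast; simp only [ZMod.natCast_zmod_val]; linear_combination hxy), pow_zero]
    rw [pow_succ] at key
    calc _ = (u ^ (x.val * x.val + y.val * y.val))⁻¹ * (I (J u) ^ (y.val * x.val) * (I (J u) ^ (x.val * y.val))⁻¹) := by
          rw [pow_add, mul_inv]; ac_rfl
      _ = u := by rw [mul_comm y.val x.val, mul_inv_cancel, mul_one]; exact (eq_inv_of_mul_eq_one_right key).symm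
  let Kk : U ≃* U := J.trans I
  have hK : ∀ u, E (Kk u) = (Kk (E u))⁻¹ := by
    intro u
    show E (I (J u)) = (I (J (E u)))⁻¹
    rw [hE, hE, map_mul, map_mul, map_pow, map_pow, map_pow, map_pow, hI2 (J u), hJI (J u), hJ2, hJI u, mul_inv,
      ← inv_pow, ← inv_pow, map_inv, map_inv, hI2 (J u), inv_inv, inv_inv, inv_pow]
  let W : Subgroup U := E.eqLocus (MonoidHom.id U)
  have hW : ∀ u, u ∈ W ↔ E u = u := fun u => Iff.rfl
  obtain ⟨h, hh⟩ : ∃ h, 2 * h = p + 1 := ⟨(p + 1) / 2, Nat.mul_div_cancel' (by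
    rcases hp.eq_two_or_odd with e | e
    · exact absurd e hp2
    · omega)⟩
  have hsqrt : ∀ u : U, (u ^ h) * (u ^ h) = u := fun u => by
    rw [← pow_add, ← two_mul, hh, pow_succ, hup, one_mul]
  have hbij : Function.Bijective fun vw : W × W => (vw.1 : U) * Kk vw.2 := by
    constructor
    · rintro ⟨v, w⟩ ⟨v', w'⟩ e
      have e' : (v : U) * Kk w = v' * Kk w' := e
      have h2 := congrArg E e'
      rw [map_mul, map_mul, (hW _).1 v.2, (hW _).1 v'.2, hK, hK, (hW _).1 w.2, (hW _).1 w'.2] at h2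
      have hv : (v : U) * v = (v' : U) * v' := by
        have := congrArg₂ (· * ·) e' h2
        simpa [mul_mul_mul_comm] using this
      have hsq : ∀ r s : U, r * r = s * s → r = s := fun r s hrs => by
        rw [← hsqrt r, ← hsqrt s, ← mul_pow, ← mul_pow, hrs]
      have hv' := hsq _ _ hv
      rw [hv'] at e'
      exact Prod.ext (Subtype.ext hv') (Subtype.ext (Kk.injective (mul_left_cancel e')))
    · intro u
      refine ⟨(⟨(u * E u) ^ h, (hW _).2 ?_⟩, ⟨Kk.symm ((u * (E u)⁻¹) ^ h), (hW _).2 (Kk.injective ?_)⟩), ?_⟩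
      · rw [map_pow, map_mul, hEE, mul_comm]
      · have h1 := hK (Kk.symm ((u * (E u)⁻¹) ^ h))
        rw [MulEquiv.apply_symm_apply, map_pow, map_mul, map_inv, hEE] at h1
        rw [MulEquiv.apply_symm_apply, ← inv_inv (Kk (E _)), ← h1, ← inv_pow, mul_inv, inv_inv, mul_comm]
      · show (u * E u) ^ h * Kk (Kk.symm _) = u
        rw [MulEquiv.apply_symm_apply, ← mul_pow,
          show u * E u * (u * (E u)⁻¹) = u * u by rw [mul_mul_mul_comm, mul_inv_cancel, mul_one], mul_pow]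
        exact hsqrt u
  have hcardU : Nat.card W * Nat.card W = Nat.card U := by
    rw [← Nat.card_prod]; exact Nat.card_eq_of_bijective _ hbij
  -- the centraliser acts semiregularly on `W`
  have hCW : Nat.card C ∣ Nat.card W - 1 := by
    have hcI : ∀ c ∈ C, ∀ u, ψ c (E u) = E (ψ c u) := by
      intro c hc u
      have h1 : ⟨i, hi⟩ * c = c * ⟨i, hi⟩ := Subgroup.mem_centralizer_iff.1 hc _ (Set.mem_insert _ _)
      have h2 : ⟨j, hj⟩ * c = c * ⟨j, hj⟩ := Subgroup.mem_centralizer_iff.1 hc _ (Set.mem_insert_of_mem _ rfl)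
      rw [hE, hE, map_mul, map_pow, map_pow]
      congr 2
      · show ψ c (ψ ⟨i, hi⟩ u) = ψ ⟨i, hi⟩ (ψ c u)
        rw [← MulAut.mul_apply, ← map_mul, ← h1, map_mul, MulAut.mul_apply]
      · show ψ c (ψ ⟨j, hj⟩ u) = ψ ⟨j, hj⟩ (ψ c u)
        rw [← MulAut.mul_apply, ← map_mul, ← h2, map_mul, MulAut.mul_apply]
    let X : Type _ := {w : W // w ≠ 1}
    letI : MulAction C X :=
      { smul := fun c w => ⟨⟨ψ c.1 w.1.1, (hW _).2 (by rw [← hcI c.1 c.2, (hW _).1 w.1.2])⟩, fun e =>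
          w.2 (Subtype.ext ((ψ c.1).injective ((congrArg Subtype.val e).trans (map_one (ψ c.1)).symm)))⟩
        one_smul := fun w => Subtype.ext (Subtype.ext (by show ψ (1 : C).1 w.1.1 = w.1.1; simp))
        mul_smul := fun c e w => Subtype.ext (Subtype.ext (by show ψ _ w.1.1 = ψ _ (ψ _ w.1.1); simp)) }
    have hfree : ∀ w : X, stabilizer C w = ⊥ := fun w => by
      rw [Subgroup.eq_bot_iff_forall]
      intro c hc
      by_contra h1
      exact w.2 (Subtype.ext (K.conjHom_fpf c.1 (fun e => h1 (Subtype.ext e)) w.1.1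
        (congrArg Subtype.val (congrArg Subtype.val hc))))
    have h1 : Nat.card X = Nat.card W - 1 := by
      show Nat.card ↥({1}ᶜ : Set W) = _
      rw [Nat.card_coe_set_eq, Set.ncard_compl, Set.ncard_singleton]
    rw [← h1, Nat.card_congr (selfEquivOrbitsQuotientProd hfree), Nat.card_prod]
    exact dvd_mul_left _ _
  -- arithmetic
  obtain ⟨m, hm⟩ := hCW
  obtain ⟨k, hk⟩ := h3c
  have hprod := C.index_mul_card
  have hoddW : Odd (Nat.card W) := by
    rw [← Nat.odd_mul.trans (and_self_iff), hcardU, hUcard, Nat.odd_add_one, Nat.not_odd_iff_even]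
    exact hd
  obtain ⟨w, hw⟩ := hoddW
  have hd' : Nat.card ↥(stabilizer G a ⊓ stabilizer G b) = (2 * w) * (2 * w + 2) := by
    have h1 : (2 * w) * (2 * w + 2) + 1 = (2 * w + 1) * (2 * w + 1) := by ring
    rw [hw, hUcard, ← h1] at hcardU
    omega
  have hw0 : 0 < w := by
    rcases Nat.eq_zero_or_pos w with rfl | h
    · rw [hd'] at hcard; omega
    · exact h
  rw [hw, Nat.add_sub_cancel] at hm
  have hidx' : C.index = (2 * w + 2) * m := by
    refine Nat.eq_of_mul_eq_mul_right (Nat.card_pos (α := C)) ?_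
    rw [hprod, hd']
    calc 2 * w * (2 * w + 2) = Nat.card C * m * (2 * w + 2) := by rw [← hm]
      _ = _ := by ring
  have h3w : 3 ∣ 2 * w := ⟨k * m, by rw [hm, hk, mul_assoc]⟩
  have h3m : 3 ∣ m := by
    refine (Nat.Coprime.dvd_mul_left ?_).1 (hidx' ▸ h3idx)
    rw [Nat.prime_three.coprime_iff_not_dvd]
    omega
  obtain ⟨m', rfl⟩ := h3m
  have hm'0 : 0 < m' := by
    rcases Nat.eq_zero_or_pos m' with rfl | h
    · rw [mul_zero, mul_zero] at hm; omega
    · exact h
  have h9 : 9 ∣ 2 * w := ⟨k * m', by rw [hm, hk]; ring⟩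
  have : (2 * w + 2) * 3 ≤ 36 := by
    refine le_trans ?_ hidx
    rw [hidx']
    exact Nat.mul_le_mul_left _ (Nat.le_mul_of_pos_right _ hm'0)
  omega

/-- The index-two subgroup can be chosen invariant under a given element swapping the two points. -/
theorem ZHyp.exists_index_two_invariant (Z : ZHyp G Ω) (hab : a ≠ b) (heven : Even (Fintype.card Ω))
    (h6 : 6 ≤ Fintype.card Ω) (hcard : Fintype.card Ω = Nat.card ↥(stabilizer G a ⊓ stabilizer G b) + 2)
    {s : G} (sa : s • a = b) (sb : s • b = a) :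
    ∃ N : Subgroup ↥(stabilizer G a ⊓ stabilizer G b), N.index = 2 ∧
      ∀ h h' : ↥(stabilizer G a ⊓ stabilizer G b), (h' : G) = s * h * s⁻¹ → (h' ∈ N ↔ h ∈ N) := by
  classical
  have hex := Z.exists_index_two hab heven h6 hcard
  set H := stabilizer G a ⊓ stabilizer G b
  obtain ⟨N, hN⟩ := hex
  have hs : ∀ h ∈ H, s * h * s⁻¹ ∈ H := fun h hh =>
    ⟨(show (s * h * s⁻¹) • a = a by rw [mul_smul, mul_smul, inv_smul_eq_iff.2 sb.symm, hh.2, sb]),
     (show (s * h * s⁻¹) • b = b by rw [mul_smul, mul_smul, inv_smul_eq_iff.2 sa.symm, hh.1, sa])⟩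
  let σ : H →* H :=
    { toFun := fun h => ⟨s * h.1 * s⁻¹, hs h.1 h.2⟩
      map_one' := Subtype.ext (by simp)
      map_mul' := fun x y => Subtype.ext (by simp only [Subgroup.coe_mul]; group) }
  have hss : s * s ∈ H := ⟨(show (s * s) • a = a by rw [mul_smul, sa, sb]), (show (s * s) • b = b by rw [mul_smul, sb, sa])⟩
  have hσσ : ∀ h, σ (σ h) ∈ N ↔ h ∈ N := fun h => by
    have e : σ (σ h) = ⟨s * s, hss⟩ * h * ⟨s * s, hss⟩⁻¹ := Subtype.ext (by
      show s * (s * h.1 * s⁻¹) * s⁻¹ = _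
      simp only [Subgroup.coe_mul, Subgroup.coe_inv]; group)
    rw [e, Subgroup.mul_mem_iff_of_index_two hN, Subgroup.mul_mem_iff_of_index_two hN, inv_mem_iff]
    tauto
  by_cases hinv : ∀ h, σ h ∈ N ↔ h ∈ N
  · refine ⟨N, hN, fun h h' e => ?_⟩
    rw [show h' = σ h from Subtype.ext e, hinv]
  push Not at hinv
  -- the third subgroup above the intersection
  let M : Subgroup H :=
    { carrier := {h | h ∈ N ↔ σ h ∈ N}
      one_mem' := by simp [N.one_mem]
      mul_mem' := fun {x y} (hx : x ∈ N ↔ σ x ∈ N) (hy : y ∈ N ↔ σ y ∈ N) => by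
        show x * y ∈ N ↔ σ (x * y) ∈ N
        rw [map_mul, Subgroup.mul_mem_iff_of_index_two hN, Subgroup.mul_mem_iff_of_index_two hN, hx, hy]
      inv_mem' := fun {x} (hx : x ∈ N ↔ σ x ∈ N) => by
        show x⁻¹ ∈ N ↔ σ x⁻¹ ∈ N
        rw [map_inv, inv_mem_iff, inv_mem_iff, hx] }
  obtain ⟨r, hr⟩ := hinv
  have hrM : r ∉ M := fun (h : r ∈ N ↔ σ r ∈ N) => by tauto
  refine ⟨M, ?_, fun h h' e => ?_⟩
  · rw [Subgroup.index_eq_two_iff]
    refine ⟨r, fun x => ?_⟩
    show Xor ((x * r ∈ N) ↔ σ (x * r) ∈ N) (x ∈ N ↔ σ x ∈ N)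
    have hr' : ¬ (r ∈ N ↔ σ r ∈ N) := hrM
    rw [map_mul, Subgroup.mul_mem_iff_of_index_two hN, Subgroup.mul_mem_iff_of_index_two hN, xor_iff_not_iff]
    tauto
  · rw [show h' = σ h from Subtype.ext e]
    show (σ h ∈ N ↔ σ (σ h) ∈ N) ↔ (h ∈ N ↔ σ h ∈ N)
    rw [hσσ]
    tauto

end Cfsg.Agent.H7

namespace Cfsg.Agent.H7

open MulAction

variable {G Ω : Type*} [Group G] [MulAction G Ω] [Fintype Ω]

/-- A sharply triply transitive action as a Zassenhaus configuration with `|H| = n - 1`. -/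
theorem ZHyp.of_sharply [FaithfulSMul G Ω] (h4 : 4 ≤ Fintype.card Ω) (h3 : IsMultiplyPretransitive G Ω 3)
    (hsharp : ∀ t : Fin 3 ↪ Ω, stabilizer G t = ⊥) :
    ZHyp G Ω ∧ ∀ {a b : Ω}, a ≠ b → Fintype.card Ω = Nat.card ↥(stabilizer G a ⊓ stabilizer G b) + 2 := by
  classical
  have key : ∀ {x0 x1 x2 y0 y1 y2 : Ω}, x0 ≠ x1 → x1 ≠ x2 → x0 ≠ x2 → y0 ≠ y1 → y1 ≠ y2 → y0 ≠ y2 →
      ∃ g : G, g • x0 = y0 ∧ g • x1 = y1 ∧ g • x2 = y2 := by
    intro x0 x1 x2 y0 y1 y2 a1 a2 a3 b1 b2 b3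
    have hi : ∀ {u v w : Ω}, u ≠ v → v ≠ w → u ≠ w → Function.Injective ![u, v, w] := by
      intro u v w h1 h2 h3 i j hij
      fin_cases i <;> fin_cases j <;> simp_all
    obtain ⟨g, hg⟩ := (isMultiplyPretransitive_iff.1 h3) ⟨![x0, x1, x2], hi a1 a2 a3⟩ ⟨![y0, y1, y2], hi b1 b2 b3⟩
    exact ⟨g, congrFun (congrArg DFunLike.coe hg) 0, congrFun (congrArg DFunLike.coe hg) 1,
      congrFun (congrArg DFunLike.coe hg) 2⟩
  have h3f : ∀ g : G, ∀ u v w : Ω, u ≠ v → v ≠ w → u ≠ w → g • u = u → g • v = v → g • w = w → g = 1 := by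
    intro g u v w h1 h2 h3' e1 e2 e3
    have hi : Function.Injective ![u, v, w] := by
      intro i j hij
      fin_cases i <;> fin_cases j <;> simp_all
    have hm : g ∈ stabilizer G (⟨![u, v, w], hi⟩ : Fin 3 ↪ Ω) := by
      refine Function.Embedding.ext fun i => ?_
      show g • ![u, v, w] i = ![u, v, w] i
      fin_cases i
      · exact e1
      · exact e2
      · exact e3
    rwa [hsharp, Subgroup.mem_bot] at hm
  have hthird : ∀ u v : Ω, ∃ w, w ≠ u ∧ w ≠ v := by
    intro u v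
    by_contra hcon
    push Not at hcon
    have : (Finset.univ : Finset Ω) ⊆ {u, v} := fun w _ => by
      by_cases e : w = u <;> simp [e]
      exact hcon w e
    have h5 := (Finset.card_le_card this).trans Finset.card_le_two
    rw [Finset.card_univ] at h5
    omega
  have Z : ZHyp G Ω := by
    refine ⟨inferInstance, fun {u v x y} huv hxy => ?_, h3f, ?_⟩
    · obtain ⟨w, hwu, hwv⟩ := hthird u v
      obtain ⟨w', hwx, hwy⟩ := hthird x y
      obtain ⟨g, g0, g1, -⟩ := key huv hwv.symm hwu.symm hxy hwy.symm hwx.symm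
      exact ⟨g, g0, g1⟩
    · obtain ⟨s, t, u, v, hst, hsu, hsv, htu, htv, huv⟩ : ∃ s t u v : Ω, s ≠ t ∧ s ≠ u ∧ s ≠ v ∧ t ≠ u ∧ t ≠ v ∧ u ≠ v := by
        obtain ⟨f⟩ := Function.Embedding.nonempty_of_card_le (α := Fin 4) (β := Ω) (by simpa using h4)
        refine ⟨f 0, f 1, f 2, f 3, ?_, ?_, ?_, ?_, ?_, ?_⟩ <;> exact f.injective.ne (by decide)
      obtain ⟨g, g0, g1, g2⟩ := key hst htu hsu hst htv hsv
      refine ⟨g, fun e => huv ?_, s, t, hst, g0, g1⟩
      rw [e, one_smul] at g2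
      exact g2
  refine ⟨Z, fun {a b} hab => ?_⟩
  haveI := Z.finite
  obtain ⟨c, hca, hcb⟩ := hthird a b
  let f : ↥(stabilizer G a ⊓ stabilizer G b) → {w : Ω // w ≠ a ∧ w ≠ b} := fun h =>
    ⟨h.1 • c, fun e => hca (smul_left_cancel h.1 (e.trans h.2.1.symm)),
      fun e => hcb (smul_left_cancel h.1 (e.trans h.2.2.symm))⟩
  have hf : Function.Bijective f := by
    refine ⟨fun h k e => Subtype.ext ?_, fun w => ?_⟩
    · have e' : h.1 • c = k.1 • c := congrArg Subtype.val e
      refine inv_mul_eq_one.1 (Z.three _ a b c hab hcb.symm hca.symm ?_ ?_ ?_)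
      · rw [mul_smul, inv_smul_eq_iff, show k.1 • a = a from k.2.1]; exact h.2.1.symm
      · rw [mul_smul, inv_smul_eq_iff, show k.1 • b = b from k.2.2]; exact h.2.2.symm
      · rw [mul_smul, ← e', inv_smul_smul]
    · obtain ⟨g, g0, g1, g2⟩ := key hab hcb.symm hca.symm hab w.2.2.symm w.2.1.symm
      exact ⟨⟨g, g0, g1⟩, Subtype.ext g2⟩
  rw [Nat.card_eq_of_bijective f hf, Nat.card_eq_fintype_card, Fintype.card_subtype, ← Finset.card_pair hab,
    show (Finset.univ.filter fun w : Ω => w ≠ a ∧ w ≠ b) = ({a, b} : Finset Ω)ᶜ by ext w; simp,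
    Finset.card_compl_add_card]

end Cfsg.Agent.H7
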