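import Cfsg.Agent.H7.ZassLarge
import Cfsg.Agent.H50.InvolutionCAField
import Cfsg.Agent.H7.ZassSharp

/-!
Zassenhaus groups of odd degree with `|H| = n - 1` are `PSL₂(n)`, `n` a power of 2.
-/

set_option autoImplicit false
set_option linter.style.haveILetI false

namespace Cfsg.Agent.H7

open MulAction

variable {G Ω : Type*} [Group G] [MulAction G Ω] [Fintype Ω] {a b : Ω}

/-- Odd degree and `|H| = n - 1`: the group is `PSL₂(F)`, `|F| = n` a power of two. -/
theorem ZHyp.psl_of_odd_full (Z : ZHyp G Ω) (hab : a ≠ b) (hodd : Odd (Fintype.card Ω))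
    (hcard : Fintype.card Ω = Nat.card ↥(stabilizer G a ⊓ stabilizer G b) + 2) :
    ∃ (F : Type) (_ : Field F) (_ : Fintype F), ringChar F = 2 ∧ Fintype.card F + 1 = Fintype.card Ω ∧
      Nonempty (G ≃* Matrix.ProjectiveSpecialLinearGroup (Fin 2) F) := by
  classical
  haveI := Z.finite
  haveI : Fact (Nat.Prime 2) := ⟨Nat.prime_two⟩
  obtain ⟨U, K, hnil⟩ := Z.exists_ZK hab
  have hle : Nat.card Ω - 2 ≤ 2 * Nat.card ↥(stabilizer G a ⊓ stabilizer G b) := by
    rw [Nat.card_eq_fintype_card, hcard]; omega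
  have hc := K.comm hle hnil
  obtain ⟨p, f, hp, hexp, hpf⟩ := K.elementary hle hc
  have hUcard : Nat.card U + 1 = Fintype.card Ω := by
    rw [← Nat.card_eq_fintype_card]; exact K.card_U
  have hd2 : 2 ≤ Nat.card ↥(stabilizer G a ⊓ stabilizer G b) := by
    obtain ⟨h, h1, ha, hb⟩ := Z.exists_fix hab
    refine (Subgroup.one_lt_card_iff_ne_bot _).2 fun e => h1 ?_
    have hm : h ∈ stabilizer G a ⊓ stabilizer G b := ⟨ha, hb⟩
    rwa [e, Subgroup.mem_bot] at hm
  have hUev : Even (Nat.card U) := by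
    rw [← hUcard, Nat.odd_add_one, Nat.not_odd_iff_even] at hodd
    exact hodd
  have hp2 : p = 2 := by
    have h2 : 2 ∣ p ^ f := hpf ▸ even_iff_two_dvd.1 hUev
    exact ((Nat.prime_dvd_prime_iff_eq Nat.prime_two hp).1 (Nat.prime_two.dvd_of_dvd_pow h2)).symm
  subst hp2
  have hHodd : Odd (Nat.card ↥(stabilizer G a ⊓ stabilizer G b)) := (odd_degree_data Z hodd hab).1
  have hG := K.card_group
  have hfact : (Nat.card G).factorization 2 = f := by
    rw [hG, hpf, Nat.card_eq_fintype_card (α := Ω),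
      Nat.factorization_mul (by omega) (Nat.mul_ne_zero (pow_ne_zero _ (by norm_num)) (by omega)),
      Nat.factorization_mul (pow_ne_zero _ (by norm_num)) (by omega), Finsupp.add_apply, Finsupp.add_apply,
      Nat.factorization_eq_zero_of_not_dvd hodd.not_two_dvd_nat,
      Nat.factorization_eq_zero_of_not_dvd hHodd.not_two_dvd_nat, Nat.prime_two.factorization_pow,
      Finsupp.single_eq_same]
    omega
  let T : Sylow 2 G := Sylow.ofCard U (by rw [hfact, hpf])
  have hT : (T : Subgroup G) = U := Sylow.coe_ofCard _ _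
  have hnt : ∃ u ∈ U, u ≠ 1 := by
    obtain ⟨c, hca, hcb⟩ := Z.exists_move hab
    obtain ⟨u, hu, e⟩ := K.reach hca
    exact ⟨u, hu, fun e' => hcb (by rw [← e, e', one_smul])⟩
  have hsq : ∀ u ∈ U, u * u = 1 := fun u hu => by rw [← pow_two]; exact hexp u hu
  -- centralisers of involutions
  have hcentral : ∀ t : G, orderOf t = 2 → ∃ k : G, ∀ c : G, c * t = t * c → k * c * k⁻¹ ∈ U := by
    intro t ht
    have tt : t * t = 1 := by rw [← pow_two, ← ht, pow_orderOf_eq_one]
    have t1 : t ≠ 1 := fun e => by rw [e, orderOf_one] at ht; omega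
    obtain ⟨x, hx⟩ : ∃ x : Ω, t • x = x := by
      by_contra hcon
      push Not at hcon
      have hinvol : Function.Involutive (fun z : Ω => t • z) := fun z => by simp only [← mul_smul, tt, one_smul]
      have h := Equiv.Perm.card_compl_support_modEq (p := 2) (n := 1) (σ := hinvol.toPerm _)
        (Equiv.ext fun z => by simp [pow_succ, hinvol z])
      have h0 : (hinvol.toPerm _).supportᶜ = ∅ := by
        rw [Finset.eq_empty_iff_forall_notMem]
        intro z hz
        simp only [Finset.mem_compl, Equiv.Perm.mem_support, Function.Involutive.coe_toPerm, not_not] at hz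
        exact hcon z hz
      rw [h0, Finset.card_empty, Nat.ModEq, Nat.odd_iff.1 hodd] at h
      norm_num at h
    obtain ⟨k, hk⟩ := Z.transitive.exists_smul_eq x a
    set t' := k * t * k⁻¹ with ht'
    have ht'a : t' • a = a := by rw [ht', mul_smul, mul_smul, inv_smul_eq_iff.2 hk.symm, hx, hk]
    have ht'1 : t' ≠ 1 := fun e => t1 (conj_eq_one_iff.1 e)
    have ht't : t' * t' = 1 := by
      rw [ht', show k * t * k⁻¹ * (k * t * k⁻¹) = k * (t * t) * k⁻¹ by group, tt]; group
    have hfixonly : ∀ y, t' • y = y → y = a := by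
      intro y hy
      by_contra hya
      obtain ⟨g, ga, gy⟩ := Z.two hab (Ne.symm hya)
      have hm : g⁻¹ * t' * g ∈ stabilizer G a ⊓ stabilizer G b :=
        ⟨(show (g⁻¹ * t' * g) • a = a by rw [mul_smul, ga, mul_smul, ht'a, inv_smul_eq_iff, ga]),
         (show (g⁻¹ * t' * g) • b = b by rw [mul_smul, gy, mul_smul, hy, inv_smul_eq_iff, gy])⟩
      have ho : orderOf (⟨_, hm⟩ : ↥(stabilizer G a ⊓ stabilizer G b)) = 2 := by
        refine orderOf_eq_prime ?_ (fun e => ?_)
        · refine Subtype.ext ?_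
          show (g⁻¹ * t' * g) ^ 2 = 1
          rw [pow_two, show g⁻¹ * t' * g * (g⁻¹ * t' * g) = g⁻¹ * (t' * t') * g by group, ht't]; group
        · have e' : g⁻¹ * t' * g = 1 := congrArg Subtype.val e
          refine ht'1 ?_
          calc t' = g * (g⁻¹ * t' * g) * g⁻¹ := by group
            _ = 1 := by rw [e']; group
      exact hHodd.not_two_dvd_nat (ho ▸ orderOf_dvd_natCard _)
    have ht'U : t' ∈ U := by
      have hga : t' • b ≠ a := fun e => hab (smul_left_cancel t' (ht'a.trans e.symm))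
      obtain ⟨u, hu, e⟩ := K.reach hga
      have hm : u⁻¹ * t' ∈ stabilizer G a ⊓ stabilizer G b :=
        ⟨(show (u⁻¹ * t') • a = a by rw [mul_smul, ht'a, inv_smul_eq_iff, K.smul_a hu]),
         (show (u⁻¹ * t') • b = b by rw [mul_smul, inv_smul_eq_iff, e])⟩
      by_contra hnU
      have h1 : u⁻¹ * t' ≠ 1 := fun e' => hnU (by rw [← inv_mul_eq_one.1 e']; exact hu)
      -- the conjugation by `h := u⁻¹ t'` squares to the identity on `U`
      have key : ∀ v ∈ U, (u⁻¹ * t') * ((u⁻¹ * t') * v * (u⁻¹ * t')⁻¹) * (u⁻¹ * t')⁻¹ = v := by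
        intro v hv
        have hcomm : ∀ w ∈ U, u⁻¹ * w * u = w := fun w hw => by
          rw [hc _ (inv_mem hu) w hw, inv_mul_cancel_right]
        have h2 : t' * v * t'⁻¹ ∈ U := K.conj t' ht'a v hv
        have h3 : (u⁻¹ * t') * v * (u⁻¹ * t')⁻¹ = t' * v * t'⁻¹ := by
          rw [show (u⁻¹ * t') * v * (u⁻¹ * t')⁻¹ = u⁻¹ * (t' * v * t'⁻¹) * u by group, hcomm _ h2]
        rw [h3, show (u⁻¹ * t') * (t' * v * t'⁻¹) * (u⁻¹ * t')⁻¹ = u⁻¹ * ((t' * t') * v * (t' * t')⁻¹) * u by group,
          ht't, one_mul, inv_one, mul_one, hcomm v hv]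
      obtain ⟨v, hv, hv1⟩ := hnt
      have h4 : ((u⁻¹ * t') * (u⁻¹ * t')) = 1 := by
        by_contra hne
        refine hv1 (K.fpf (mul_mem hm hm) hne hv ?_)
        calc (u⁻¹ * t') * (u⁻¹ * t') * v * ((u⁻¹ * t') * (u⁻¹ * t'))⁻¹
            = (u⁻¹ * t') * ((u⁻¹ * t') * v * (u⁻¹ * t')⁻¹) * (u⁻¹ * t')⁻¹ := by group
          _ = v := key v hv
      have ho : orderOf (⟨_, hm⟩ : ↥(stabilizer G a ⊓ stabilizer G b)) = 2 :=
        orderOf_eq_prime (Subtype.ext (by show (u⁻¹ * t') ^ 2 = 1; rw [pow_two]; exact h4))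
          fun e => h1 (congrArg Subtype.val e)
      exact hHodd.not_two_dvd_nat (ho ▸ orderOf_dvd_natCard _)
    refine ⟨k, fun c hct => ?_⟩
    set c' := k * c * k⁻¹ with hc'
    have hct' : c' * t' = t' * c' := by
      calc c' * t' = k * (c * t) * k⁻¹ := by rw [hc', ht']; group
        _ = k * (t * c) * k⁻¹ := by rw [hct]
        _ = t' * c' := by rw [hc', ht']; group
    have hc'a : c' • a = a := hfixonly _ (by rw [← mul_smul, ← hct', mul_smul, ht'a])
    obtain ⟨u, hu, e⟩ := K.reach (y := c' • b) (fun e => hab (smul_left_cancel c' (hc'a.trans e.symm)))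
    have hm : u⁻¹ * c' ∈ stabilizer G a ⊓ stabilizer G b :=
      ⟨(show (u⁻¹ * c') • a = a by rw [mul_smul, hc'a, inv_smul_eq_iff, K.smul_a hu]),
       (show (u⁻¹ * c') • b = b by rw [mul_smul, inv_smul_eq_iff, e])⟩
    by_contra hnU
    refine ht'1 (K.fpf hm (fun e' => hnU (by rw [← inv_mul_eq_one.1 e']; exact hu)) ht'U ?_)
    rw [show (u⁻¹ * c') * t' * (u⁻¹ * c')⁻¹ = u⁻¹ * (c' * t' * c'⁻¹) * u by group, hct', mul_inv_cancel_right,
      hc _ (inv_mem hu) t' ht'U, inv_mul_cancel_right]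
  have hCA : H50.InvolutionCA T := by
    refine ⟨?_, ?_, fun t ht => ?_⟩
    · rw [hT]
      intro hcyc
      have h2 : Monoid.exponent U ∣ 2 := Monoid.exponent_dvd_of_forall_pow_eq_one fun u => Subtype.ext (by
        simpa using hexp u.1 u.2)
      rw [hcyc.exponent_eq_card] at h2
      have := Nat.le_of_dvd two_pos h2
      omega
    · rw [hT]
      intro hn
      obtain ⟨u, hu, u1⟩ := hnt
      haveI := Z.faithful
      refine u1 (FaithfulSMul.eq_of_smul_eq_smul (α := Ω) fun x => ?_)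
      rw [one_smul]
      obtain ⟨g, rfl⟩ := Z.transitive.exists_smul_eq a x
      have := K.smul_a (hn.conj_mem u hu g⁻¹)
      rwa [inv_inv, mul_smul, mul_smul, inv_smul_eq_iff] at this
    · obtain ⟨k, hk⟩ := hcentral t ht
      have hmem : ∀ c ∈ Subgroup.centralizer ({t} : Set G), k * c * k⁻¹ ∈ U := fun c hc =>
        hk c (Subgroup.mem_centralizer_singleton_iff.1 hc)
      refine ⟨⟨⟨fun x y => Subtype.ext ?_⟩⟩, fun c hc' => ?_⟩
      · have := hc _ (hmem x.1 x.2) _ (hmem y.1 y.2)
        rw [conj_mul, conj_mul] at this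
        exact mul_left_cancel (mul_right_cancel this)
      · have := hexp _ (hmem c hc')
        rwa [conj_pow, conj_eq_one_iff] at this
  obtain ⟨F, iF, iFf, hF, hiso⟩ := hCA.is_psl_two
  have hFU : Fintype.card F = Nat.card U := by rw [hF, hT]
  refine ⟨F, iF, iFf, ?_, by rw [hFU, hUcard], hiso⟩
  exact FiniteField.even_card_iff_char_two.2 (Nat.even_iff.1 (hFU ▸ hUev))

/-- In characteristic two `PGL₂` is `PSL₂`. -/
theorem pgl_equiv_psl {F : Type*} [Field F] [Fintype F] (hF : ringChar F = 2) :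
    Nonempty (Matrix.ProjGenLinGroup (Fin 2) F ≃* Matrix.ProjectiveSpecialLinearGroup (Fin 2) F) := by
  refine ⟨(MulEquiv.ofBijective Matrix.ProjectiveSpecialLinearGroup.toPGL
    ⟨Matrix.ProjectiveSpecialLinearGroup.toPGL_injective, Matrix.ProjectiveSpecialLinearGroup.toPGL_surj_of_roots
      fun r => ?_⟩).symm⟩
  obtain ⟨k, hk⟩ := FiniteField.isSquare_of_char_two hF (r : F)
  have hk0 : k ≠ 0 := fun e => r.ne_zero (by rw [hk, e, mul_zero])
  exact ⟨Units.mk0 k hk0, Units.ext (by simp [pow_two, hk])⟩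

/-- A sharply triply transitive group on three points is the symmetric group. -/
theorem toPerm_bijective_three [FaithfulSMul G Ω] (h3 : IsMultiplyPretransitive G Ω 3)
    (hc : Fintype.card Ω = 3) : Function.Bijective (MulAction.toPermHom G Ω) := by
  classical
  refine ⟨MulAction.toPerm_injective, fun σ => ?_⟩
  let e : Fin 3 ↪ Ω := ((finCongr hc.symm).trans (Fintype.equivFin Ω).symm).toEmbedding
  obtain ⟨g, hg⟩ := isMultiplyPretransitive_iff.1 h3 e (e.trans σ.toEmbedding)
  refine ⟨g, Equiv.ext fun x => ?_⟩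
  have he : Function.Surjective e := ((finCongr hc.symm).trans (Fintype.equivFin Ω).symm).surjective
  obtain ⟨i, rfl⟩ := he x
  exact congrFun (congrArg DFunLike.coe hg) i

/-- A sharply triply transitive group on four points is the symmetric group. -/
theorem toPerm_bijective_four [FaithfulSMul G Ω] (h3 : IsMultiplyPretransitive G Ω 3)
    (hc : Fintype.card Ω = 4) : Function.Bijective (MulAction.toPermHom G Ω) := by
  classical
  refine ⟨MulAction.toPerm_injective, fun σ => ?_⟩
  let q : Fin 4 ≃ Ω := (finCongr hc.symm).trans (Fintype.equivFin Ω).symm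
  let e : Fin 3 ↪ Ω := (Fin.castSuccEmb).trans q.toEmbedding
  obtain ⟨g, hg⟩ := isMultiplyPretransitive_iff.1 h3 e (e.trans σ.toEmbedding)
  have h : ∀ i : Fin 3, g • q i.castSucc = σ (q i.castSucc) := fun i => congrFun (congrArg DFunLike.coe hg) i
  refine ⟨g, Equiv.ext fun x => ?_⟩
  obtain ⟨j, rfl⟩ := q.surjective x
  show g • q j = σ (q j)
  induction j using Fin.lastCases with
  | cast i => exact h i
  | last =>
    obtain ⟨k, hk⟩ := q.surjective (σ⁻¹ (g • q (Fin.last 3)))
    induction k using Fin.lastCases with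
    | cast i =>
      exfalso
      have h1 : σ (q i.castSucc) = g • q (Fin.last 3) := by rw [hk]; exact σ.apply_symm_apply _
      rw [← h i] at h1
      exact Fin.castSucc_ne_last i (q.injective (smul_left_cancel g h1))
    | last => exact (σ.apply_symm_apply (g • q (Fin.last 3))).symm.trans (congrArg σ hk.symm)

end Cfsg.Agent.H7
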