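import Cfsg.Agent.H7.ZassSharp
import Cfsg.Agent.H37.Zassenhaus

/-!
A sharply triply transitive group of degree `q + 1`, `q` odd, is not simple: a transfer into the setwise stabiliser of
a pair, or the sign of the central involution.
-/

set_option autoImplicit false
set_option linter.style.haveILetI false

namespace Cfsg.Agent.H7

open MulAction

variable {G Ω : Type*} [Group G] [MulAction G Ω] [Fintype Ω] {a b : Ω}

/-- A Zassenhaus group with `|H| = n - 1` even has a homomorphism onto `{1, -1}`, nontrivial on `H`. -/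
theorem ZHyp.sharp_sign_hom (Z : ZHyp G Ω) (hab : a ≠ b)
    (hd : Even (Nat.card ↥(stabilizer G a ⊓ stabilizer G b)))
    (hcard : Fintype.card Ω = Nat.card ↥(stabilizer G a ⊓ stabilizer G b) + 2) :
    ∃ f : G →* ℤˣ, ∃ y ∈ stabilizer G a ⊓ stabilizer G b, f y = -1 := by
  classical
  haveI := Z.finite
  haveI := Z.faithful
  obtain ⟨U, K, -⟩ := Z.exists_ZK hab
  obtain ⟨-, z, hz, z1, zz, huniq, -, -⟩ := K.exists_central_involution hd
  have hfixz : ∀ c : Ω, z • c = c ↔ c = a ∨ c = b := by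
    refine fun c => ⟨fun h => ?_, fun h => by rcases h with rfl | rfl; exacts [hz.1, hz.2]⟩
    by_contra hc
    push Not at hc
    exact z1 (Z.three z a b c hab hc.2.symm hc.1.symm hz.1 hz.2 h)
  obtain ⟨t, ht⟩ := hd
  by_cases h4 : Even t
  swap
  · -- `z` is an odd permutation
    set σ : Equiv.Perm Ω := MulAction.toPerm z with hσ
    have hσ2 : σ ^ 2 = 1 := Equiv.ext fun c => by
      rw [pow_two, Equiv.Perm.mul_apply]
      show z • z • c = c
      rw [← mul_smul, zz, one_smul]
    have hsupp : σ.support.card = t + t := by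
      have : σ.support = ({a, b} : Finset Ω)ᶜ := by
        ext c
        simp [hσ, hfixz]
      rw [this, Finset.card_compl, Finset.card_pair hab, hcard, ht]
      omega
    have hrep : ∀ n ∈ σ.cycleType, n = 2 := fun n hn => by
      have h1 := (Equiv.Perm.dvd_of_mem_cycleType hn).trans (orderOf_dvd_of_pow_eq_one hσ2)
      have h2 := Equiv.Perm.two_le_of_mem_cycleType hn
      have := Nat.le_of_dvd two_pos h1
      omega
    have hsum := σ.sum_cycleType
    rw [Multiset.eq_replicate_card.2 hrep, Multiset.sum_replicate, smul_eq_mul, hsupp] at hsum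
    refine ⟨Equiv.Perm.sign.comp (MulAction.toPermHom G Ω), z, hz, ?_⟩
    rw [MonoidHom.comp_apply, show MulAction.toPermHom G Ω z = σ from rfl, Equiv.Perm.sign_of_cycleType,
      Multiset.eq_replicate_card.2 hrep, Multiset.sum_replicate, Multiset.card_replicate, smul_eq_mul]
    rw [Odd.neg_one_pow]
    · have hm : σ.cycleType.card = t := by omega
      rw [hm]
      obtain ⟨r, rfl⟩ := Nat.not_even_iff_odd.1 h4
      exact ⟨3 * r + 1, by ring⟩
  · -- transfer
    obtain ⟨r, rfl⟩ := h4
    have hevenΩ : Even (Fintype.card Ω) := Z.even_degree hab ⟨_, ht⟩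
    have hdpos : 0 < Nat.card ↥(stabilizer G a ⊓ stabilizer G b) := Nat.card_pos
    have h6 : 6 ≤ Fintype.card Ω := by omega
    obtain ⟨S, hS, hScard⟩ := Z.exists_axial hab ⟨_, ht⟩
    obtain ⟨s, hsS⟩ : S.Nonempty := Finset.card_pos.1 (by omega)
    obtain ⟨ss, sa, sb, c, hsc⟩ := hS s hsS
    have hex := Z.exists_index_two_invariant hab hevenΩ h6 hcard sa sb
    set H := stabilizer G a ⊓ stabilizer G b with hH
    obtain ⟨N, hN, hinv⟩ := hex
    have hca : c ≠ a := fun e => hab (by rw [e, sa] at hsc; exact hsc.symm)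
    have hcb : c ≠ b := fun e => hab (by rw [e, sb] at hsc; exact hsc)
    -- the setwise stabiliser of the pair
    let D : Subgroup G :=
      { carrier := {g | (g • a = a ∧ g • b = b) ∨ (g • a = b ∧ g • b = a)}
        one_mem' := Or.inl ⟨one_smul _ _, one_smul _ _⟩
        mul_mem' := fun {g k} hg hk => by
          rcases hg with ⟨g1, g2⟩ | ⟨g1, g2⟩ <;> rcases hk with ⟨k1, k2⟩ | ⟨k1, k2⟩
          · exact Or.inl ⟨by rw [mul_smul, k1, g1], by rw [mul_smul, k2, g2]⟩
          · exact Or.inr ⟨by rw [mul_smul, k1, g2], by rw [mul_smul, k2, g1]⟩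
          · exact Or.inr ⟨by rw [mul_smul, k1, g1], by rw [mul_smul, k2, g2]⟩
          · exact Or.inl ⟨by rw [mul_smul, k1, g2], by rw [mul_smul, k2, g1]⟩
        inv_mem' := fun {g} hg => by
          rcases hg with ⟨g1, g2⟩ | ⟨g1, g2⟩
          · exact Or.inl ⟨inv_smul_eq_iff.2 g1.symm, inv_smul_eq_iff.2 g2.symm⟩
          · exact Or.inr ⟨inv_smul_eq_iff.2 g2.symm, inv_smul_eq_iff.2 g1.symm⟩ }
    have hswapmem : ∀ g : D, g.1 ∉ H → g.1 • a = b ∧ g.1 • b = a := fun g hg =>
      g.2.resolve_left fun h => hg h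
    have hsH : s ∉ H := fun h => hab ((show s • a = a from h.1).symm.trans sa)
    have hπ : ∀ g : D, g.1 ∉ H → g.1 * s ∈ H := fun g hg =>
      ⟨(show (g.1 * s) • a = a by rw [mul_smul, sa, (hswapmem g hg).2]),
       (show (g.1 * s) • b = b by rw [mul_smul, sb, (hswapmem g hg).1])⟩
    let π : D → H := fun g => if h : g.1 ∈ H then ⟨g.1, h⟩ else ⟨g.1 * s, hπ g h⟩
    have hπin : ∀ (g : D) (h : g.1 ∈ H), π g = ⟨g.1, h⟩ := fun g h => dif_pos h
    have hπout : ∀ (g : D) (h : g.1 ∉ H), π g = ⟨g.1 * s, hπ g h⟩ := fun g h => dif_neg h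
    let χ : H → ℤˣ := fun h => if h ∈ N then 1 else -1
    have hχmul : ∀ x y : H, χ (x * y) = χ x * χ y := by
      intro x y
      have := Subgroup.mul_mem_iff_of_index_two hN (a := x) (b := y)
      by_cases hx : x ∈ N <;> by_cases hy : y ∈ N <;> simp_all [χ]
    have hsHn : ∀ h : H, s * h.1 * s⁻¹ ∈ H := fun h =>
      ⟨(show (s * h.1 * s⁻¹) • a = a by rw [mul_smul, mul_smul, inv_smul_eq_iff.2 sb.symm, h.2.2, sb]),
       (show (s * h.1 * s⁻¹) • b = b by rw [mul_smul, mul_smul, inv_smul_eq_iff.2 sa.symm, h.2.1, sa])⟩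
    have hχs : ∀ h : H, χ ⟨s * h.1 * s⁻¹, hsHn h⟩ = χ h := fun h => by
      simp only [χ, hinv h ⟨_, hsHn h⟩ rfl]
    have si : s⁻¹ = s := inv_eq_of_mul_eq_one_right ss
    let φ : D →* ℤˣ := MonoidHom.mk' (fun g => χ (π g)) fun g k => by
      show χ (π (g * k)) = χ (π g) * χ (π k)
      rw [← hχmul]
      by_cases hg : g.1 ∈ H <;> by_cases hk : k.1 ∈ H
      · rw [hπin g hg, hπin k hk, hπin (g * k) (mul_mem hg hk)]; rfl
      · have hgk : (g * k).1 ∉ H := fun e => hk (by simpa using mul_mem (inv_mem hg) e)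
        rw [hπin g hg, hπout k hk, hπout (g * k) hgk]
        exact congrArg χ (Subtype.ext (mul_assoc g.1 k.1 s))
      · have hgk : (g * k).1 ∉ H := fun e => hg (by simpa using mul_mem e (inv_mem hk))
        rw [hπout g hg, hπin k hk, hπout (g * k) hgk, hχmul, ← hχs ⟨k.1, hk⟩]
        conv_lhs => rw [show (⟨(g * k).1 * s, hπ (g * k) hgk⟩ : H) = ⟨g.1 * s, hπ g hg⟩ * ⟨s * k.1 * s⁻¹, hsHn ⟨k.1, hk⟩⟩ from
          Subtype.ext (by show g.1 * k.1 * s = g.1 * s * (s * k.1 * s⁻¹); rw [si, ← mul_assoc, ← mul_assoc, mul_assoc g.1 s s, ss, mul_one])]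
        rw [hχmul]
      · have hgk : (g * k).1 ∈ H := ⟨(show (g.1 * k.1) • a = a by rw [mul_smul, (hswapmem k hk).1, (hswapmem g hg).2]),
          (show (g.1 * k.1) • b = b by rw [mul_smul, (hswapmem k hk).2, (hswapmem g hg).1])⟩
        rw [hπout g hg, hπout k hk, hπin (g * k) hgk, hχmul, ← hχs ⟨k.1 * s, hπ k hk⟩]
        conv_lhs => rw [show (⟨(g * k).1, hgk⟩ : H) = ⟨g.1 * s, hπ g hg⟩ * ⟨s * (k.1 * s) * s⁻¹, hsHn ⟨k.1 * s, hπ k hk⟩⟩ from
          Subtype.ext (by
            show g.1 * k.1 = g.1 * s * (s * (k.1 * s) * s⁻¹)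
            rw [← mul_assoc, ← mul_assoc, ← mul_assoc, mul_assoc g.1 s s, ss, mul_one, mul_inv_cancel_right])]
        rw [hχmul]
    have hφ : ∀ g : D, φ g = χ (π g) := fun g => rfl
    -- `z` lies in `N`
    have hzN : (⟨z, hz⟩ : H) ∈ N := by
      haveI : Fact (Nat.Prime 2) := ⟨Nat.prime_two⟩
      obtain ⟨L, hL⟩ := Sylow.exists_subgroup_card_pow_prime 2 (n := 2) (G := H) (by rw [ht]; exact ⟨r, by ring⟩)
      have h1 : ¬ (∀ x ∈ L, x * x = 1) := by
        intro hall
        have hle : L ≤ Subgroup.zpowers (⟨z, hz⟩ : H) := fun x hx => by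
          rcases eq_or_ne x 1 with rfl | hx1
          · exact one_mem _
          · rw [show x = ⟨z, hz⟩ from Subtype.ext (huniq x.1 x.2 (fun e => hx1 (Subtype.ext e))
              (congrArg Subtype.val (hall x hx)))]
            exact Subgroup.mem_zpowers _
        have := Subgroup.card_le_of_le hle
        rw [hL, Nat.card_zpowers, Subgroup.orderOf_mk, orderOf_eq_prime (p := 2) (by rw [pow_two, zz]) z1] at this
        norm_num at this
      push Not at h1
      obtain ⟨x, hx, hx2⟩ := h1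
      have hx4 : (x * x) * (x * x) = 1 := by
        have h := pow_card_eq_one' (x := (⟨x, hx⟩ : L))
        rw [hL] at h
        have h' : x ^ (2 ^ 2) = 1 := congrArg Subtype.val h
        rw [← h', show (2 : ℕ) ^ 2 = 2 + 2 by norm_num, pow_add, pow_two]
      rw [show (⟨z, hz⟩ : H) = x * x from Subtype.ext (huniq (x * x).1 (x * x).2 (fun e => hx2 (Subtype.ext e))
        (congrArg Subtype.val hx4)).symm, Subgroup.mul_mem_iff_of_index_two hN]
    obtain ⟨y, hy⟩ : ∃ y : H, y ∉ N := by
      by_contra h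
      push Not at h
      have : N = ⊤ := eq_top_iff.2 fun x _ => h x
      rw [this, Subgroup.index_top] at hN
      omega
    have hy2 : y.1 * y.1 ≠ 1 := by
      intro e
      rcases eq_or_ne y.1 1 with h | h
      · exact hy (by rw [show y = 1 from Subtype.ext h]; exact N.one_mem)
      · exact hy (by rw [show y = ⟨z, hz⟩ from Subtype.ext (huniq y.1 y.2 h e)]; exact hzN)
    have hyD : y.1 ∈ D := Or.inl ⟨y.2.1, y.2.2⟩
    set g₀ := y.1 with hg₀
    letI : Fintype (Quotient (orbitRel (Subgroup.zpowers g₀) (G ⧸ D))) := Fintype.ofFinite _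
    have htr : MonoidHom.transfer φ g₀ = -1 := by
      rw [MonoidHom.transfer_eq_prod_quotient_orbitRel_zpowers_quot]
      rw [Finset.prod_eq_single (Quotient.mk'' ((1 : G) : G ⧸ D) : Quotient (orbitRel (Subgroup.zpowers g₀) (G ⧸ D)))
        ?_ (fun h => absurd (Finset.mem_univ _) h)]
      · set q := (Quotient.mk'' ((1 : G) : G ⧸ D) : Quotient (orbitRel (Subgroup.zpowers g₀) (G ⧸ D))) with hq
        have hout : q.out = ((1 : G) : G ⧸ D) := by
          have h := Quotient.mk_out (s := orbitRel (Subgroup.zpowers g₀) (G ⧸ D)) ((1 : G) : G ⧸ D)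
          obtain ⟨⟨k, hk⟩, hk'⟩ := h
          rw [show q.out = k • ((1 : G) : G ⧸ D) from hk'.symm]
          show ((k * 1 : G) : G ⧸ D) = ((1 : G) : G ⧸ D)
          rw [QuotientGroup.eq, mul_one, mul_one]
          exact inv_mem (Subgroup.zpowers_le.2 hyD hk)
        have hper : Function.minimalPeriod (g₀ • ·) q.out = 1 := by
          rw [Function.minimalPeriod_eq_one_iff_isFixedPt, hout]
          show ((g₀ * 1 : G) : G ⧸ D) = ((1 : G) : G ⧸ D)
          rw [QuotientGroup.eq, mul_one, mul_one]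
          exact inv_mem hyD
        have hgD : q.out.out ∈ D := by
          have h : ((q.out.out : G) : G ⧸ D) = ((1 : G) : G ⧸ D) := (QuotientGroup.out_eq' q.out).trans hout
          rw [QuotientGroup.eq, mul_one] at h
          exact inv_inv (q.out.out : G) ▸ inv_mem h
        rw [show (⟨_, QuotientGroup.out_conj_pow_minimalPeriod_mem D g₀ q.out⟩ : D) =
          ⟨q.out.out, hgD⟩⁻¹ * ⟨g₀, hyD⟩ * ⟨q.out.out, hgD⟩ from Subtype.ext (by show q.out.out⁻¹ * g₀ ^ Function.minimalPeriod (g₀ • ·) q.out * q.out.out = _; rw [hper, pow_one]; rfl),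
          map_mul, map_mul, map_inv, mul_comm (φ ⟨q.out.out, hgD⟩)⁻¹, inv_mul_cancel_right, hφ,
          hπin ⟨g₀, hyD⟩ y.2]
        exact if_neg hy
      · intro q _ hq1
        set g := q.out.out with hg
        set k := Function.minimalPeriod (g₀ • ·) q.out with hk
        have hgD : g ∉ D := by
          intro hmem
          refine hq1 ?_
          rw [← Quotient.out_eq' q]
          congr 1
          rw [← QuotientGroup.out_eq' q.out, QuotientGroup.eq, mul_one]
          exact inv_mem hmem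
        have hkm := QuotientGroup.out_conj_pow_minimalPeriod_mem D g₀ q.out
        obtain ⟨ca, cb⟩ : (g₀ ^ k) • a = a ∧ (g₀ ^ k) • b = b :=
          ⟨(pow_mem (y.2.1) k : g₀ ^ k ∈ stabilizer G a), (pow_mem (y.2.2) k : g₀ ^ k ∈ stabilizer G b)⟩
        -- a point of the other pair outside the first
        obtain ⟨w, hwa, hwb, hw⟩ : ∃ w, w ≠ a ∧ w ≠ b ∧ (w = g • a ∨ w = g • b) := by
          by_contra hcon
          push Not at hcon
          have h1 : g • a = a ∨ g • a = b := or_iff_not_imp_left.2 fun e => by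
            by_contra e'; exact (hcon (g • a) e e').1 rfl
          have h2 : g • b = a ∨ g • b = b := or_iff_not_imp_left.2 fun e => by
            by_contra e'; exact (hcon (g • b) e e').2 rfl
          rcases h1 with e1 | e1 <;> rcases h2 with e2 | e2
          · exact hab (smul_left_cancel g (e1.trans e2.symm))
          · exact hgD (Or.inl ⟨e1, e2⟩)
          · exact hgD (Or.inr ⟨e1, e2⟩)
          · exact hab (smul_left_cancel g (e1.trans e2.symm))
        have h2 : (g₀ ^ k * g₀ ^ k) • w = w := by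
          rcases hkm with ⟨e1, e2⟩ | ⟨e1, e2⟩ <;> rw [mul_smul, mul_smul, inv_smul_eq_iff] at e1 e2 <;>
            rcases hw with rfl | rfl <;> rw [mul_smul]
          · rw [e1, e1]
          · rw [e2, e2]
          · rw [e1, e2]
          · rw [e2, e1]
        have hk2 : g₀ ^ k * g₀ ^ k = 1 := Z.three _ a b w hab hwb.symm hwa.symm
          (by rw [mul_smul, ca, ca]) (by rw [mul_smul, cb, cb]) h2
        rw [hφ]
        rcases eq_or_ne (g₀ ^ k) 1 with hone | hne
        · rw [show (⟨_, hkm⟩ : D) = 1 from Subtype.ext (by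
            show q.out.out⁻¹ * g₀ ^ k * q.out.out = 1
            rw [hone, mul_one, inv_mul_cancel])]
          exact (hφ 1).symm.trans (map_one φ)
        have hzk : g₀ ^ k = z := huniq _ ⟨ca, cb⟩ hne hk2
        by_cases hin : (q.out.out⁻¹ * g₀ ^ k * q.out.out) ∈ H
        · rw [hπin ⟨_, hkm⟩ hin]
          refine if_pos ?_
          rw [show (⟨_, hin⟩ : H) = ⟨z, hz⟩ from Subtype.ext (huniq _ hin ?_ ?_)]
          · exact hzN
          · intro e
            replace e : q.out.out⁻¹ * g₀ ^ k * q.out.out = 1 := e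
            refine hne ?_
            calc g₀ ^ k = q.out.out * (q.out.out⁻¹ * g₀ ^ k * q.out.out) * q.out.out⁻¹ := by group
              _ = 1 := by rw [e]; group
          · rw [show q.out.out⁻¹ * g₀ ^ k * q.out.out * (q.out.out⁻¹ * g₀ ^ k * q.out.out) =
              q.out.out⁻¹ * (g₀ ^ k * g₀ ^ k) * q.out.out by group, hk2, mul_one, inv_mul_cancel]
        · rw [hπout ⟨_, hkm⟩ hin]
          obtain ⟨xa, xb⟩ := hswapmem ⟨_, hkm⟩ hin
          set x := q.out.out⁻¹ * g₀ ^ k * q.out.out with hx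
          have hxc : x • (q.out.out⁻¹ • a) = q.out.out⁻¹ • a := by
            rw [hx, mul_smul, mul_smul, smul_inv_smul, ca]
          have hca' : q.out.out⁻¹ • a ≠ a := fun e => hab (by rw [e] at hxc; exact (hxc.symm.trans xa))
          have hcb' : q.out.out⁻¹ • a ≠ b := fun e => hab (by rw [e] at hxc; exact (xb.symm.trans hxc))
          obtain ⟨h, hh, hhc⟩ := Z.trans_rest hab hcard hca hcb hca' hcb'
          have hxs : x = h * s * h⁻¹ := by
            refine inv_mul_eq_one.1 (Z.three _ a b (q.out.out⁻¹ • a) hab hcb'.symm hca'.symm ?_ ?_ ?_)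
            · rw [mul_smul, mul_smul, mul_smul, inv_smul_eq_iff.2 hh.1.symm, sa, hh.2, inv_smul_eq_iff, xa]
            · rw [mul_smul, mul_smul, mul_smul, inv_smul_eq_iff.2 hh.2.symm, sb, hh.1, inv_smul_eq_iff, xb]
            · rw [mul_smul, mul_smul, mul_smul, inv_smul_eq_iff.2 hhc.symm, hsc, hhc, inv_smul_eq_iff, hxc]
          rw [show (⟨x * s, hπ ⟨x, hkm⟩ hin⟩ : H) = ⟨h, hh⟩ * ⟨s * h⁻¹ * s⁻¹, hsHn ⟨h⁻¹, inv_mem hh⟩⟩ from
            Subtype.ext (by show x * s = h * (s * h⁻¹ * s⁻¹); rw [hxs, si, mul_assoc, mul_assoc, mul_assoc]),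
            hχmul, hχs ⟨h⁻¹, inv_mem hh⟩, ← hχmul,
            show (⟨h, hh⟩ * ⟨h⁻¹, inv_mem hh⟩ : H) = 1 from Subtype.ext (mul_inv_cancel h)]
          exact if_pos N.one_mem
    exact ⟨MonoidHom.transfer φ, g₀, y.2, htr⟩

/-- A finite Zassenhaus group with `|H| = n - 1` even is not simple. -/
theorem ZHyp.sharp_not_simple (Z : ZHyp G Ω) (hab : a ≠ b)
    (hd : Even (Nat.card ↥(stabilizer G a ⊓ stabilizer G b)))
    (hcard : Fintype.card Ω = Nat.card ↥(stabilizer G a ⊓ stabilizer G b) + 2) : ¬ IsSimpleGroup G := by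
  intro hsimple
  haveI := Z.finite
  haveI := Z.faithful
  obtain ⟨f, y, hy, hf⟩ := Z.sharp_sign_hom hab hd hcard
  rcases f.normal_ker.eq_bot_or_eq_top with h | h
  · have h1 := Nat.card_le_card_of_injective f ((MonoidHom.ker_eq_bot_iff f).1 h)
    rw [Nat.card_eq_fintype_card (α := ℤˣ), Fintype.card_units_int] at h1
    have h2 : Nat.card Ω ≤ Nat.card G := by
      haveI := Z.transitive
      exact Nat.card_le_card_of_surjective (fun g : G => g • a) fun y => exists_smul_eq G a y
    have h3 : 1 < Nat.card ↥(stabilizer G a ⊓ stabilizer G b) := by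
      refine (Subgroup.one_lt_card_iff_ne_bot _).2 fun e => ?_
      rw [e, Subgroup.mem_bot] at hy
      rw [hy, map_one] at hf
      exact absurd hf (by decide)
    rw [Nat.card_eq_fintype_card (α := Ω)] at h2
    omega
  · have h4 : f y = 1 := f.mem_ker.1 (h ▸ Subgroup.mem_top y)
    exact absurd (h4.symm.trans hf) (by decide)

end Cfsg.Agent.H7
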