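import Cfsg.Agent.H39.ZassSimple

/-!
Zassenhaus groups with two-point stabiliser of odd order inside the derived subgroup: it is abelian and inverted by
every swapping element (the argument of `H39.ZSetup.D_abelian`, where simplicity is only used through the derived
subgroup).
-/

set_option autoImplicit false
set_option linter.style.haveILetI false

namespace Cfsg.Agent.H7.ZOdd

open MulAction Cfsg.Agent.H39 Cfsg.Agent.H39.ZSetup
open scoped commutatorElement

variable {G Ω : Type*} [Group G] [MulAction G Ω] [Fintype Ω] (S : ZSetup G Ω)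

variable (hD : S.D ≤ commutator G)
include hD

lemma sigma_inverts (hodd : Odd S.e) (x : S.D) :
    Abelianization.of (S.sigma x) = (Abelianization.of x)⁻¹ := by
  haveI := S.finite
  classical
  haveI : Finite (Abelianization S.D) := Finite.of_surjective _ (QuotientGroup.mk'_surjective (commutator S.D))
  set A := Abelianization S.D
  let τ : A →* A := Abelianization.map S.sigma
  let f : A →* A := MonoidHom.id A * τ⁻¹
  have hf : ∀ y, f y = y * (τ y)⁻¹ := fun y => rfl
  have hfocal : S.D ≤ ⁅S.D, Subgroup.normalizer (S.D : Set G)⁆ := by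
    have h1 := H22.commutator_inf_eq_focal S.D
      ((S.coprime_index_D hodd).coprime_dvd_right (Subgroup.relIndex_dvd_card _ _))
    rw [inf_eq_right.2 hD] at h1
    refine h1.le.trans (H22.focalSubgroup_le_commutator_of_controls _ _ fun y hy g hg => ?_)
    rcases eq_or_ne y 1 with rfl | hy1
    · exact ⟨1, one_mem _, by simp⟩
    · exact ⟨g, S.mem_normalizer_D.2 (S.pair_of_conj_mem_D hy hy1 hg), rfl⟩
  have hle : ⁅S.D, Subgroup.normalizer (S.D : Set G)⁆ ≤
      (f.range.comap Abelianization.of).map S.D.subtype := by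
    refine Subgroup.commutator_le.2 fun y hy n hn => ?_
    rcases S.mem_normalizer_D.1 hn with ⟨ha, hb⟩ | ⟨ha, hb⟩
    · let y' : S.D := ⟨y, hy⟩
      let n' : S.D := ⟨n, ha, hb⟩
      refine ⟨⁅y', n'⁆, ?_, rfl⟩
      show Abelianization.of ⁅y', n'⁆ ∈ f.range
      rw [map_commutatorElement, commutatorElement_eq_one_iff_mul_comm.2 (mul_comm _ _)]
      exact one_mem _
    · let y' : S.D := ⟨y, hy⟩
      let d : S.D := ⟨n * S.w⁻¹, S.mul_w_inv_mem_D ha hb⟩
      refine ⟨y' * d * (S.sigma y')⁻¹ * d⁻¹, ?_, ?_⟩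
      · refine ⟨Abelianization.of y', ?_⟩
        rw [hf]
        simp only [map_mul, map_inv]
        show Abelianization.of y' * (Abelianization.of (S.sigma y'))⁻¹ = _
        rw [mul_right_comm (Abelianization.of y'), mul_assoc, mul_inv_cancel, mul_one]
      · show y * (n * S.w⁻¹) * (S.w * y * S.w⁻¹)⁻¹ * (n * S.w⁻¹)⁻¹ = ⁅y, n⁆
        rw [commutatorElement_def]
        group
  have hsurj : Function.Surjective f := by
    intro q
    obtain ⟨z, rfl⟩ := QuotientGroup.mk'_surjective (commutator S.D) q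
    obtain ⟨z', hz', he⟩ := (hfocal.trans hle) z.2
    obtain rfl : z' = z := Subtype.ext he
    exact hz'
  have hinj := Finite.injective_iff_surjective.2 hsurj
  have hfix : MonoidHom.FixedPointFree τ := fun q hq => hinj (by rw [hf, hq, mul_inv_cancel, map_one])
  have hinv : Function.Involutive τ := by
    intro q
    obtain ⟨z, rfl⟩ := QuotientGroup.mk'_surjective (commutator S.D) q
    show Abelianization.of (S.sigma (S.sigma z)) = Abelianization.of z
    have h : S.sigma (S.sigma z) = ⟨_, S.w_sq_mem_D⟩ * z * (⟨_, S.w_sq_mem_D⟩ : S.D)⁻¹ :=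
      Subtype.ext (by
        show S.w * (S.w * z * S.w⁻¹) * S.w⁻¹ = S.w * S.w * z * (S.w * S.w)⁻¹
        group)
    rw [h, map_mul, map_mul, map_inv, mul_right_comm, mul_inv_cancel, one_mul]
  exact congrFun (MonoidHom.FixedPointFree.coe_eq_inv_of_involutive hfix hinv) (Abelianization.of x)

/-- The two point stabiliser is commutative and inverted by `w`. -/
lemma D_abelian (hodd : Odd S.e) :
    (∀ x ∈ S.D, ∀ y ∈ S.D, x * y = y * x) ∧ ∀ x ∈ S.D, S.w * x * S.w⁻¹ = x⁻¹ := by
  haveI := S.finite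
  haveI := S.zGroup_D hodd
  haveI hcyc : IsCyclic (commutator S.D) := IsZGroup.isCyclic_commutator S.D
  set C := commutator S.D with hC
  have hm : ∀ c : S.D, c * S.sigma c ∈ C := fun c => by
    rw [hC, ← Abelianization.ker_of S.D, MonoidHom.mem_ker, map_mul,
      sigma_inverts S hD hodd, mul_inv_cancel]
  have hpow : ∀ c : S.D, ∃ k : ℤ, ∀ x ∈ C, c * x * c⁻¹ = x ^ k := fun c => by
    obtain ⟨k, hk⟩ := MonoidHom.map_cyclic
      (MulAut.conjNormal (H := C) c).toMonoidHom
    refine ⟨k, fun x hx => ?_⟩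
    have h := congrArg Subtype.val (hk ⟨x, hx⟩)
    simpa using h
  have hsC : ∀ x ∈ C, S.sigma x ∈ C := fun x hx => by
    rw [hC, ← Abelianization.ker_of S.D, MonoidHom.mem_ker] at hx ⊢
    rw [sigma_inverts S hD hodd, hx, inv_one]
  have hsurjC : ∀ x ∈ C, ∃ y ∈ C, S.sigma y = x := fun x hx => by
    let s : C → C := fun y => ⟨S.sigma y, hsC y y.2⟩
    have hinj : Function.Injective s := fun y z h => by
      have h' : S.w * (y : G) * S.w⁻¹ = S.w * (z : G) * S.w⁻¹ :=
        congrArg (fun t : C => ((t : S.D) : G)) h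
      exact Subtype.ext (Subtype.ext (mul_left_cancel (mul_right_cancel h')))
    obtain ⟨y, hy⟩ := Finite.surjective_of_injective hinj ⟨x, hx⟩
    exact ⟨y, y.2, congrArg Subtype.val hy⟩
  have hcommC : ∀ x ∈ C, ∀ y ∈ C, x * y = y * x := fun x hx y hy => by
    obtain ⟨g, hg⟩ := hcyc.exists_generator
    obtain ⟨i, hi⟩ := hg ⟨x, hx⟩
    obtain ⟨j, hj⟩ := hg ⟨y, hy⟩
    have h := congrArg Subtype.val (zpow_mul_comm g i j)
    simp only at hi hj
    rw [Subgroup.coe_mul, Subgroup.coe_mul, hi, hj] at h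
    exact h
  have hcentral : ∀ c : S.D, ∀ x ∈ C, c * x = x * c := by
    intro c x hx
    obtain ⟨k, hk⟩ := hpow c
    have h1 : ∀ z ∈ C, S.sigma c * z * (S.sigma c)⁻¹ = c * z * c⁻¹ := fun z hz => by
      obtain ⟨y, hy, rfl⟩ := hsurjC z hz
      rw [← map_inv, ← map_mul, ← map_mul, hk y hy, map_zpow, hk _ hz]
    have h2 : ∀ z ∈ C, c⁻¹ * z * c = c * z * c⁻¹ := fun z hz => by
      have e1 : S.sigma c = c⁻¹ * (c * S.sigma c) := (inv_mul_cancel_left _ _).symm
      have e2 : (c * S.sigma c) * z * (c * S.sigma c)⁻¹ = z := by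
        rw [hcommC _ (hm c) z hz, mul_inv_cancel_right]
      rw [← h1 z hz, e1]
      calc c⁻¹ * z * c = c⁻¹ * ((c * S.sigma c) * z * (c * S.sigma c)⁻¹) * c := by rw [e2]
        _ = _ := by group
    have h3 : Commute (c ^ 2) x := by
      have h := h2 x hx
      show c ^ 2 * x = x * c ^ 2
      calc c ^ 2 * x = c * (c * x * c⁻¹) * c := by rw [sq]; group
        _ = c * (c⁻¹ * x * c) * c := by rw [h]
        _ = x * c ^ 2 := by rw [sq]; group
    obtain ⟨j, hj⟩ := exists_pow_eq_self_of_coprime (x := c) (n := 2)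
      ((Nat.coprime_two_left.2 hodd).coprime_dvd_right (orderOf_dvd_natCard c))
    rw [← hj]
    exact (h3.pow_left j).eq
  have hker : (Abelianization.of : S.D →* Abelianization S.D).ker ≤ Subgroup.center S.D := by
    rw [Abelianization.ker_of]
    exact fun x hx => Subgroup.mem_center_iff.2 fun c => hcentral c x hx
  have hcomm : ∀ x y : S.D, x * y = y * x := fun x y =>
    commutative_of_cyclic_center_quotient (Abelianization.of : S.D →* Abelianization S.D) hker x y
  refine ⟨fun x hx y hy => congrArg Subtype.val (hcomm ⟨x, hx⟩ ⟨y, hy⟩), fun x hx => ?_⟩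
  have h := hm ⟨x, hx⟩
  have hbot : C = ⊥ := by
    refine (Subgroup.eq_bot_iff_forall _).2 fun z hz => ?_
    have : C ≤ ⊥ := by
      rw [hC, commutator_def, Subgroup.commutator_le]
      exact fun p _ q _ => Subgroup.mem_bot.2 (commutatorElement_eq_one_iff_mul_comm.2 (hcomm p q))
    exact Subgroup.mem_bot.1 (this hz)
  rw [hbot, Subgroup.mem_bot] at h
  exact eq_inv_of_mul_eq_one_right (congrArg Subtype.val h)

/-- Every element exchanging `a` and `b` is an involution inverting `D`. -/
lemma swapper (hodd : Odd S.e) {g : G} (ha : g • S.a = S.b) (hb : g • S.b = S.a) :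
    g * g = 1 ∧ g ≠ 1 ∧ ∀ x ∈ S.D, g * x * g⁻¹ = x⁻¹ := by
  haveI := S.finite
  obtain ⟨hcomm, hinv⟩ := D_abelian S hD hodd
  set d := g * S.w⁻¹ with hd'
  have hd : d ∈ S.D := S.mul_w_inv_mem_D ha hb
  have hg : g = d * S.w := by rw [hd', inv_mul_cancel_right]
  have hgx : ∀ x ∈ S.D, g * x * g⁻¹ = x⁻¹ := fun x hx => by
    have : g * x * g⁻¹ = d * (S.w * x * S.w⁻¹) * d⁻¹ := by rw [hg]; group
    rw [this, hinv x hx, hcomm d hd _ (inv_mem hx), mul_inv_cancel_right]
  have hgg : g * g ∈ S.D :=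
    S.mem_D.2 ⟨by rw [mul_smul, ha, hb], by rw [mul_smul, hb, ha]⟩
  refine ⟨?_, fun h => S.hab (by rw [h, one_smul] at ha; exact ha), hgx⟩
  have h4 : (g * g) * (g * g) = 1 := by
    have h := hgx _ hgg
    rw [mul_assoc g (g * g) g⁻¹, mul_assoc g g g⁻¹, mul_inv_cancel, mul_one] at h
    exact mul_eq_one_iff_eq_inv.2 h
  have hsub : (⟨g * g, hgg⟩ : S.D) ^ 2 = 1 := Subtype.ext (by rw [sq]; exact h4)
  have hord : orderOf (⟨g * g, hgg⟩ : S.D) = 1 :=
    Nat.eq_one_of_dvd_coprimes (Nat.coprime_two_left.2 hodd) (orderOf_dvd_of_pow_eq_one hsub)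
      (orderOf_dvd_natCard _)
  exact congrArg Subtype.val (orderOf_eq_one_iff.1 hord)

/-- The centraliser of a non-identity element of `D` is `D`. -/
lemma mem_D_of_commute (hodd : Odd S.e) {c d : G} (hd : d ∈ S.D) (hd1 : d ≠ 1)
    (h : c * d = d * c) : c ∈ S.D := by
  haveI := S.finite
  rcases S.pair_of_conj_mem_D hd hd1 (g := c) (by rwa [h, mul_inv_cancel_right]) with hc | ⟨ha, hb⟩
  · exact hc
  · exfalso
    have h2 := (swapper S hD hodd ha hb).2.2 d hd
    rw [h, mul_inv_cancel_right] at h2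
    have hsub : (⟨d, hd⟩ : S.D) ^ 2 = 1 :=
      Subtype.ext (by rw [sq]; exact mul_eq_one_iff_eq_inv.2 h2)
    have hord : orderOf (⟨d, hd⟩ : S.D) = 1 :=
      Nat.eq_one_of_dvd_coprimes (Nat.coprime_two_left.2 hodd) (orderOf_dvd_of_pow_eq_one hsub)
        (orderOf_dvd_natCard _)
    exact hd1 (congrArg Subtype.val (orderOf_eq_one_iff.1 hord))

omit hD in
/-- Without normal complements the two-point stabiliser lies in the derived subgroup. -/
theorem le_commutator (hodd : Odd S.e)
    (hno : ∀ q : ℕ, q.Prime → q ∣ S.e → ¬ ∃ N : Subgroup G, N.Normal ∧ N.index = q ^ (Nat.card G).factorization q) :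
    S.D ≤ commutator G := by
  haveI := S.finite
  haveI := S.zGroup_D hodd
  suffices h : Nat.card S.D ∣ Nat.card ((commutator G).subgroupOf S.D) by
    rw [← Subgroup.subgroupOf_eq_top]
    exact Subgroup.eq_top_of_card_eq _ (Nat.dvd_antisymm (Subgroup.card_subgroup_dvd_card _) h)
  refine (Nat.dvd_iff_prime_pow_dvd_dvd _ _).2 fun q k hq hqk => ?_
  rcases k with _ | k
  · simp
  haveI := Fact.mk hq
  have hqe : q ∣ Nat.card S.D := (dvd_pow_self q k.succ_ne_zero).trans hqk
  obtain ⟨R⟩ : Nonempty (Sylow q S.D) := inferInstance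
  refine ((pow_dvd_pow q ((Nat.Prime.pow_dvd_iff_le_factorization hq Nat.card_pos.ne').1 hqk)).trans ?_).trans (Subgroup.card_dvd_of_le (H := (R : Subgroup S.D)) ?_)
  · rw [R.card_eq_multiplicity]
  -- a Sylow subgroup of `D` is a Sylow subgroup of `G`
  have hcard : Nat.card ((R : Subgroup S.D).map S.D.subtype) = q ^ (Nat.card G).factorization q := by
    rw [Subgroup.card_map_of_injective S.D.subtype_injective, R.card_eq_multiplicity]
    congr 1
    rw [← S.D.index_mul_card, Nat.factorization_mul Subgroup.index_ne_zero_of_finite Nat.card_pos.ne',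
      Finsupp.add_apply, Nat.factorization_eq_zero_of_not_dvd (n := S.D.index), zero_add]
    intro hdv
    exact hq.not_dvd_one (Nat.Coprime.gcd_eq_one (S.coprime_index_D hodd) ▸ Nat.dvd_gcd hdv hqe)
  let R' : Sylow q G := Sylow.ofCard _ hcard
  have hR' : (R' : Subgroup G) = (R : Subgroup S.D).map S.D.subtype := Sylow.coe_ofCard _ hcard
  haveI : IsCyclic (R' : Subgroup G) := by
    rw [hR']
    exact isCyclic_of_surjective _ ((R : Subgroup S.D).equivMapOfInjective _ S.D.subtype_injective).surjective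
  intro x hx
  show (x : G) ∈ commutator G
  refine (Sylow.normalizer_le_centralizer_or_le_commutator R').resolve_left (fun hle => hno q hq hqe ?_)
    (hR' ▸ Subgroup.mem_map_of_mem S.D.subtype hx)
  exact ⟨(MonoidHom.transferSylow R' hle).ker, inferInstance, by
    rw [(MonoidHom.ker_transferSylow_isComplement' R' hle).symm.index_eq_card, R'.card_eq_multiplicity]⟩

end Cfsg.Agent.H7.ZOdd
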