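import Cfsg.Agent.H7.ZassIdent
import Cfsg.Agent.H7.ZassEvenQ
import Cfsg.Agent.H7.ZassNotSimple
import Cfsg.Agent.H7.ZassOddComp

/-!
The case distinction of the classification of Zassenhaus groups, given the two inequalities of Feit (as hypotheses, so
that this file does not depend on the character theory).
-/

set_option autoImplicit false
set_option linter.style.haveILetI false

namespace Cfsg.Agent.H7

open MulAction

variable {G Ω : Type*} [Group G] [MulAction G Ω] [Fintype Ω] {a b : Ω} {U : Subgroup G}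

/-- Odd `|H|` inside the derived subgroup and `n - 1 = 2 d`: `PSL₂(q)`. -/
theorem ZK.psl_of_odd_half (K : ZK G a b U) (hodd : Odd (Nat.card ↥(stabilizer G a ⊓ stabilizer G b)))
    (hD : stabilizer G a ⊓ stabilizer G b ≤ commutator G)
    (hcard : Fintype.card Ω = 2 * Nat.card ↥(stabilizer G a ⊓ stabilizer G b) + 2) :
    ∃ (F : Type) (_ : Field F) (_ : Fintype F), ringChar F ≠ 2 ∧ Fintype.card F + 1 = Fintype.card Ω ∧
      Nonempty (G ≃* Matrix.ProjectiveSpecialLinearGroup (Fin 2) F) := by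
  obtain ⟨S, rfl, rfl⟩ := H39.exists_zsetup K.z K.ne
  obtain ⟨t, ta, tb⟩ := K.z.two K.ne K.ne.symm
  obtain ⟨tt, -, hinv⟩ := ZOdd.swapper S hD hodd ta tb
  refine K.psl_of_half hcard (ZOdd.D_abelian S hD hodd).1 ⟨t, tt, ta, tb, fun h hh => ?_⟩
    (fun he => absurd hodd (Nat.not_odd_iff_even.2 he))
  have := hinv h hh
  rwa [inv_eq_of_mul_eq_one_right tt] at this

/-- Abelian kernel: sharply triply transitive or `PSL₂(q)`, `q` odd. -/
theorem abelian_kernel_cases (hZ : Cfsg.IsZassenhausGroup G Ω) (K : ZK G a b U)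
    (hfeit : Odd (Nat.card ↥(stabilizer G a ⊓ stabilizer G b)) →
      Fintype.card Ω - 2 ≤ 2 * Nat.card ↥(stabilizer G a ⊓ stabilizer G b))
    (hfeitN : ∀ N : Subgroup G, Cfsg.IsZassenhausGroup N Ω → U ≤ N →
      Odd (Nat.card ↥(stabilizer N a ⊓ stabilizer N b)) →
      Fintype.card Ω - 2 ≤ 2 * Nat.card ↥(stabilizer N a ⊓ stabilizer N b)) :
    (IsMultiplyPretransitive G Ω 3 ∧ ∀ t : Fin 3 ↪ Ω, stabilizer G t = ⊥) ∨
      ∃ (F : Type) (_ : Field F) (_ : Fintype F), ringChar F ≠ 2 ∧ Fintype.card F + 1 = Fintype.card Ω ∧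
        Nonempty (G ≃* Matrix.ProjectiveSpecialLinearGroup (Fin 2) F) := by
  haveI := K.z.finite
  rcases Nat.even_or_odd (Nat.card ↥(stabilizer G a ⊓ stabilizer G b)) with he | ho
  · rcases K.z.even_cases K.ne he with h | h
    · exact Or.inl (K.z.sharply K.ne h)
    · obtain ⟨F, i1, i2, h1, h2, h3⟩ := K.z.psl_of_even_half K.ne he h
      exact Or.inr ⟨F, i1, i2, h1, h2, h3⟩
  obtain ⟨k, hk⟩ := K.dvd_degree
  have hU := K.card_U
  rw [Nat.card_eq_fintype_card (α := Ω)] at hk hU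
  have hd2 : 2 ≤ Nat.card ↥(stabilizer G a ⊓ stabilizer G b) := by
    obtain ⟨h, h1, ha, hb⟩ := K.z.exists_fix K.ne
    refine (Subgroup.one_lt_card_iff_ne_bot _).2 fun e => h1 ?_
    have hm : h ∈ stabilizer G a ⊓ stabilizer G b := ⟨ha, hb⟩
    rwa [e, Subgroup.mem_bot] at hm
  obtain ⟨c, hca, hcb⟩ := K.z.exists_move K.ne
  have h3 : 2 < Fintype.card Ω := Fintype.two_lt_card_iff.2 ⟨a, b, c, K.ne, hca.symm, hcb.symm⟩
  have hb := hfeit ho
  have hk0 : 0 < k := Nat.pos_of_ne_zero fun e => by rw [e, mul_zero] at hk; omega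
  have hk2 : k ≤ 2 := by
    refine Nat.le_of_mul_le_mul_left ?_ (show 0 < Nat.card ↥(stabilizer G a ⊓ stabilizer G b) by omega)
    rw [← hk, mul_comm _ 2]
    exact hb
  interval_cases k
  · exact Or.inl (K.z.sharply K.ne (by omega))
  right
  have hcard : Fintype.card Ω = 2 * Nat.card ↥(stabilizer G a ⊓ stabilizer G b) + 2 := by omega
  have hD : stabilizer G a ⊓ stabilizer G b ≤ commutator G := by
    obtain ⟨S, rfl, rfl⟩ := H39.exists_zsetup K.z K.ne
    refine ZOdd.le_commutator S ho fun q hq hqd => ?_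
    rintro ⟨N, hN, hidx⟩
    haveI := hN
    haveI := Fact.mk hq
    have hqd' : q ∣ Nat.card ↥(stabilizer G S.a ⊓ stabilizer G S.b) := hqd
    have hUN : U ≤ N := by
      intro u hu
      rw [← QuotientGroup.eq_one_iff, ← orderOf_eq_one_iff]
      refine Nat.eq_one_of_dvd_coprimes ?_
        ((orderOf_map_dvd (QuotientGroup.mk' N) u).trans (Subgroup.orderOf_dvd_natCard U hu)) (orderOf_dvd_natCard _)
      rw [← Subgroup.index_eq_card, hidx]
      refine Nat.Coprime.pow_right _ (Nat.coprime_comm.1 (hq.coprime_iff_not_dvd.2 fun h => hq.not_dvd_one ?_))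
      have h2 : q ∣ 2 * Nat.card ↥(stabilizer G S.a ⊓ stabilizer G S.b) := dvd_mul_of_dvd_right hqd' 2
      have hn : Nat.card U = 2 * Nat.card ↥(stabilizer G S.a ⊓ stabilizer G S.b) + 1 := by omega
      rw [hn] at h
      exact (Nat.dvd_add_right h2).1 h
    have hNne : N ≠ ⊥ := fun e => by
      rw [e] at hUN
      have := Subgroup.card_le_of_le hUN
      rw [Subgroup.card_bot] at this
      omega
    set f : ↥(stabilizer N S.a ⊓ stabilizer N S.b) →* ↥(stabilizer G S.a ⊓ stabilizer G S.b) :=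
      { toFun := fun g => ⟨g.1.1, g.2.1, g.2.2⟩
        map_one' := rfl
        map_mul' := fun _ _ => rfl } with hf
    have hinj : Function.Injective f := fun g g' e =>
      Subtype.ext (Subtype.ext (congrArg (fun x : ↥(stabilizer G S.a ⊓ stabilizer G S.b) => (x : G)) e))
    have hdvd : Nat.card ↥(stabilizer N S.a ⊓ stabilizer N S.b) ∣ Nat.card ↥(stabilizer G S.a ⊓ stabilizer G S.b) :=
      Subgroup.card_dvd_of_injective f hinj
    have hb' := hfeitN N (zassenhaus_normal hZ N hNne) hUN (ho.of_dvd_nat hdvd)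
    -- equality forces `q` to divide the order of `N`
    have heq : Nat.card ↥(stabilizer N S.a ⊓ stabilizer N S.b) = Nat.card ↥(stabilizer G S.a ⊓ stabilizer G S.b) :=
      Nat.le_antisymm (Nat.le_of_dvd (by omega) hdvd) (by omega)
    have hqN : q ∣ Nat.card N := hqd'.trans (heq ▸ Subgroup.card_subgroup_dvd_card _)
    have hG : Nat.card G = Nat.card N * q ^ (Nat.card G).factorization q := by rw [← hidx, N.card_mul_index]
    exact Nat.pow_succ_factorization_not_dvd Nat.card_pos.ne' hq (by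
      conv_rhs => rw [hG]
      rw [pow_succ']
      exact mul_dvd_mul_right hqN _)
  obtain ⟨F, i1, i2, h1, h2, h3⟩ := K.psl_of_odd_half ho hD hcard
  exact ⟨F, i1, i2, h1, h2, h3⟩

/-- The points of a Zassenhaus group number a prime power plus one, given Feit's inequality. -/
theorem ZK.isPrimePow_degree (K : ZK G a b U)
    (hfeit : Odd (Nat.card ↥(stabilizer G a ⊓ stabilizer G b)) →
      Fintype.card Ω - 2 ≤ 2 * Nat.card ↥(stabilizer G a ⊓ stabilizer G b) ∨ IsPGroup 2 U) :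
    IsPrimePow (Fintype.card Ω - 1) := by
  haveI := K.z.finite
  have hU := K.card_U
  rw [Nat.card_eq_fintype_card (α := Ω)] at hU
  have hU2 : 2 ≤ Nat.card U := by
    obtain ⟨c, hca, hcb⟩ := K.z.exists_move K.ne
    have := Fintype.two_lt_card_iff.2 ⟨a, b, c, K.ne, hca.symm, hcb.symm⟩
    omega
  have key : Fintype.card Ω - 2 ≤ 2 * Nat.card ↥(stabilizer G a ⊓ stabilizer G b) → IsPrimePow (Fintype.card Ω - 1) := by
    intro hle
    rw [← Nat.card_eq_fintype_card] at hle
    obtain ⟨p, f, hp, -, hf⟩ := K.elementary hle (K.comm hle K.nilpotent)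
    have hf0 : 0 < f := Nat.pos_of_ne_zero fun e => by rw [e, pow_zero] at hf; omega
    exact (isPrimePow_nat_iff _).2 ⟨p, f, hp, hf0, by omega⟩
  rcases Nat.even_or_odd (Nat.card ↥(stabilizer G a ⊓ stabilizer G b)) with he | ho
  · exact key (K.z.even_le K.ne he)
  rcases hfeit ho with h | h
  · exact key h
  · haveI : Fact (Nat.Prime 2) := ⟨Nat.prime_two⟩
    obtain ⟨f, hf⟩ := IsPGroup.iff_card.1 h
    have hf0 : 0 < f := Nat.pos_of_ne_zero fun e => by rw [e, pow_zero] at hf; omega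
    exact (isPrimePow_nat_iff _).2 ⟨2, f, Nat.prime_two, hf0, by omega⟩

/-- The simple case, given Feit's inequality and the determination of the order for nonabelian two-group kernels. -/
theorem simple_cases (K : ZK G a b U) [IsSimpleGroup G]
    (hfeit : Odd (Nat.card ↥(stabilizer G a ⊓ stabilizer G b)) →
      Fintype.card Ω - 2 ≤ 2 * Nat.card ↥(stabilizer G a ⊓ stabilizer G b) ∨
        (IsPGroup 2 U ∧ ∃ u v : U, u * v ≠ v * u))
    (hsuz : IsPGroup 2 U → (∃ u v : U, u * v ≠ v * u) → Cfsg.IsSuzuki G) :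
    (∃ (F : Type) (_ : Field F) (_ : Fintype F), Nonempty (G ≃* Matrix.ProjectiveSpecialLinearGroup (Fin 2) F)) ∨
      Cfsg.IsSuzuki G := by
  haveI := K.z.finite
  rcases Nat.even_or_odd (Nat.card ↥(stabilizer G a ⊓ stabilizer G b)) with he | ho
  · rcases K.z.even_cases K.ne he with h | h
    · exact absurd ‹IsSimpleGroup G› (K.z.sharp_not_simple K.ne he h)
    · obtain ⟨F, i1, i2, -, -, h3⟩ := K.z.psl_of_even_half K.ne he h
      exact Or.inl ⟨F, i1, i2, h3⟩
  rcases hfeit ho with hb | ⟨h2, hna⟩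
  swap
  · exact Or.inr (hsuz h2 hna)
  left
  obtain ⟨k, hk⟩ := K.dvd_degree
  rw [Nat.card_eq_fintype_card (α := Ω)] at hk
  obtain ⟨c, hca, hcb⟩ := K.z.exists_move K.ne
  have h3 : 2 < Fintype.card Ω := Fintype.two_lt_card_iff.2 ⟨a, b, c, K.ne, hca.symm, hcb.symm⟩
  have hk0 : 0 < k := Nat.pos_of_ne_zero fun e => by rw [e, mul_zero] at hk; omega
  have hk2 : k ≤ 2 := by
    refine Nat.le_of_mul_le_mul_left ?_ (Nat.card_pos (α := ↥(stabilizer G a ⊓ stabilizer G b)))
    rw [← hk, mul_comm _ 2]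
    exact hb
  interval_cases k
  · have hodd : Odd (Fintype.card Ω) := by
      obtain ⟨m, hm⟩ := ho
      exact ⟨m + 1, by omega⟩
    obtain ⟨F, i1, i2, -, -, h⟩ := K.z.psl_of_odd_full K.ne hodd (by omega)
    exact ⟨F, i1, i2, h⟩
  · obtain ⟨S, rfl, rfl⟩ := H39.exists_zsetup K.z K.ne
    obtain ⟨F, i1, i2, -, -, h⟩ := K.psl_of_odd_half ho (S.commutator_eq_top.symm ▸ le_top) (by omega)
    exact ⟨F, i1, i2, h⟩

end Cfsg.Agent.H7
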