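import Cfsg.Agent.H6.PSL
import Cfsg.Agent.H6.SylowTwo

/-!
Redundant Sylow subgroups of `SL₂(q)` and `PSL₂(q)`: Sylow subgroups each of whose elements lies in another one.
-/

set_option autoImplicit false
set_option linter.style.haveILetI false

namespace Cfsg.Agent.H7

open scoped Pointwise MatrixGroups

section general

variable {G : Type*} [Group G] (p : ℕ)

/-- `G` has a Sylow `p`-subgroup all of whose `p`-elements lie in other Sylow `p`-subgroups. -/
def HasRedundantSylow : Prop :=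
  ∃ Q : Sylow p G, ∀ x : G, (∃ k : ℕ, orderOf x = p ^ k) → ∃ P : Sylow p G, P ≠ Q ∧ x ∈ P

variable {p} [Fact p.Prime] [Finite G] {H : Type*} [Group H] [Finite H]

/-- Central kernels do not matter for redundancy. -/
theorem hasRedundantSylow_iff_of_central (f : G →* H) (hf : Function.Surjective f)
    (hker : f.ker ≤ Subgroup.center G) : HasRedundantSylow (G := H) p ↔ HasRedundantSylow (G := G) p := by
  have hp : p.Prime := Fact.out
  have hmem : ∀ (P : Sylow p G) (x : G), (∃ k : ℕ, orderOf x = p ^ k) → f x ∈ Sylow.mapSurjective hf P →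
      x ∈ P := by
    intro P x ⟨k, hk⟩ hx
    rw [← SetLike.mem_coe] at hx
    obtain ⟨y, hy, hxy⟩ := Subgroup.mem_map.1 (show f x ∈ (P : Subgroup G).map f from hx)
    have hn : x ∈ Subgroup.normalizer ((P : Subgroup G) : Set G) := by
      have hc : y⁻¹ * x ∈ Subgroup.center G := hker (by rw [MonoidHom.mem_ker, map_mul, map_inv, hxy, inv_mul_cancel])
      rw [show x = y * (y⁻¹ * x) by group]
      refine mul_mem (Subgroup.le_normalizer hy) ?_
      rw [Subgroup.mem_normalizer_iff]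
      intro w
      rw [← Subgroup.mem_center_iff.1 hc w, mul_inv_cancel_right]
    have hz : IsPGroup p (Subgroup.zpowers x) := IsPGroup.of_card (n := k) (by rw [Nat.card_zpowers, hk])
    have h := hz.inf_normalizer_sylow P
    rw [inf_eq_left.2 (by rw [← Sylow.coe_coe]; exact Subgroup.zpowers_le.2 hn)] at h
    exact inf_eq_left.1 h.symm (Subgroup.mem_zpowers x)
  have hinj : Function.Injective (Sylow.mapSurjective hf : Sylow p G → Sylow p H) := by
    intro P P' h
    refine Sylow.ext (P'.3 P.2 fun x hx => ?_) |>.symm.symm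
    refine hmem P x ?_ ?_
    · obtain ⟨k, hk⟩ := IsPGroup.iff_orderOf.1 P'.2 ⟨x, hx⟩
      exact ⟨k, by rwa [Subgroup.orderOf_mk] at hk⟩
    · rw [h]; exact ⟨x, hx, rfl⟩
  have hsurj := Sylow.mapSurjective_surjective hf p
  constructor
  · rintro ⟨Q, hQ⟩
    obtain ⟨Q, rfl⟩ := hsurj Q
    refine ⟨Q, fun x hx => ?_⟩
    obtain ⟨k, hk⟩ := hx
    obtain ⟨i, -, hi⟩ := (Nat.dvd_prime_pow hp).1 (hk ▸ orderOf_map_dvd f x)
    obtain ⟨P, hPQ, hxP⟩ := hQ (f x) ⟨i, hi⟩
    obtain ⟨P, rfl⟩ := hsurj P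
    exact ⟨P, fun e => hPQ (by rw [e]), hmem P x ⟨k, hk⟩ hxP⟩
  · rintro ⟨Q, hQ⟩
    refine ⟨Sylow.mapSurjective hf Q, fun x hx => ?_⟩
    obtain ⟨k, hk⟩ := hx
    have hz : IsPGroup p (Subgroup.zpowers x) := IsPGroup.of_card (n := k) (by rw [Nat.card_zpowers, hk])
    obtain ⟨R, hR⟩ := hz.exists_le_sylow
    obtain ⟨R, rfl⟩ := hsurj R
    obtain ⟨y, hy, rfl⟩ := Subgroup.mem_map.1 (show x ∈ (R : Subgroup G).map f from hR (Subgroup.mem_zpowers x))
    obtain ⟨i, hi⟩ := IsPGroup.iff_orderOf.1 R.2 ⟨y, hy⟩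
    rw [Subgroup.orderOf_mk] at hi
    obtain ⟨P, hPQ, hyP⟩ := hQ y ⟨i, hi⟩
    exact ⟨Sylow.mapSurjective hf P, fun e => hPQ (hinj e), ⟨y, hyP, rfl⟩⟩

end general

variable {F : Type*} [Field F] [Fintype F] {p : ℕ} [hp : Fact p.Prime]

/-- A nontrivial abelian-type Sylow subgroup makes `SL₂` have no redundant one. -/
theorem not_redundant_of_odd (h : p ≠ 2 ∨ (2 : F) = 0) : ¬ HasRedundantSylow (G := SL(2, F)) p := by
  have hns : ∀ x : SL(2, F), (∃ k : ℕ, orderOf x = p ^ k) → x ≠ 1 → ¬ H6.IsScal x := by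
    rintro x ⟨k, hk⟩ x1 hs
    rcases H6.isScal_iff.1 hs with rfl | rfl
    · exact x1 rfl
    rcases h with h | h
    · have h2 : orderOf (-1 : SL(2, F)) ∣ 2 := orderOf_dvd_of_pow_eq_one neg_one_sq
      have hco : Nat.Coprime (p ^ k) 2 := Nat.Coprime.pow_left k ((Nat.coprime_primes hp.out Nat.prime_two).2 h)
      rw [hk] at h2
      have : orderOf (-1 : SL(2, F)) = 1 := by rw [hk]; exact hco.eq_one_of_dvd h2
      exact x1 (orderOf_eq_one_iff.1 this)
    · have hm : (-1 : F) = 1 := by linear_combination (-1 : F) * h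
      exact x1 (H6.sl2_ext (by simp [H6.sl2_neg, hm]) (by simp [H6.sl2_neg])
        (by simp [H6.sl2_neg]) (by simp [H6.sl2_neg, hm]))
  have hord : ∀ (P : Sylow p SL(2, F)), ∀ x ∈ (P : Subgroup SL(2, F)), ∃ k : ℕ, orderOf x = p ^ k := by
    intro P x hx
    obtain ⟨k, hk⟩ := IsPGroup.iff_orderOf.1 P.2 ⟨x, hx⟩
    exact ⟨k, by rwa [Subgroup.orderOf_mk] at hk⟩
  have habel : ∀ (P : Sylow p SL(2, F)), ∀ a ∈ (P : Subgroup SL(2, F)), ∀ b ∈ (P : Subgroup SL(2, F)),
      a * b = b * a := by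
    intro P a ha b hb
    by_cases hP : (P : Subgroup SL(2, F)) = ⊥
    · rw [hP, Subgroup.mem_bot] at ha hb
      rw [ha, hb]
    haveI : Nontrivial (P : Subgroup SL(2, F)) := (Subgroup.nontrivial_iff_ne_bot _).2 hP
    obtain ⟨z, hz, hz1⟩ := (Subgroup.center (P : Subgroup SL(2, F))).bot_or_exists_ne_one.resolve_left
      (ne_of_gt P.2.bot_lt_center)
    have hzns := hns z.1 (hord P z.1 z.2) fun e => hz1 (Subtype.ext e)
    have hc : ∀ a ∈ (P : Subgroup SL(2, F)), a ∈ H6.cent z.1 := fun a ha =>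
      H6.mem_cent.2 (congrArg Subtype.val (Subgroup.mem_center_iff.1 hz ⟨a, ha⟩)).symm
    exact H6.cent_commute hzns (hc a ha) (hc b hb)
  rintro ⟨Q, hQ⟩
  by_cases hQ1 : (Q : Subgroup SL(2, F)) = ⊥
  · obtain ⟨P, hPQ, -⟩ := hQ 1 ⟨0, by simp⟩
    exact hPQ (Sylow.ext (hQ1.symm ▸ (Q.3 P.2 (hQ1 ▸ bot_le)).trans hQ1))
  obtain ⟨x, hx, x1⟩ := (Q : Subgroup SL(2, F)).bot_or_exists_ne_one.resolve_left hQ1
  have hxns := hns x (hord Q x hx) x1
  obtain ⟨P, hPQ, hxP⟩ := hQ x (hord Q x hx)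
  have hle : ∀ (R : Sylow p SL(2, F)), x ∈ R → (R : Subgroup SL(2, F)) ≤ H6.cent x := fun R hxR a ha =>
    H6.mem_cent.2 (habel R x hxR a ha)
  refine hPQ (Sylow.ext ?_)
  have hgen : IsPGroup p ((P : Subgroup SL(2, F)) ⊔ (Q : Subgroup SL(2, F)) : Subgroup SL(2, F)) := by
    refine P.2.to_sup_of_normal_right' Q.2 fun a ha => ?_
    rw [Subgroup.mem_normalizer_iff]
    intro b
    have hcomm : ∀ b ∈ (Q : Subgroup SL(2, F)), a * b * a⁻¹ = b := fun b hb =>
      mul_inv_eq_iff_eq_mul.2 (H6.cent_commute hxns (hle P hxP ha) (hle Q hx hb))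
    constructor
    · intro hb; rw [hcomm b hb]; exact hb
    · intro hb
      have e : b = a * b * a⁻¹ := by
        have := H6.cent_commute hxns (hle P hxP ha) (hle Q hx hb)
        rw [show a * (a * b * a⁻¹) = a * a * b * a⁻¹ by group, show a * b * a⁻¹ * a = a * b by group,
          mul_inv_eq_iff_eq_mul, mul_assoc, mul_assoc, mul_right_inj] at this
        rw [this, mul_inv_cancel_right]
      rw [e]; exact hb
  exact ((P.3 hgen le_sup_left).symm.trans (Q.3 hgen le_sup_right))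

/-- A semisimple element of `SL₂` whose centraliser has order divisible by four. -/
theorem exists_four_dvd_cent (h2 : (2 : F) ≠ 0) :
    ∃ g : SL(2, F), H6.tr g ^ 2 ≠ 4 ∧ 4 ∣ Nat.card (H6.cent g) := by
  have hq := H6.odd_of_two_ne (q := Fintype.card F) rfl h2
  -- the element of trace zero
  refine ⟨H6.comp 0, ?_, ?_⟩
  · exact H6.ss_of_tr_zero h2 (H6.tr_comp 0)
  · have hsq : H6.comp (0 : F) * H6.comp 0 = -1 := (H6.sq_neg_one_iff h2).2 (H6.tr_comp 0)
    have ho : orderOf (H6.comp (0 : F)) = 4 := by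
      haveI : Fact (Nat.Prime 2) := ⟨Nat.prime_two⟩
      refine orderOf_eq_prime_pow (p := 2) (n := 1) ?_ ?_
      · rw [pow_one, pow_two, hsq]
        intro e
        refine h2 ?_
        have := congrArg (fun g : SL(2, F) => g 0 0) e
        simpa [H6.sl2_neg, eq_neg_iff_add_eq_zero, neg_eq_iff_eq_neg, one_add_one_eq_two] using this
      · rw [show 2 ^ (1 + 1) = 2 * 2 from rfl, pow_mul, pow_two (H6.comp (0 : F)), hsq, neg_one_sq]
    exact ho ▸ Subgroup.orderOf_dvd_natCard _ (H6.self_mem_cent _)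

/-- The centraliser orders of semisimple elements divisible by four agree. -/
theorem cent_card_eq (h2 : (2 : F) ≠ 0) {g g' : SL(2, F)} (ht : H6.tr g ^ 2 ≠ 4) (ht' : H6.tr g' ^ 2 ≠ 4)
    (h : 4 ∣ Nat.card (H6.cent g)) (h' : 4 ∣ Nat.card (H6.cent g')) :
    Nat.card (H6.cent g) = Nat.card (H6.cent g') := by
  have hq := H6.odd_of_two_ne (q := Fintype.card F) rfl h2
  rcases H6.card_cent_ss ht with ⟨-, e⟩ | ⟨-, e⟩ <;> rcases H6.card_cent_ss ht' with ⟨-, e'⟩ | ⟨-, e'⟩ <;>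
    rw [e] at h ⊢ <;> rw [e'] at h' ⊢ <;> omega

/-- The criterion for a redundant Sylow 2-subgroup of `SL₂`, `q` odd. -/
theorem redundant_two_iff [Fact (Nat.Prime 2)] (h2 : (2 : F) ≠ 0) {g : SL(2, F)} (ht : H6.tr g ^ 2 ≠ 4)
    (h4 : 4 ∣ Nat.card (H6.cent g)) :
    HasRedundantSylow (G := SL(2, F)) 2 ↔ ¬ ∃ k : ℕ, Nat.card (H6.cent g) = 2 ^ k := by
  constructor
  · rintro ⟨Q, hQ⟩ ⟨k, hk⟩
    -- the torus normaliser is a Sylow subgroup, and a generator of the torus lies only in it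
    haveI := H6.cent_cyclic ht
    obtain ⟨⟨x, hx⟩, hxgen⟩ := IsCyclic.exists_generator (α := H6.cent g)
    have hxo : orderOf x = 2 ^ k := by
      have := orderOf_eq_card_of_forall_mem_zpowers hxgen
      rwa [hk, Subgroup.orderOf_mk] at this
    have hzp : Subgroup.zpowers x = H6.cent g :=
      Subgroup.eq_of_le_of_card_ge (Subgroup.zpowers_le.2 hx) (by rw [Nat.card_zpowers, hxo, hk])
    have hS : IsPGroup 2 (H6.torNorm g) := IsPGroup.of_card (n := k + 1) (by
      rw [H6.card_torNorm ht, hk, pow_succ']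
      )
    have hcard : ∀ P : Sylow 2 SL(2, F), Nat.card P = 2 * 2 ^ k := by
      intro P
      rw [P.card_eq_multiplicity, H6.card_sl2 rfl]
      have hq := H6.odd_of_two_ne (q := Fintype.card F) rfl h2
      have h1 : 1 ≤ Fintype.card F := Fintype.card_pos
      have hk2 : 2 ≤ k := by
        rw [hk] at h4
        by_contra hk2
        interval_cases k <;> norm_num at h4
      obtain ⟨m, hm, hme⟩ : ∃ m, ¬ 2 ∣ m ∧ Fintype.card F ^ 2 - 1 = 2 ^ (k + 1) * m := by
        have hsq : Fintype.card F ^ 2 - 1 = (Fintype.card F + 1) * (Fintype.card F - 1) := by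
          rw [← Nat.sq_sub_sq, one_pow]
        rcases H6.card_cent_ss ht with ⟨-, e⟩ | ⟨-, e⟩ <;> rw [hk] at e
        · refine ⟨(Fintype.card F + 1) / 2, ?_, ?_⟩
          · have : 4 ∣ Fintype.card F - 1 := e ▸ (hk ▸ h4)
            omega
          · rw [hsq, ← e, pow_succ]
            have : (Fintype.card F + 1) = 2 * ((Fintype.card F + 1) / 2) := by omega
            rw [mul_comm (Fintype.card F + 1), mul_assoc]
            congr 1
        · refine ⟨(Fintype.card F - 1) / 2, ?_, ?_⟩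
          · have : 4 ∣ Fintype.card F + 1 := e ▸ (hk ▸ h4)
            omega
          · rw [hsq, ← e, pow_succ, mul_assoc]
            congr 1
            omega
      have hm0 : m ≠ 0 := fun e => hm (e ▸ dvd_zero 2)
      rw [hme, Nat.factorization_mul (by omega) (mul_ne_zero (by positivity) hm0),
        Nat.factorization_mul (by positivity) hm0]
      simp only [Finsupp.add_apply, Nat.factorization_pow, Finsupp.smul_apply,
        Nat.Prime.factorization_self Nat.prime_two, Nat.factorization_eq_zero_of_not_dvd hm,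
        Nat.factorization_eq_zero_of_not_dvd (show ¬ 2 ∣ Fintype.card F by omega), smul_eq_mul]
      ring
    have hcontain : ∀ P : Sylow 2 SL(2, F), x ∈ P → (P : Subgroup SL(2, F)) = H6.torNorm g := by
      intro P hxP
      have hle : H6.cent g ≤ P := hzp ▸ Subgroup.zpowers_le.2 hxP
      have hidx : ((H6.cent g).subgroupOf P).index = 2 := by
        have h1 := ((H6.cent g).subgroupOf P).card_mul_index
        rw [Nat.card_congr (Subgroup.subgroupOfEquivOfLe hle).toEquiv, hk,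
          show Nat.card (P : Subgroup SL(2, F)) = 2 * 2 ^ k from hcard P, mul_comm 2] at h1
        exact Nat.eq_of_mul_eq_mul_left (by positivity) h1
      haveI := Subgroup.normal_of_index_eq_two hidx
      refine Subgroup.eq_of_le_of_card_ge ?_ (by
        rw [H6.card_torNorm ht, hk, show Nat.card (P : Subgroup SL(2, F)) = 2 * 2 ^ k from hcard P])
      intro a ha
      rw [H6.mem_torNorm ht]
      refine H6.conj_eq_or_eq_inv ht (H6.not_isScal_of_ss ht) ?_
      exact Subgroup.Normal.conj_mem (H := (H6.cent g).subgroupOf (P : Subgroup SL(2, F))) inferInstance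
        ⟨g, hle (H6.self_mem_cent g)⟩ (H6.self_mem_cent g) ⟨a, ha⟩
    -- conjugate the element into `Q`
    obtain ⟨R, hR⟩ := hS.exists_le_sylow
    obtain ⟨c, rfl⟩ := MulAction.exists_smul_eq SL(2, F) R Q
    have hxR : x ∈ R := hR (H6.cent_le_torNorm g hx)
    obtain ⟨P, hPQ, hcP⟩ := hQ (c * x * c⁻¹) ⟨k, by
      rw [show c * x * c⁻¹ = MulAut.conj c x from rfl, (MulAut.conj c).orderOf_eq, hxo]⟩
    refine hPQ ?_
    have hP' : x ∈ c⁻¹ • P := by
      rw [← SetLike.mem_coe] at hcP ⊢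
      show x ∈ ((c⁻¹ • P : Sylow 2 SL(2, F)) : Subgroup SL(2, F))
      rw [Sylow.coe_subgroup_smul, Subgroup.mem_smul_pointwise_iff_exists]
      exact ⟨_, hcP, by show c⁻¹ * (c * x * c⁻¹) * c⁻¹⁻¹ = x; group⟩
    have : c⁻¹ • P = R := Sylow.ext ((hcontain _ hP').trans (hcontain R hxR).symm)
    rw [← this, smul_inv_smul]
  · intro hnp
    obtain ⟨Q⟩ := Sylow.nonempty (p := 2) (G := SL(2, F))
    refine ⟨Q, fun x hx => ?_⟩
    obtain ⟨kx, hkx⟩ := hx
    have hxp : IsPGroup 2 (Subgroup.zpowers x) := IsPGroup.of_card (n := kx) (by rw [Nat.card_zpowers, hkx])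
    suffices hex : ∃ P P' : Sylow 2 SL(2, F), P ≠ P' ∧ x ∈ P ∧ x ∈ P' by
      obtain ⟨P, P', hne, hxP, hxP'⟩ := hex
      by_cases h : P = Q
      · exact ⟨P', fun e => hne (h.trans e.symm), hxP'⟩
      · exact ⟨P, h, hxP⟩
    -- a torus containing `x`
    obtain ⟨g', ht', h4', hxg⟩ : ∃ g' : SL(2, F), H6.tr g' ^ 2 ≠ 4 ∧ 4 ∣ Nat.card (H6.cent g') ∧ x ∈ H6.cent g' := by
      by_cases hxs : H6.IsScal x
      · exact ⟨g, ht, h4, H6.isScal_mem_cent hxs⟩
      obtain ⟨p', hpc⟩ := CharP.exists F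
      haveI : Fact p'.Prime := ⟨CharP.char_is_prime F p'⟩
      have hp2 : p' ≠ 2 := fun e => h2 (by subst e; exact_mod_cast CharP.cast_eq_zero F 2)
      have hxt : H6.tr x ^ 2 ≠ 4 := H6.ss_of_coprime_order p' (by
        rw [hkx]; exact Nat.Coprime.pow_left kx ((Nat.coprime_primes Nat.prime_two Fact.out).2 (Ne.symm hp2))) hxs
      refine ⟨x, hxt, ?_, H6.self_mem_cent x⟩
      rcases Nat.lt_or_ge kx 2 with hlt | hge
      · exact absurd (H6.isScal_of_mul_self_eq_one h2 (by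
          rw [← pow_two, ← orderOf_dvd_iff_pow_eq_one, hkx]
          exact (pow_dvd_pow 2 (show kx ≤ 1 by omega)).trans (by rw [pow_one]))) hxs
      · exact ((pow_dvd_pow 2 hge).trans (hkx ▸ dvd_rfl)).trans (Subgroup.orderOf_dvd_natCard _ (H6.self_mem_cent x))
    have hc := cent_card_eq h2 ht ht' h4 h4'
    rw [hc] at hnp
    haveI := H6.cent_cyclic ht'
    obtain ⟨w, hw⟩ := H6.exists_conj_inv ht'
    -- an element of odd order in the torus
    obtain ⟨r, hr, hrd, hr2⟩ : ∃ r : ℕ, r.Prime ∧ r ∣ Nat.card (H6.cent g') ∧ r ≠ 2 := by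
      by_contra hno
      push Not at hno
      exact hnp ⟨_, Nat.eq_prime_pow_of_unique_prime_dvd Nat.card_pos.ne' fun {d} hd hdd => hno d hd hdd⟩
    haveI := Fact.mk hr
    obtain ⟨⟨y, hyc⟩, hyo⟩ := exists_prime_orderOf_dvd_card' r hrd
    rw [Subgroup.orderOf_mk] at hyo
    have hw2 : H6.IsScal (w * w) := H6.sq_isScal ht' hw
    have hwo : ∃ j, orderOf w = 2 ^ j := by
      obtain ⟨j, -, hj⟩ := (Nat.dvd_prime_pow Nat.prime_two).1 (show orderOf w ∣ 2 ^ 2 by
        refine orderOf_dvd_of_pow_eq_one ?_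
        rw [show 2 ^ 2 = 2 * 2 from rfl, pow_mul, pow_two w]
        rcases H6.isScal_iff.1 hw2 with e | e <;> rw [e] <;> simp)
      exact ⟨j, hj⟩
    obtain ⟨j, hj⟩ := hwo
    have hK : IsPGroup 2 (Subgroup.zpowers w ⊔ Subgroup.zpowers x : Subgroup SL(2, F)) := by
      refine (IsPGroup.of_card (n := j) (by rw [Nat.card_zpowers, hj])).to_sup_of_normal_right' hxp
        (Subgroup.zpowers_le.2 ?_)
      rw [Subgroup.mem_normalizer_iff]
      intro b
      have hinv : w * x * w⁻¹ = x⁻¹ := H6.conj_inv_of_mem_cent ht' hw hxg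
      constructor
      · rintro ⟨i, rfl⟩
        refine ⟨-i, ?_⟩
        show x ^ (-i) = w * x ^ i * w⁻¹
        rw [← conj_zpow, hinv, inv_zpow, zpow_neg]
      · rintro ⟨i, hi⟩
        refine ⟨-i, ?_⟩
        show x ^ (-i) = b
        have h : w * x ^ (-i) * w⁻¹ = w * b * w⁻¹ := by
          rw [← conj_zpow, hinv, inv_zpow', neg_neg]
          exact hi
        exact mul_left_cancel (mul_right_cancel h)
    obtain ⟨R, hR⟩ := hK.exists_le_sylow
    have hwR : w ∈ (R : Subgroup SL(2, F)) := hR (Subgroup.mem_sup_left (Subgroup.mem_zpowers w))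
    have hxR : x ∈ (R : Subgroup SL(2, F)) := hR (Subgroup.mem_sup_right (Subgroup.mem_zpowers x))
    refine ⟨R, y • R, fun e => ?_, hxR, ?_⟩
    · have hn := Sylow.smul_eq_iff_mem_normalizer.1 e.symm
      rw [← Sylow.coe_coe] at hn
      have h1 : y * w * y⁻¹ * w⁻¹ ∈ (R : Subgroup SL(2, F)) :=
        mul_mem ((Subgroup.mem_normalizer_iff.1 hn w).1 hwR) (inv_mem hwR)
      rw [show y * w * y⁻¹ * w⁻¹ = y * (w * y⁻¹ * w⁻¹) by group,
        H6.conj_inv_of_mem_cent ht' hw (inv_mem hyc), inv_inv, ← pow_two] at h1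
      obtain ⟨m, hm⟩ := IsPGroup.iff_orderOf.1 R.2 ⟨_, h1⟩
      rw [Subgroup.orderOf_mk] at hm
      have hyy : orderOf (y ^ 2) = r := by
        rw [Nat.Coprime.orderOf_pow, hyo]
        rw [hyo]; exact (Nat.coprime_primes hr Nat.prime_two).2 hr2
      rw [hyy] at hm
      exact hr2 ((Nat.prime_dvd_prime_iff_eq hr Nat.prime_two).1 (hr.dvd_of_dvd_pow (hm.symm ▸ dvd_rfl : r ∣ 2 ^ m)))
    · show x ∈ ((y • R : Sylow 2 SL(2, F)) : Subgroup SL(2, F))
      rw [Sylow.coe_subgroup_smul, Subgroup.mem_smul_pointwise_iff_exists]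
      refine ⟨x, hxR, ?_⟩
      show y * x * y⁻¹ = x
      rw [mul_inv_eq_iff_eq_mul]
      exact H6.cent_commute (H6.not_isScal_of_ss ht') hyc hxg

/-- Redundant Sylow subgroups of `SL₂(q)`. -/
theorem sl2_redundant_iff (p : ℕ) [Fact p.Prime] :
    HasRedundantSylow (G := SL(2, F)) p ↔ p = 2 ∧ (¬ ∃ k : ℕ, Fintype.card F + 1 = 2 ^ k) ∧
      (¬ ∃ k : ℕ, Fintype.card F = 2 ^ k) ∧ ¬ ∃ k : ℕ, Fintype.card F = 2 ^ k + 1 := by
  by_cases h2 : (2 : F) = 0
  · refine iff_of_false (not_redundant_of_odd (Or.inr h2)) ?_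
    rintro ⟨-, -, hno, -⟩
    obtain ⟨p', hpc⟩ := CharP.exists F
    haveI : Fact p'.Prime := ⟨CharP.char_is_prime F p'⟩
    obtain rfl : p' = 2 := (Nat.prime_dvd_prime_iff_eq Fact.out Nat.prime_two).1
      ((CharP.cast_eq_zero_iff F p' 2).1 (by exact_mod_cast h2))
    obtain ⟨n, -, hn⟩ := FiniteField.card F 2
    exact hno ⟨n, hn⟩
  by_cases hp2 : p = 2
  swap
  · exact iff_of_false (not_redundant_of_odd (Or.inl hp2)) fun h => hp2 h.1
  subst hp2
  obtain ⟨g, ht, h4⟩ := exists_four_dvd_cent h2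
  rw [redundant_two_iff h2 ht h4]
  have hq := H6.odd_of_two_ne (q := Fintype.card F) rfl h2
  have h1 : 1 < Fintype.card F := Fintype.one_lt_card
  simp only [true_and]
  constructor
  · intro hno
    refine ⟨?_, ?_, ?_⟩
    · rintro ⟨k, hk⟩
      rcases H6.card_cent_ss ht with ⟨-, e⟩ | ⟨-, e⟩
      · have hk1 : k = 1 := by
          by_contra hk1
          have : 4 ∣ 2 ^ k := by
            rcases k with _ | _ | k
            · simp at hk <;> omega
            · omega
            · exact ⟨2 ^ k, by ring⟩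
          rw [e] at h4
          omega
        subst hk1
        omega
      · exact hno ⟨k, e.trans hk⟩
    · rintro ⟨k, hk⟩
      rcases k with _ | k
      · simp at hk; omega
      · rw [pow_succ'] at hk; omega
    · rintro ⟨k, hk⟩
      rcases H6.card_cent_ss ht with ⟨-, e⟩ | ⟨-, e⟩
      · exact hno ⟨k, by omega⟩
      · rcases k with _ | _ | k
        · simp at hk; omega
        · exact hno ⟨2, by norm_num at hk ⊢ <;> omega⟩
        · exfalso
          rw [e, hk, show 2 ^ (k + 1 + 1) = 4 * 2 ^ k by ring] at h4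
          omega
  · rintro ⟨ha, -, hb⟩ ⟨k, hk⟩
    rcases H6.card_cent_ss ht with ⟨-, e⟩ | ⟨-, e⟩
    · exact hb ⟨k, by omega⟩
    · exact ha ⟨k, by omega⟩

/-- Redundant Sylow subgroups of `PSL₂(q)`. -/
theorem psl2_redundant_iff (p : ℕ) [Fact p.Prime] :
    HasRedundantSylow (G := PSL(2, F)) p ↔ p = 2 ∧ (¬ ∃ k : ℕ, Fintype.card F + 1 = 2 ^ k) ∧
      (¬ ∃ k : ℕ, Fintype.card F = 2 ^ k) ∧ ¬ ∃ k : ℕ, Fintype.card F = 2 ^ k + 1 :=
  (hasRedundantSylow_iff_of_central H6.π H6.π_surjective (le_of_eq H6.ker_π)).trans (sl2_redundant_iff p)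

end Cfsg.Agent.H7
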