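import Cfsg.Agent.H7.SzField

/-!
Linearised polynomials over the Suzuki field and the rigidity of the quadratic map `a ↦ a^σ·a`: an additive map
intertwining it with some additive map is semilinear with respect to a single field automorphism.
-/

set_option autoImplicit false

namespace Cfsg.Agent.H7

/-- Exponent set of the monomial `a^(2^u) · a^(2^v)`, reduced to binary digits. -/
def dSet {n : ℕ} (u v : ZMod n) : Finset ℕ := if u = v then {(u + 1).val} else {u.val, v.val}

theorem dSet_eq_iff {n : ℕ} [NeZero n] (u v u' v' : ZMod n) :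
    dSet u v = dSet u' v' ↔ (u = v ∧ u' = v' ∧ u = u') ∨ (u ≠ v ∧ u' ≠ v' ∧ ((u = u' ∧ v = v') ∨ (u = v' ∧ v = u'))) := by
  have vinj : ∀ x y : ZMod n, x.val = y.val → x = y := fun x y h => ZMod.val_injective n h
  constructor
  · intro h
    unfold dSet at h
    by_cases h1 : u = v <;> by_cases h2 : u' = v'
    · rw [if_pos h1, if_pos h2, Finset.singleton_inj] at h
      exact Or.inl ⟨h1, h2, add_right_cancel (vinj _ _ h)⟩
    · exfalso
      rw [if_pos h1, if_neg h2] at h
      have a := (Finset.mem_singleton.1 (h.symm ▸ Finset.mem_insert_self u'.val {v'.val} : u'.val ∈ ({(u + 1).val} : Finset ℕ)))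
      have b := (Finset.mem_singleton.1 (h.symm ▸ Finset.mem_insert_of_mem (Finset.mem_singleton_self v'.val) : v'.val ∈ ({(u + 1).val} : Finset ℕ)))
      exact h2 (vinj _ _ (a.trans b.symm))
    · exfalso
      rw [if_neg h1, if_pos h2] at h
      have a := (Finset.mem_singleton.1 (h ▸ Finset.mem_insert_self u.val {v.val} : u.val ∈ ({(u' + 1).val} : Finset ℕ)))
      have b := (Finset.mem_singleton.1 (h ▸ Finset.mem_insert_of_mem (Finset.mem_singleton_self v.val) : v.val ∈ ({(u' + 1).val} : Finset ℕ)))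
      exact h1 (vinj _ _ (a.trans b.symm))
    · rw [if_neg h1, if_neg h2] at h
      refine Or.inr ⟨h1, h2, ?_⟩
      have a : u.val ∈ ({u'.val, v'.val} : Finset ℕ) := h ▸ Finset.mem_insert_self _ _
      have b : v.val ∈ ({u'.val, v'.val} : Finset ℕ) := h ▸ Finset.mem_insert_of_mem (Finset.mem_singleton_self _)
      simp only [Finset.mem_insert, Finset.mem_singleton] at a b
      rcases a with a | a <;> rcases b with b | b
      · exact absurd (vinj _ _ (a.trans b.symm)) h1
      · exact Or.inl ⟨vinj _ _ a, vinj _ _ b⟩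
      · exact Or.inr ⟨vinj _ _ a, vinj _ _ b⟩
      · exact absurd (vinj _ _ (a.trans b.symm)) h1
  · rintro (⟨rfl, rfl, rfl⟩ | ⟨h1, h2, ⟨rfl, rfl⟩ | ⟨rfl, rfl⟩⟩)
    · rfl
    · rfl
    · simp [dSet, h1, h2, Finset.pair_comm]

/-- Coefficients of a vanishing combination of low-degree monomials on a finite field. -/
theorem coeff_of_vanish {F : Type*} [Field F] [Finite F] {ι : Type*} [Fintype ι] (A : ι → F) (e : ι → ℕ)
    (he : ∀ i, e i < Nat.card F) (h : ∀ a : F, ∑ i, A i * a ^ e i = 0) (k : ℕ) :
    ∑ i ∈ Finset.univ.filter (fun i => e i = k), A i = 0 := by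
  classical
  haveI := Fintype.ofFinite F
  rw [Nat.card_eq_fintype_card] at he
  set P : Polynomial F := ∑ i, Polynomial.C (A i) * Polynomial.X ^ e i with hP
  have hdeg : P.natDegree ≤ Fintype.card F - 1 :=
    Polynomial.natDegree_sum_le_of_forall_le _ _ fun i _ =>
      (Polynomial.natDegree_C_mul_X_pow_le _ _).trans (Nat.le_sub_one_of_lt (he i))
  have hz : P = 0 := Polynomial.eq_zero_of_natDegree_lt_card_of_eval_eq_zero P (f := (id : F → F))
    Function.injective_id (fun a => by simpa [hP, Polynomial.eval_finset_sum] using h a)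
    (lt_of_le_of_lt hdeg (Nat.sub_lt Fintype.card_pos zero_lt_one))
  have := congrArg (fun p => Polynomial.coeff p k) hz
  simp only [hP, Polynomial.finset_sum_coeff, Polynomial.coeff_C_mul_X_pow, Polynomial.coeff_zero] at this
  rw [Finset.sum_filter]
  refine Eq.trans ?_ this
  exact Finset.sum_congr rfl fun i _ => by simp only [eq_comm]

/-- The power map `a ↦ a^(2^i)` indexed modulo the degree of the field. -/
def pw {F : Type*} [Monoid F] {m : ℕ} (i : ZMod (2 * m + 1)) (a : F) : F := a ^ 2 ^ i.val

namespace SzHyp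

variable {F : Type*} [Field F] {m : ℕ}

theorem pow_two_mod (H : SzHyp F m) (a : F) (k : ℕ) : a ^ 2 ^ k = a ^ 2 ^ (k % (2 * m + 1)) := by
  conv_lhs => rw [← Nat.mod_add_div k (2 * m + 1)]
  induction k / (2 * m + 1) with
  | zero => simp
  | succ t ih => rw [mul_add_one, ← add_assoc, pow_add, pow_mul, H.pow_card, ih]

theorem pw_add_index (H : SzHyp F m) (i j : ZMod (2 * m + 1)) (a : F) : pw i (pw j a) = pw (i + j) a := by
  unfold pw
  rw [← pow_mul, ← pow_add, H.pow_two_mod a (j.val + i.val), ← ZMod.val_add, add_comm j i]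

theorem pw_zero_index (_H : SzHyp F m) (a : F) : pw (0 : ZMod (2 * m + 1)) a = a := by simp [pw]

theorem pw_mul (_H : SzHyp F m) (i : ZMod (2 * m + 1)) (a b : F) : pw i (a * b) = pw i a * pw i b := mul_pow a b _

theorem pw_add (H : SzHyp F m) (i : ZMod (2 * m + 1)) (a b : F) : pw i (a + b) = pw i a + pw i b := by
  haveI := H.charTwo
  exact add_pow_char_pow a b 2 _

theorem th_eq_pw (H : SzHyp F m) (a : F) : th m a = pw (((m + 1 : ℕ) : ZMod (2 * m + 1))) a := by
  have := H.hm
  rw [th, pw, ZMod.val_natCast_of_lt (by omega)]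

theorem pw_mul_pw (H : SzHyp F m) (u v : ZMod (2 * m + 1)) (a : F) :
    pw u a * pw v a = a ^ (∑ i ∈ dSet u v, 2 ^ i) := by
  unfold pw dSet
  split
  · next h =>
    subst h
    haveI : Fact (1 < 2 * m + 1) := ⟨by have := H.hm; omega⟩
    rw [Finset.sum_singleton, ← pow_two, ← pow_mul, ← pow_succ, H.pow_two_mod a (u.val + 1),
      ZMod.val_add, ZMod.val_one]
  · next h =>
    rw [Finset.sum_pair (fun e => h (ZMod.val_injective _ e)), pow_add]

theorem dSet_sum_lt (H : SzHyp F m) (u v : ZMod (2 * m + 1)) : (∑ i ∈ dSet u v, 2 ^ i) < Nat.card F := by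
  rw [H.card]
  refine Nat.geomSum_lt le_rfl fun k hk => ?_
  unfold dSet at hk
  split at hk
  · rw [Finset.mem_singleton] at hk; exact hk ▸ ZMod.val_lt _
  · simp only [Finset.mem_insert, Finset.mem_singleton] at hk
    rcases hk with rfl | rfl <;> exact ZMod.val_lt _

/-- A linearised polynomial as an additive map. -/
def linMap (H : SzHyp F m) (c : ZMod (2 * m + 1) → F) : F →+ F where
  toFun a := ∑ i, c i * pw i a
  map_zero' := by simp [pw]
  map_add' a b := by simp only [H.pw_add, mul_add, Finset.sum_add_distrib]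

theorem linMap_injective (H : SzHyp F m) : Function.Injective H.linMap := by
  classical
  haveI := H.fin
  intro c d h
  funext i
  have hv : ∀ a : F, ∑ j, (c j - d j) * a ^ 2 ^ j.val = 0 := fun a => by
    have := congrArg (fun f : F →+ F => f a) h
    simp only [linMap, AddMonoidHom.coe_mk, ZeroHom.coe_mk, pw] at this
    simp only [sub_mul, Finset.sum_sub_distrib, this, sub_self]
  have := coeff_of_vanish _ _ (fun j : ZMod (2 * m + 1) => by
    rw [H.card]; exact Nat.pow_lt_pow_right one_lt_two (ZMod.val_lt j)) hv (2 ^ i.val)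
  rw [Finset.sum_filter, Finset.sum_eq_single i (fun j _ hne => if_neg fun e =>
      hne (ZMod.val_injective _ (Nat.pow_right_injective le_rfl e)))
    (fun hh => absurd (Finset.mem_univ i) hh), if_pos rfl] at this
  exact sub_eq_zero.1 this

theorem card_addHom (H : SzHyp F m) : Nat.card (F →+ F) = 2 ^ ((2 * m + 1) ^ 2) := by
  haveI := H.fin
  haveI := H.charTwo
  letI : Algebra (ZMod 2) F := ZMod.algebra F 2
  haveI : Fact (Nat.Prime 2) := ⟨Nat.prime_two⟩
  haveI : Module.Finite (ZMod 2) F := Module.Finite.of_finite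
  have hd : Module.finrank (ZMod 2) F = 2 * m + 1 := by
    haveI := Fintype.ofFinite F
    have h := Module.card_eq_pow_finrank (K := ZMod 2) (V := F)
    rw [← Nat.card_eq_fintype_card, H.card, ZMod.card] at h
    exact (Nat.pow_right_injective le_rfl h).symm
  have e : (F →+ F) ≃ (F →ₗ[ZMod 2] F) :=
    { toFun := fun f => f.toZModLinearMap 2
      invFun := fun g => g.toAddMonoidHom
      left_inv := fun f => rfl
      right_inv := fun g => LinearMap.ext fun x => rfl }
  rw [Nat.card_congr e, Module.natCard_eq_pow_finrank (K := ZMod 2), Nat.card_zmod,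
    Module.finrank_linearMap, hd, sq]

theorem finite_addHom (H : SzHyp F m) : Finite (F →+ F) := by
  refine (Nat.card_ne_zero.1 ?_).2
  rw [H.card_addHom]
  positivity

theorem linMap_surjective (H : SzHyp F m) : Function.Surjective H.linMap := by
  haveI := H.fin
  haveI := H.finite_addHom
  refine (Function.Injective.bijective_of_nat_card_le H.linMap_injective (le_of_eq ?_)).2
  rw [H.card_addHom, Nat.card_pi, Finset.prod_const, Finset.card_univ, ZMod.card, H.card, ← pow_mul, sq]

/-- Rigidity: an additive map compatible with `a ↦ a^σ·a` is a scalar times a field automorphism. -/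
theorem rigid (H : SzHyp F m) (α β : F →+ F) (h : ∀ a, β (th m a * a) = th m (α a) * α a) :
    ∃ (k : F) (i : ZMod (2 * m + 1)), ∀ a, α a = k * pw i a := by
  classical
  haveI := H.fin
  haveI : Fact (1 < 2 * m + 1) := ⟨by have := H.hm; omega⟩
  set n := 2 * m + 1
  set s : ZMod n := ((m + 1 : ℕ) : ZMod n) with hsdef
  have hs2 : s + s = 1 := by
    rw [hsdef, ← Nat.cast_add, show m + 1 + (m + 1) = n + 1 by omega, Nat.cast_add, ZMod.natCast_self, zero_add,
      Nat.cast_one]
  have hs0 : s ≠ 0 := fun e => by rw [e, add_zero] at hs2; exact zero_ne_one hs2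
  have h20 : (2 : ZMod n) ≠ 0 := by
    intro e
    have : (n : ℕ) ∣ 2 := (ZMod.natCast_eq_zero_iff 2 n).1 (by exact_mod_cast e)
    have h1 := Nat.le_of_dvd two_pos this
    have := H.hm
    omega
  obtain ⟨c, rfl⟩ := H.linMap_surjective α
  obtain ⟨b, rfl⟩ := H.linMap_surjective β
  let A : (ZMod n × ZMod n) ⊕ ZMod n → F := Sum.elim (fun p => th m (c p.1) * c p.2) b
  let D : (ZMod n × ZMod n) ⊕ ZMod n → Finset ℕ := Sum.elim (fun p => dSet (p.1 + s) p.2) fun l => dSet (l + s) l
  have hv : ∀ a : F, ∑ x, A x * a ^ (∑ i ∈ D x, 2 ^ i) = 0 := by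
    intro a
    rw [Fintype.sum_sum_type, Fintype.sum_prod_type]
    have e1 : th m (H.linMap c a) * H.linMap c a =
        ∑ i, ∑ j, th m (c i) * c j * a ^ (∑ t ∈ dSet (i + s) j, 2 ^ t) := by
      have hth : th m (H.linMap c a) = ∑ i, th m (c i) * pw (i + s) a := by
        have hadd : ∀ (t : Finset (ZMod n)) (f : ZMod n → F), th m (∑ i ∈ t, f i) = ∑ i ∈ t, th m (f i) :=
          fun t f => map_sum ({ toFun := th m, map_zero' := th_zero, map_add' := H.th_add } : F →+ F) f t
        show th m (∑ i, c i * pw i a) = _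
        rw [hadd]
        refine Finset.sum_congr rfl fun i _ => ?_
        rw [th_mul, H.th_eq_pw (pw i a), H.pw_add_index, add_comm]
      rw [hth]
      show _ * ∑ j, c j * pw j a = _
      rw [Finset.sum_mul_sum]
      refine Finset.sum_congr rfl fun i _ => Finset.sum_congr rfl fun j _ => ?_
      rw [← H.pw_mul_pw]
      ring
    have e2 : H.linMap b (th m a * a) = ∑ l, b l * a ^ (∑ t ∈ dSet (l + s) l, 2 ^ t) := by
      show ∑ l, b l * pw l (th m a * a) = _
      refine Finset.sum_congr rfl fun l _ => ?_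
      rw [H.pw_mul, H.th_eq_pw, H.pw_add_index, H.pw_mul_pw]
    simp only [A, D, Sum.elim_inl, Sum.elim_inr]
    rw [← e1, ← e2, h a, H.add_self]
  have coeff : ∀ u v : ZMod n, ∑ x ∈ Finset.univ.filter (fun x => D x = dSet u v), A x = 0 := by
    intro u v
    have := coeff_of_vanish A (fun x => ∑ i ∈ D x, 2 ^ i) (fun x => ?_) hv (∑ i ∈ dSet u v, 2 ^ i)
    · rw [← this]
      refine Finset.sum_congr (Finset.filter_congr fun x _ => ?_) fun _ _ => rfl
      exact ((Finset.geomSum_injective le_rfl).eq_iff).symm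
    · rcases x with p | l <;> exact H.dSet_sum_lt _ _
  have diag : ∀ u, c (u - s) = 0 ∨ c u = 0 := by
    intro u
    have := coeff u u
    rw [Finset.sum_eq_single (Sum.inl (u - s, u)) ?_ (fun hh => absurd (Finset.mem_filter.2
      ⟨Finset.mem_univ _, by simp [D]⟩) hh)] at this
    · rcases mul_eq_zero.1 this with h' | h'
      · exact Or.inl (eq_zero_of_pow_eq_zero h')
      · exact Or.inr h'
    · rintro (⟨i, j⟩ | l) hx hne
      · exfalso
        simp only [Finset.mem_filter, D, Sum.elim_inl, dSet_eq_iff] at hx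
        rcases hx.2 with ⟨h1, -, h3⟩ | ⟨-, h2, -⟩
        · subst h1 h3; simp at hne
        · exact h2 rfl
      · exfalso
        simp only [Finset.mem_filter, D, Sum.elim_inr, dSet_eq_iff] at hx
        rcases hx.2 with ⟨h1, -, -⟩ | ⟨-, h2, -⟩
        · exact hs0 (by simpa using h1)
        · exact h2 rfl
  have off : ∀ u v, u ≠ v → v ≠ u + s → u ≠ v + s →
      th m (c (u - s)) * c v + th m (c (v - s)) * c u = 0 := by
    intro u v huv h1 h2
    have := coeff u v
    rwa [Finset.sum_eq_add (Sum.inl (u - s, v)) (Sum.inl (v - s, u)) ?_ ?_ ?_ ?_] at this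
    · intro e
      simp only [Sum.inl.injEq, Prod.mk.injEq] at e
      exact huv e.2.symm
    · rintro (⟨i, j⟩ | l) hx ⟨hn1, hn2⟩
      · exfalso
        simp only [Finset.mem_filter, D, Sum.elim_inl, dSet_eq_iff] at hx
        rcases hx.2 with ⟨-, h', -⟩ | ⟨-, -, ⟨e1, e2⟩ | ⟨e1, e2⟩⟩
        · exact huv h'
        · exact hn1 (by rw [← e1, e2]; simp)
        · exact hn2 (by rw [← e1, e2]; simp)
      · exfalso
        simp only [Finset.mem_filter, D, Sum.elim_inr, dSet_eq_iff] at hx
        rcases hx.2 with ⟨-, h', -⟩ | ⟨-, -, ⟨e1, e2⟩ | ⟨e1, e2⟩⟩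
        · exact huv h'
        · exact h2 (by rw [← e2, e1])
        · exact h1 (by rw [← e2, e1])
    · intro hh
      exact absurd (Finset.mem_filter.2 ⟨Finset.mem_univ _, by simp [D]⟩) hh
    · intro hh
      exact absurd (Finset.mem_filter.2 ⟨Finset.mem_univ _, by
        simp [D, dSet_eq_iff, huv, Ne.symm huv]⟩) hh
  by_cases hex : ∃ u, c u ≠ 0
  · obtain ⟨u, hu⟩ := hex
    refine ⟨c u, u, fun a => ?_⟩
    have only : ∀ u w, c u ≠ 0 → c w ≠ 0 → u ≠ w → w = u - 1 := by
      intro u w hu hw huw
      by_contra hne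
      have hd := (diag u).resolve_right hu
      have hvu : u ≠ w + s := by
        intro e
        rw [e, add_sub_cancel_right] at hd
        exact hw hd
      have := off u (w + s) hvu (fun e => huw (add_right_cancel e).symm) (fun e => hne (by
        rw [e, add_assoc, hs2, add_sub_cancel_right]))
      rw [hd, th_zero, zero_mul, zero_add, add_sub_cancel_right, mul_eq_zero] at this
      rcases this with h' | h'
      · exact hw (eq_zero_of_pow_eq_zero h')
      · exact hu h'
    show ∑ j, c j * pw j a = _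
    refine Finset.sum_eq_single u (fun w _ hwu => ?_) (fun hh => absurd (Finset.mem_univ u) hh)
    by_cases hw : c w = 0
    · rw [hw, zero_mul]
    · exfalso
      have e1 := only u w hu hw (Ne.symm hwu)
      have e2 := only w u hw hu hwu
      rw [e1] at e2
      exact h20 (by linear_combination e2)
  · push Not at hex
    refine ⟨0, 0, fun a => ?_⟩
    show ∑ j, c j * pw j a = _
    simp [hex]

end SzHyp

end Cfsg.Agent.H7
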