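import Cfsg.Prelude.Def_Solvable
import Cfsg.Prelude.Def_Transfer
import Cfsg.Agent.H7.SzSylow
import Cfsg.Agent.H7.SzLinPoly
import Cfsg.Agent.H19.Cores

/-!
The automorphism group of a Sylow 2-subgroup of a Suzuki group.
-/

set_option autoImplicit false

namespace Cfsg.Agent.H7

/-- A normal `p`-subgroup of index prime to `p` is the `p`-core. -/
theorem pCore_eq_of_not_dvd_index {G : Type*} [Group G] [Finite G] {p : ℕ} [Fact p.Prime] {K : Subgroup G}
    (hK : K.Normal) (hp : IsPGroup p K) (hidx : ¬ p ∣ K.index) : Cfsg.pCore p G = K := by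
  refine le_antisymm ?_ (Cfsg.Agent.H19.le_pCore hK hp)
  have h1 : IsPGroup p (Cfsg.pCore p G) := Cfsg.Agent.H19.pCore_isPGroup p
  have h2 : Cfsg.pCore p G ⊔ K = K :=
    (hp.toSylow hidx).is_maximal' (@IsPGroup.to_sup_of_normal_left _ _ _ _ _ h1 hp (Cfsg.Agent.H19.pCore_normal p G))
      le_sup_right
  exact sup_eq_right.1 h2

variable {F : Type*} [Field F] {m : ℕ}

namespace SzHyp

/-- The element `U(a, b)` as an element of `Q`. -/
def qe (H : SzHyp F m) (a b : F) : H.Q := ⟨H.us a b, H.us_mem_Q a b⟩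

theorem qe_mul (H : SzHyp F m) (a b c d : F) : H.qe a b * H.qe c d = H.qe (a + c) (b + d + th m a * c) :=
  Subtype.ext (H.us_mul a b c d)

theorem qe_inj (H : SzHyp F m) {a b c d : F} : H.qe a b = H.qe c d ↔ a = c ∧ b = d := by
  rw [qe, qe, Subtype.mk.injEq, H.us_inj]

theorem qe_surj (H : SzHyp F m) (g : H.Q) : ∃ a b, g = H.qe a b := by
  obtain ⟨a, b, h⟩ := g.2
  exact ⟨a, b, Subtype.ext h⟩

theorem qe_sq (H : SzHyp F m) (a b : F) : H.qe a b * H.qe a b = H.qe 0 (th m a * a) := by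
  rw [H.qe_mul, H.qe_inj]
  exact ⟨H.add_self a, by rw [H.add_self, zero_add]⟩

/-- The first coordinate. -/
noncomputable def fst' (H : SzHyp F m) (g : H.Q) : F := (H.QEquiv.symm g).1
/-- The second coordinate. -/
noncomputable def snd' (H : SzHyp F m) (g : H.Q) : F := (H.QEquiv.symm g).2

theorem symm_qe (H : SzHyp F m) (a b : F) : H.QEquiv.symm (H.qe a b) = (a, b) :=
  H.QEquiv.symm_apply_eq.2 rfl
@[simp] theorem fst'_qe (H : SzHyp F m) (a b : F) : H.fst' (H.qe a b) = a := by rw [fst', H.symm_qe]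
@[simp] theorem snd'_qe (H : SzHyp F m) (a b : F) : H.snd' (H.qe a b) = b := by rw [snd', H.symm_qe]

theorem fst'_mul (H : SzHyp F m) (g h : H.Q) : H.fst' (g * h) = H.fst' g + H.fst' h := by
  obtain ⟨a, b, rfl⟩ := H.qe_surj g
  obtain ⟨c, d, rfl⟩ := H.qe_surj h
  simp [H.qe_mul]

theorem pw_th (H : SzHyp F m) (i : ZMod (2 * m + 1)) (a : F) : pw i (th m a) = th m (pw i a) := by
  rw [th, th, pw, pw, ← pow_mul, ← pow_mul, mul_comm]

/-- Semilinear automorphisms of `Q`, as homomorphisms. -/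
noncomputable def slHom (H : SzHyp F m) (k : Fˣ) (i : ZMod (2 * m + 1)) : H.Q →* H.Q :=
  MonoidHom.mk' (fun g => H.qe ((k : F) * pw i (H.fst' g)) ((k : F) * th m (k : F) * pw i (H.snd' g))) fun g h => by
    obtain ⟨a, b, rfl⟩ := H.qe_surj g
    obtain ⟨c, d, rfl⟩ := H.qe_surj h
    simp only [H.qe_mul, fst'_qe, snd'_qe, H.qe_inj, H.pw_add, H.pw_mul, H.pw_th, th_mul]
    constructor <;> ring

theorem slHom_qe (H : SzHyp F m) (k : Fˣ) (i : ZMod (2 * m + 1)) (a b : F) :
    H.slHom k i (H.qe a b) = H.qe ((k : F) * pw i a) ((k : F) * th m (k : F) * pw i b) := by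
  simp [slHom]

theorem slHom_bijective (H : SzHyp F m) (k : Fˣ) (i : ZMod (2 * m + 1)) : Function.Bijective (H.slHom k i) := by
  haveI := H.fin
  haveI := H.finite_Sz
  refine Finite.injective_iff_bijective.1 fun g h e => ?_
  obtain ⟨a, b, rfl⟩ := H.qe_surj g
  obtain ⟨c, d, rfl⟩ := H.qe_surj h
  rw [H.slHom_qe, H.slHom_qe, H.qe_inj] at e
  have inj : Function.Injective (fun x : F => pw i x) := fun x y hh => by
    have := congrArg (pw (-i)) hh
    simpa [H.pw_add_index, H.pw_zero_index] using this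
  rw [H.qe_inj]
  exact ⟨inj (mul_left_cancel₀ k.ne_zero e.1),
    inj (mul_left_cancel₀ (mul_ne_zero k.ne_zero (pow_ne_zero _ k.ne_zero)) e.2)⟩

/-- Semilinear automorphisms of `Q`. -/
noncomputable def slAut (H : SzHyp F m) (k : Fˣ) (i : ZMod (2 * m + 1)) : MulAut H.Q :=
  MulEquiv.ofBijective (H.slHom k i) (H.slHom_bijective k i)

theorem slAut_qe (H : SzHyp F m) (k : Fˣ) (i : ZMod (2 * m + 1)) (a b : F) :
    H.slAut k i (H.qe a b) = H.qe ((k : F) * pw i a) ((k : F) * th m (k : F) * pw i b) := H.slHom_qe k i a b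

/-- Central automorphisms. -/
noncomputable def kernAut (H : SzHyp F m) (f : F →+ F) : MulAut H.Q where
  toFun g := H.qe (H.fst' g) (H.snd' g + f (H.fst' g))
  invFun g := H.qe (H.fst' g) (H.snd' g + f (H.fst' g))
  left_inv g := by
    obtain ⟨a, b, rfl⟩ := H.qe_surj g
    simp [add_assoc, H.add_self]
  right_inv g := by
    obtain ⟨a, b, rfl⟩ := H.qe_surj g
    simp [add_assoc, H.add_self]
  map_mul' g h := by
    obtain ⟨a, b, rfl⟩ := H.qe_surj g
    obtain ⟨c, d, rfl⟩ := H.qe_surj h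
    simp only [H.qe_mul, fst'_qe, snd'_qe, H.qe_inj, map_add]
    refine ⟨trivial, ?_⟩; ring

theorem kernAut_qe (H : SzHyp F m) (f : F →+ F) (a b : F) : H.kernAut f (H.qe a b) = H.qe a (b + f a) := by
  show H.qe _ _ = _
  simp

/-- Central automorphisms as a homomorphism. -/
noncomputable def kernHom (H : SzHyp F m) : Multiplicative (F →+ F) →* MulAut H.Q where
  toFun f := H.kernAut f.toAdd
  map_one' := MulEquiv.ext fun g => by
    obtain ⟨a, b, rfl⟩ := H.qe_surj g
    simp [H.kernAut_qe]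
  map_mul' f f' := MulEquiv.ext fun g => by
    obtain ⟨a, b, rfl⟩ := H.qe_surj g
    simp only [MulAut.mul_apply, toAdd_mul, AddMonoidHom.add_apply, H.kernAut_qe, H.qe_inj, true_and]
    ring

theorem kernHom_injective (H : SzHyp F m) : Function.Injective H.kernHom := fun f f' e => by
  refine Multiplicative.toAdd.injective (DFunLike.ext _ _ fun a => ?_)
  have := congrArg (fun φ : MulAut H.Q => φ (H.qe a 0)) e
  simp only [kernHom, MonoidHom.coe_mk, OneHom.coe_mk, H.kernAut_qe, zero_add, H.qe_inj] at this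
  exact this.2

theorem central_qe (H : SzHyp F m) (b : F) : H.qe 0 b ∈ Subgroup.center H.Q := (H.mem_center_Q _).2 ⟨b, rfl⟩

theorem aut_qe_zero (H : SzHyp F m) (φ : MulAut H.Q) (b : F) : H.fst' (φ (H.qe 0 b)) = 0 := by
  have hmem : φ (H.qe 0 b) ∈ Subgroup.center H.Q := by
    rw [Subgroup.mem_center_iff]
    intro z
    obtain ⟨w, rfl⟩ := φ.surjective z
    rw [← map_mul, ← map_mul, Subgroup.mem_center_iff.1 (H.central_qe b) w]
  obtain ⟨c, hc⟩ := (H.mem_center_Q _).1 hmem
  rw [show φ (H.qe 0 b) = H.qe 0 c from Subtype.ext hc, fst'_qe]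

/-- The induced map on the quotient by the centre. -/
noncomputable def top' (H : SzHyp F m) (φ : MulAut H.Q) : F →+ F where
  toFun a := H.fst' (φ (H.qe a 0))
  map_zero' := H.aut_qe_zero φ 0
  map_add' a c := by
    have e : H.qe a 0 * H.qe c 0 = H.qe (a + c) 0 * H.qe 0 (th m a * c) := by
      rw [H.qe_mul, H.qe_mul, H.qe_inj]; simp
    have := congrArg (fun g => H.fst' (φ g)) e
    simp only [map_mul, H.fst'_mul, H.aut_qe_zero, add_zero] at this
    exact this.symm

theorem top'_eq (H : SzHyp F m) (φ : MulAut H.Q) (a b : F) : H.fst' (φ (H.qe a b)) = H.top' φ a := by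
  have e : H.qe a b = H.qe a 0 * H.qe 0 b := by rw [H.qe_mul, H.qe_inj]; simp
  rw [e, map_mul, H.fst'_mul, H.aut_qe_zero, add_zero]
  rfl

theorem top'_mul (H : SzHyp F m) (φ ψ : MulAut H.Q) (a : F) : H.top' (φ * ψ) a = H.top' φ (H.top' ψ a) := by
  show H.fst' (φ (ψ (H.qe a 0))) = _
  obtain ⟨c, d, hcd⟩ := H.qe_surj (ψ (H.qe a 0))
  rw [hcd, H.top'_eq, show H.top' ψ a = c by
    show H.fst' (ψ (H.qe a 0)) = c
    rw [hcd, fst'_qe]]

theorem top'_one (H : SzHyp F m) (a : F) : H.top' 1 a = a := by simp [top']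

theorem eq_kernAut_of_top' (H : SzHyp F m) {φ : MulAut H.Q} (h : ∀ a, H.top' φ a = a) : ∃ f, φ = H.kernAut f := by
  have hz : ∀ b, φ (H.qe 0 b) = H.qe 0 b := by
    intro b
    rcases eq_or_ne b 0 with rfl | hb
    · rw [show H.qe 0 0 = 1 from Subtype.ext H.us_zero, map_one]
    obtain ⟨k, hk⟩ := H.normBij_surjective (Units.mk0 b hb)
    have e : H.qe 0 b = H.qe (k : F) 0 * H.qe (k : F) 0 := by
      rw [H.qe_sq, mul_comm, hk, Units.val_mk0]
    obtain ⟨c, d, hcd⟩ := H.qe_surj (φ (H.qe (k : F) 0))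
    have hc : c = k := by
      have := h k
      rwa [show H.top' φ k = c by show H.fst' _ = _; rw [hcd, fst'_qe]] at this
    conv_lhs => rw [e, map_mul, hcd, H.qe_sq, hc]
    rw [mul_comm, hk, Units.val_mk0]
  have key0 : ∀ a, ∃ d, φ (H.qe a 0) = H.qe a d := by
    intro a
    obtain ⟨c, d, hcd⟩ := H.qe_surj (φ (H.qe a 0))
    have hc : c = a := by
      have := h a
      rwa [show H.top' φ a = c by show H.fst' _ = _; rw [hcd, fst'_qe]] at this
    exact ⟨d, by rw [hcd, hc]⟩
  choose g key using key0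
  let f : F →+ F :=
    { toFun := g
      map_zero' := by
        have := key 0
        rw [hz, H.qe_inj] at this
        exact this.2.symm
      map_add' := fun a c => by
        have e : H.qe a 0 * H.qe c 0 = H.qe (a + c) 0 * H.qe 0 (th m a * c) := by
          rw [H.qe_mul, H.qe_mul, H.qe_inj]; simp
        have := congrArg φ e
        rw [map_mul, map_mul, key, key, key (a + c), hz, H.qe_mul, H.qe_mul, H.qe_inj] at this
        linear_combination -this.2 }
  refine ⟨f, MulEquiv.ext fun g => ?_⟩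
  obtain ⟨a, b, rfl⟩ := H.qe_surj g
  rw [H.kernAut_qe]
  have e : H.qe a b = H.qe a 0 * H.qe 0 b := by rw [H.qe_mul, H.qe_inj]; simp
  rw [e, map_mul, key, hz, H.qe_mul, H.qe_inj]
  exact ⟨add_zero a, by show g a + b + _ = b + g a; rw [mul_zero, add_zero, add_comm]⟩

/-- The group of central automorphisms. -/
noncomputable def K (H : SzHyp F m) : Subgroup (MulAut H.Q) := H.kernHom.range

theorem mem_K_iff (H : SzHyp F m) (φ : MulAut H.Q) : φ ∈ H.K ↔ ∀ a, H.top' φ a = a := by
  constructor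
  · rintro ⟨f, rfl⟩ a
    show H.fst' (H.kernAut f.toAdd (H.qe a 0)) = a
    simp [H.kernAut_qe]
  · intro h
    obtain ⟨f, rfl⟩ := H.eq_kernAut_of_top' h
    exact ⟨Multiplicative.ofAdd f, rfl⟩

theorem K_normal (H : SzHyp F m) : H.K.Normal := by
  refine ⟨fun φ hφ ψ => (H.mem_K_iff _).2 fun a => ?_⟩
  rw [H.top'_mul, H.top'_mul, (H.mem_K_iff φ).1 hφ, ← H.top'_mul, mul_inv_cancel, H.top'_one]

theorem card_K (H : SzHyp F m) : Nat.card H.K = 2 ^ ((2 * m + 1) ^ 2) := by
  rw [← H.card_addHom]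
  exact (Nat.card_congr (MonoidHom.ofInjective H.kernHom_injective).toEquiv).symm

theorem K_elementary (H : SzHyp F m) : IsMulCommutative H.K ∧ ∀ φ ∈ H.K, φ ^ 2 = 1 := by
  refine ⟨⟨⟨fun a b => ?_⟩⟩, ?_⟩
  · obtain ⟨f, hf⟩ := a.2
    obtain ⟨f', hf'⟩ := b.2
    apply Subtype.ext
    rw [Subgroup.coe_mul, Subgroup.coe_mul, ← hf, ← hf', ← map_mul, ← map_mul, mul_comm]
  · rintro _ ⟨f, rfl⟩
    rw [← map_pow, ← map_one H.kernHom]
    congr 1
    rw [pow_two]
    refine Multiplicative.toAdd.injective (DFunLike.ext _ _ fun a => ?_)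
    simp [H.add_self]

/-- The semilinear data `(k, i)` together with a central automorphism parametrise all automorphisms. -/
theorem card_aut (H : SzHyp F m) :
    Nat.card (MulAut H.Q) = 2 ^ ((2 * m + 1) ^ 2) * ((2 * m + 1) * (2 ^ (2 * m + 1) - 1)) := by
  classical
  haveI := H.fin
  have htop : ∀ (k : Fˣ) i (f : F →+ F) a, H.top' (H.slAut k i * H.kernAut f) a = (k : F) * pw i a := by
    intro k i f a
    show H.fst' (H.slAut k i (H.kernAut f (H.qe a 0))) = _
    rw [H.kernAut_qe, H.slAut_qe, fst'_qe]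
  have bij : Function.Bijective (fun t : (F →+ F) × ZMod (2 * m + 1) × Fˣ => H.slAut t.2.2 t.2.1 * H.kernAut t.1) := by
    constructor
    · rintro ⟨f, i, k⟩ ⟨f', i', k'⟩ e
      have e1 : ∀ a, (k : F) * pw i a = (k' : F) * pw i' a := fun a => by
        rw [← htop k i f a, ← htop k' i' f' a]; exact congrArg (fun φ => H.top' φ a) e
      have hk : k = k' := Units.ext (by simpa [pw] using e1 1)
      subst hk
      have hi : i = i' := by
        have := H.linMap_injective (a₁ := Pi.single i (1 : F)) (a₂ := Pi.single i' (1 : F)) (DFunLike.ext _ _ fun a => by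
          show ∑ j, Pi.single (M := fun _ => F) i 1 j * pw j a = ∑ j, Pi.single (M := fun _ => F) i' 1 j * pw j a
          simp only [Pi.single_apply, ite_mul, one_mul, zero_mul, Finset.sum_ite_eq', Finset.mem_univ, if_true]
          exact mul_left_cancel₀ k.ne_zero (e1 a))
        by_contra hne
        have h1 := congrFun this i
        simp [Ne.symm hne, hne] at h1
      subst hi
      exact Prod.ext (Multiplicative.ofAdd.injective (H.kernHom_injective (mul_left_cancel (a := H.slAut k i) e))) rfl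
    · intro φ
      obtain ⟨k, i, hki⟩ := H.rigid (H.top' φ)
        { toFun := fun b => H.snd' (φ (H.qe 0 b))
          map_zero' := by rw [show H.qe 0 0 = 1 from Subtype.ext H.us_zero, map_one, ← show H.qe 0 0 = 1 from Subtype.ext H.us_zero, snd'_qe]
          map_add' := fun b d => by
            have e : H.qe 0 b * H.qe 0 d = H.qe 0 (b + d) := by rw [H.qe_mul, H.qe_inj]; simp
            have h0 : ∀ z, φ (H.qe 0 z) = H.qe 0 (H.snd' (φ (H.qe 0 z))) := fun z => by
              obtain ⟨x, y, hxy⟩ := H.qe_surj (φ (H.qe 0 z))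
              have := H.aut_qe_zero φ z
              rw [hxy, fst'_qe] at this
              rw [hxy, this, snd'_qe]
            rw [← e, map_mul, h0 b, h0 d, H.qe_mul]
            simp }
        (fun a => by
          show H.snd' (φ (H.qe 0 (th m a * a))) = _
          rw [← H.qe_sq a 0, map_mul]
          obtain ⟨x, y, hxy⟩ := H.qe_surj (φ (H.qe a 0))
          rw [hxy, H.qe_sq, snd'_qe, show H.top' φ a = x by show H.fst' _ = _; rw [hxy, fst'_qe]])
      have hk : k ≠ 0 := by
        rintro rfl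
        obtain ⟨g, hg⟩ := φ.surjective (H.qe 1 0)
        obtain ⟨a, b, rfl⟩ := H.qe_surj g
        have := H.top'_eq φ a b
        rw [hg, fst'_qe, hki, zero_mul] at this
        exact one_ne_zero this
      obtain ⟨f, hf⟩ := H.eq_kernAut_of_top' (φ := (H.slAut (Units.mk0 k hk) i)⁻¹ * φ) (fun a => by
        have hinj : Function.Injective (H.top' (H.slAut (Units.mk0 k hk) i)) := fun x y e => by
          have := congrArg (H.top' (H.slAut (Units.mk0 k hk) i)⁻¹) e
          rwa [← H.top'_mul, ← H.top'_mul, inv_mul_cancel, H.top'_one, H.top'_one] at this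
        apply hinj
        rw [← H.top'_mul, mul_inv_cancel_left, hki]
        show _ = H.fst' (H.slAut _ i (H.qe a 0))
        rw [H.slAut_qe, fst'_qe]
        rfl)
      exact ⟨⟨f, i, Units.mk0 k hk⟩, by simp only; rw [← hf, mul_inv_cancel_left]⟩
  rw [← Nat.card_eq_of_bijective _ bij, Nat.card_prod, Nat.card_prod, H.card_addHom, Nat.card_zmod, H.card_units]

theorem aut_statement (H : SzHyp F m) {S : Type*} [Group S] [Finite S] (e : S ≃* H.Q) :
    Cfsg.IsElementaryAbelian 2 (Cfsg.pCore 2 (MulAut S)) ∧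
      Nat.card (Cfsg.pCore 2 (MulAut S)) = 2 ^ ((2 * m + 1) ^ 2) ∧
      Nat.card (MulAut S) = 2 ^ ((2 * m + 1) ^ 2) * ((2 * m + 1) * (2 ^ (2 * m + 1) - 1)) := by
  haveI : Finite (MulAut S) := Finite.of_injective (fun f : MulAut S => (f : S → S)) DFunLike.coe_injective
  haveI : Fact (Nat.Prime 2) := ⟨Nat.prime_two⟩
  haveI := H.fin
  let E : MulAut H.Q ≃* MulAut S := MulAut.congr e.symm
  have hcard : Nat.card (MulAut S) = 2 ^ ((2 * m + 1) ^ 2) * ((2 * m + 1) * (2 ^ (2 * m + 1) - 1)) := by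
    rw [← Nat.card_congr E.toEquiv, H.card_aut]
  haveI := H.K_normal
  set K' := H.K.map E.toMonoidHom
  have hK' : Nat.card K' = 2 ^ ((2 * m + 1) ^ 2) := by
    rw [Subgroup.card_map_of_injective E.injective, H.card_K]
  have hidx : ¬ 2 ∣ K'.index := by
    have h := K'.card_mul_index
    rw [hK', hcard] at h
    rw [Nat.eq_of_mul_eq_mul_left (Nat.two_pow_pos _) h, ← even_iff_two_dvd, Nat.not_even_iff_odd]
    exact Nat.odd_mul.2 ⟨⟨m, rfl⟩, Nat.Even.sub_odd Nat.one_le_two_pow (by simp [Nat.even_pow]) odd_one⟩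
  rw [pCore_eq_of_not_dvd_index (H.K_normal.map _ E.surjective) (IsPGroup.of_card hK') hidx]
  refine ⟨⟨⟨⟨fun a b => ?_⟩⟩, ?_⟩, hK', hcard⟩
  · obtain ⟨x, hx, hx'⟩ := a.2
    obtain ⟨y, hy, hy'⟩ := b.2
    apply Subtype.ext
    rw [Subgroup.coe_mul, Subgroup.coe_mul, ← hx', ← hy', ← map_mul, ← map_mul]
    congr 1
    exact congrArg Subtype.val (H.K_elementary.1.is_comm.comm ⟨x, hx⟩ ⟨y, hy⟩)
  · rintro _ ⟨x, hx, rfl⟩
    rw [← map_pow, H.K_elementary.2 x hx, map_one]

end SzHyp

end Cfsg.Agent.H7
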