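import Cfsg.Agent.H7.ZassClassify
import Cfsg.Agent.S0885

/-!
The classification of Zassenhaus groups with abelian kernel, using Feit's inequality.
-/

set_option autoImplicit false
set_option linter.style.haveILetI false

namespace Cfsg.Agent.H7

open MulAction

universe u v

variable {G : Type u} {Ω : Type v} [Group G] [MulAction G Ω] [Fintype Ω] {a b : Ω} {U : Subgroup G}

/-- Zassenhaus groups with abelian kernel: sharply triply transitive or `PSL₂(q)`, `q` odd. -/
theorem abelian_kernel_classify (hZ : Cfsg.IsZassenhausGroup G Ω) (K : ZK G a b U)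
    (hc : ∀ u ∈ U, ∀ v ∈ U, u * v = v * u) :
    (IsMultiplyPretransitive G Ω 3 ∧ ∀ t : Fin 3 ↪ Ω, stabilizer G t = ⊥) ∨
      ∃ (F : Type) (_ : Field F) (_ : Fintype F), ringChar F ≠ 2 ∧ Fintype.card F + 1 = Fintype.card Ω ∧
        Nonempty (G ≃* Matrix.ProjectiveSpecialLinearGroup (Fin 2) F) := by
  haveI := K.z.finite
  have hU := K.card_U
  rw [Nat.card_eq_fintype_card (α := Ω)] at hU
  refine abelian_kernel_cases hZ K (fun ho => ?_) (fun N hN hUN ho => ?_)
  · rcases Cfsg.Agent.S0885.result hZ K.ne (Nat.card U) _ hU.symm rfl ho U K.le hU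
      (fun u hu u1 c hcf => by by_contra hca; exact u1 (K.free hu hca hcf)) with h | ⟨-, ⟨u, v, huv⟩, -⟩
    · omega
    · exact absurd (Subtype.ext (hc u.1 u.2 v.1 v.2)) huv
  · rcases Cfsg.Agent.S0885.result hN K.ne (Nat.card U) _ hU.symm rfl ho (U.subgroupOf N) (fun u hu => K.le hu)
      (by rw [Nat.card_congr (Subgroup.subgroupOfEquivOfLe hUN).toEquiv]; exact hU)
      (fun u hu u1 c hcf => by
        by_contra hca
        exact u1 (Subtype.ext (K.free (u := u.1) hu hca hcf))) with h | ⟨-, ⟨u, v, huv⟩, -⟩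
    · omega
    · exact absurd (Subtype.ext (Subtype.ext (hc u.1.1 u.2 v.1.1 v.2))) huv

end Cfsg.Agent.H7
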