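import Cfsg.Agent.H7.ZassBasic
import Cfsg.Agent.H21.Complement

/-!
A point `a`, a second point `b`, and the regular normal subgroup `U` of the stabiliser of `a` in a Zassenhaus group.
-/

set_option autoImplicit false
set_option linter.style.haveILetI false

namespace Cfsg.Agent.H7

open MulAction

variable {G Ω : Type*} [Group G] [MulAction G Ω]

/-- A Zassenhaus group with two marked points and the kernel of the stabiliser of the first one. -/
structure ZK (G : Type*) {Ω : Type*} [Group G] [MulAction G Ω] (a b : Ω) (U : Subgroup G) : Prop where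
  z : ZHyp G Ω
  ne : a ≠ b
  le : U ≤ stabilizer G a
  conj : ∀ g ∈ stabilizer G a, ∀ u ∈ U, g * u * g⁻¹ ∈ U
  reg : ∀ y y' : Ω, y ≠ a → y' ≠ a → ∃! u : U, (u : G) • y = y'

theorem ZK.of_normal {a b : Ω} {U : Subgroup G} (hZ : IsZassenhausGroup G Ω) (hab : a ≠ b)
    (hle : U ≤ stabilizer G a) (hn : (U.subgroupOf (stabilizer G a)).Normal)
    (hreg : ∀ y z : Ω, y ≠ a → z ≠ a → ∃! u : U, (u : G) • y = z) : ZK G a b U :=
  ⟨.of_zassenhaus hZ, hab, hle, fun g hg u hu => hn.conj_mem ⟨u, hle hu⟩ hu ⟨g, hg⟩, hreg⟩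

theorem ZHyp.exists_ZK [Finite Ω] (Z : ZHyp G Ω) {a b : Ω} (hab : a ≠ b) :
    ∃ U : Subgroup G, ZK G a b U ∧ Group.IsNilpotent U := by
  obtain ⟨U, h1, h2, h3, h4, -⟩ := Z.exists_kernel a
  exact ⟨U, ⟨Z, hab, h1, h2, h4⟩, h3⟩

namespace ZK

variable {a b : Ω} {U : Subgroup G} (K : ZK G a b U)
include K

theorem free {u : G} (hu : u ∈ U) {y : Ω} (hy : y ≠ a) (h : u • y = y) : u = 1 :=
  congrArg Subtype.val ((K.reg y y hy hy).unique (y₁ := ⟨u, hu⟩) (y₂ := 1) h (one_smul _ _))

theorem smul_a {u : G} (hu : u ∈ U) : u • a = a := K.le hu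

theorem smul_ne {u : G} (hu : u ∈ U) {y : Ω} (hy : y ≠ a) : u • y ≠ a :=
  fun e => hy (smul_left_cancel u (e.trans (K.smul_a hu).symm))

theorem reach {y : Ω} (hy : y ≠ a) : ∃ u ∈ U, u • b = y := by
  obtain ⟨u, hu, -⟩ := K.reg b y K.ne.symm hy
  exact ⟨u, u.2, hu⟩

theorem injective {u v : G} (hu : u ∈ U) (hv : v ∈ U) (h : u • b = v • b) : u = v :=
  congrArg Subtype.val ((K.reg b (v • b) K.ne.symm (K.smul_ne hv K.ne.symm)).unique
    (y₁ := ⟨u, hu⟩) (y₂ := ⟨v, hv⟩) h rfl)

theorem card_U [Finite Ω] : Nat.card U + 1 = Nat.card Ω := by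
  classical
  let f : Option U → Ω := fun o => o.elim a fun u => (u : G) • b
  have hf : Function.Bijective f := by
    constructor
    · rintro (_ | u) (_ | v) e
      · rfl
      · exact absurd e.symm (K.smul_ne v.2 K.ne.symm)
      · exact absurd e (K.smul_ne u.2 K.ne.symm)
      · exact congrArg some (Subtype.ext (K.injective u.2 v.2 e))
    · intro y
      by_cases hy : y = a
      · exact ⟨none, hy.symm⟩
      · obtain ⟨u, hu, e⟩ := K.reach hy
        exact ⟨some ⟨u, hu⟩, e⟩
  haveI : Finite (Option U) := Finite.of_injective f hf.1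
  haveI : Finite U := Finite.of_injective (some : U → Option U) (Option.some_injective _)
  rw [← Nat.card_eq_of_bijective f hf, Finite.card_option]

theorem conj_smul {h u : G} (hb : h • b = b) : (h * u * h⁻¹) • b = h • u • b := by
  rw [mul_smul, mul_smul, inv_smul_eq_iff.2 hb.symm]

theorem le_normalizer : stabilizer G a ⊓ stabilizer G b ≤ Subgroup.normalizer (U : Set G) := by
  intro h hh
  rw [Subgroup.mem_normalizer_iff]
  refine fun u => ⟨K.conj h hh.1 u, fun hu => ?_⟩
  have := K.conj h⁻¹ (inv_mem hh.1) _ hu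
  rwa [show h⁻¹ * (h * u * h⁻¹) * h⁻¹⁻¹ = u by group] at this

theorem fpf {h u : G} (hh : h ∈ stabilizer G a ⊓ stabilizer G b) (h1 : h ≠ 1) (hu : u ∈ U)
    (e : h * u * h⁻¹ = u) : u = 1 := by
  by_contra u1
  refine h1 (K.z.three h a b (u • b) K.ne (fun e' => u1 ?_) (K.smul_ne hu K.ne.symm).symm hh.1 hh.2 ?_)
  · exact K.free hu K.ne.symm e'.symm
  · rw [← K.conj_smul hh.2, e]

theorem conjHom_fpf (e : ↥(stabilizer G a ⊓ stabilizer G b)) (he : e ≠ 1) (u : U)
    (h : H21.conjHom K.le_normalizer e u = u) : u = 1 :=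
  Subtype.ext (K.fpf e.2 (fun e' => he (Subtype.ext e')) u.2 (congrArg Subtype.val h))

/-- A subgroup of `U` normalised by the two-point stabiliser has order congruent to one modulo its order. -/
theorem dvd_card_sub_one [Finite Ω] (W : Subgroup G) (hW : W ≤ U)
    (hinv : ∀ h ∈ stabilizer G a ⊓ stabilizer G b, ∀ w ∈ W, h * w * h⁻¹ ∈ W) :
    Nat.card ↥(stabilizer G a ⊓ stabilizer G b) ∣ Nat.card W - 1 := by
  classical
  haveI := K.z.finite
  set H := stabilizer G a ⊓ stabilizer G b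
  let X : SubMulAction H Ω :=
    { carrier := {x | x ≠ b ∧ ∃ w ∈ W, w • b = x}
      smul_mem' := by
        rintro ⟨h, hh⟩ x ⟨hx, w, hw, rfl⟩
        refine ⟨fun e => hx (smul_left_cancel h (e.trans hh.2.symm)), _, hinv h hh w hw, ?_⟩
        exact K.conj_smul hh.2 }
  have hfree : ∀ x : X, stabilizer H x = ⊥ := by
    rintro ⟨x, hx, w, hw, rfl⟩
    rw [Subgroup.eq_bot_iff_forall]
    rintro ⟨h, hh⟩ hfix
    have hfix' : h • (w • b) = w • b := congrArg Subtype.val hfix
    exact Subtype.ext (K.z.three h a b (w • b) K.ne hx.symm (K.smul_ne (hW hw) K.ne.symm).symm hh.1 hh.2 hfix')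
  have hc : Nat.card W - 1 = Nat.card X := by
    let f : {w : W // w ≠ 1} → X := fun w => ⟨(w.1 : G) • b,
      fun e => w.2 (Subtype.ext (K.free (hW w.1.2) K.ne.symm e)), w.1, w.1.2, rfl⟩
    have hf : Function.Bijective f := by
      refine ⟨fun v w e => Subtype.ext (Subtype.ext (K.injective (hW v.1.2) (hW w.1.2) (congrArg Subtype.val e))), ?_⟩
      rintro ⟨x, hx, w, hw, rfl⟩
      exact ⟨⟨⟨w, hw⟩, fun e => hx (by rw [show w = 1 from congrArg Subtype.val e, one_smul])⟩, rfl⟩
    rw [← Nat.card_eq_of_bijective f hf, show Nat.card {w : W // w ≠ 1} = Nat.card ↥({1}ᶜ : Set W) from rfl,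
      Nat.card_coe_set_eq, Set.ncard_compl, Set.ncard_singleton]
  rw [hc, Nat.card_congr (selfEquivOrbitsQuotientProd hfree), Nat.card_prod]
  exact dvd_mul_left _ _

theorem dvd_degree [Finite Ω] : Nat.card ↥(stabilizer G a ⊓ stabilizer G b) ∣ Nat.card Ω - 2 := by
  have := K.dvd_card_sub_one U le_rfl fun h hh u hu => K.conj h hh.1 u hu
  rwa [show Nat.card Ω - 2 = Nat.card U - 1 by rw [← K.card_U]; omega]

theorem card_stab [Finite Ω] :
    Nat.card (stabilizer G a) = Nat.card U * Nat.card ↥(stabilizer G a ⊓ stabilizer G b) := by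
  haveI := K.z.finite
  set H := stabilizer G a ⊓ stabilizer G b
  let f : U × H → stabilizer G a := fun p => ⟨p.1.1 * p.2.1, mul_mem (K.le p.1.2) p.2.2.1⟩
  have hf : Function.Bijective f := by
    constructor
    · rintro ⟨⟨u, hu⟩, ⟨h, hh⟩⟩ ⟨⟨v, hv⟩, ⟨k, hk⟩⟩ e
      have e' : u * h = v * k := congrArg Subtype.val e
      have e2 : u • b = v • b := by
        have := congrArg (· • b) e'
        simpa [mul_smul, show h • b = b from hh.2, show k • b = b from hk.2] using this
      have := K.injective hu hv e2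
      subst this
      exact Prod.ext rfl (Subtype.ext (mul_left_cancel e'))
    · rintro ⟨g, hg⟩
      have hga : g • a = a := hg
      obtain ⟨u, hu, e⟩ := K.reach (y := g • b) (fun e => K.ne (smul_left_cancel g (hga.trans e.symm)))
      refine ⟨(⟨u, hu⟩, ⟨u⁻¹ * g, (show u⁻¹ * g ∈ stabilizer G a from mul_mem (inv_mem (K.le hu)) hg), ?_⟩), Subtype.ext (mul_inv_cancel_left u g)⟩
      show (u⁻¹ * g) • b = b
      rw [mul_smul, inv_smul_eq_iff, e]
  rw [← Nat.card_eq_of_bijective f hf, Nat.card_prod]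

theorem card_group [Finite Ω] :
    Nat.card G = Nat.card Ω * (Nat.card U * Nat.card ↥(stabilizer G a ⊓ stabilizer G b)) := by
  haveI := K.z.finite
  haveI := K.z.transitive
  rw [← K.card_stab, ← index_stabilizer_of_transitive G a, mul_comm, Subgroup.card_mul_index]

/-- Every regular normal subgroup of the stabiliser is the Frobenius kernel, so it is nilpotent. -/
theorem nilpotent [Finite Ω] : Group.IsNilpotent U := by
  haveI := K.z.finite
  obtain ⟨V, hVle, hVc, hnil, hVreg, hmax⟩ := K.z.exists_kernel a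
  have K' : ZK G a b V := ⟨K.z, K.ne, hVle, hVc, hVreg⟩
  have hle : U ≤ V := by
    intro u hu
    by_cases u1 : u = 1
    · rw [u1]; exact one_mem V
    · exact hmax u (K.le hu) fun y hy e => u1 (K.free hu hy e)
  have h1 := K.card_U
  have h2 := K'.card_U
  rw [Subgroup.eq_of_le_of_card_ge hle (by omega)]
  exact hnil

end ZK

end Cfsg.Agent.H7
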