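import Cfsg.Prelude.Def_LieExceptional
import Cfsg.Agent.H7.SimpleCrit
import Cfsg.Agent.H21.FrobeniusStructure

/-!
Basic theory of Zassenhaus groups: point stabilisers are Frobenius groups, normal subgroups are again Zassenhaus
groups, and those of odd degree are simple.
-/

set_option autoImplicit false

namespace Cfsg.Agent.H7

open MulAction
open scoped Pointwise

variable {G Ω : Type*} [Group G] [MulAction G Ω]

/-- The part of a Zassenhaus group's definition used for the local structure. -/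
structure ZHyp (G Ω : Type*) [Group G] [MulAction G Ω] : Prop where
  faithful : FaithfulSMul G Ω
  two : ∀ {a b c d : Ω}, a ≠ b → c ≠ d → ∃ g : G, g • a = c ∧ g • b = d
  three : ∀ g : G, ∀ a b c : Ω, a ≠ b → b ≠ c → a ≠ c → g • a = a → g • b = b → g • c = c → g = 1
  fix : ∃ g : G, g ≠ 1 ∧ ∃ a b : Ω, a ≠ b ∧ g • a = a ∧ g • b = b

theorem ZHyp.of_zassenhaus (hZ : IsZassenhausGroup G Ω) : ZHyp G Ω :=
  ⟨hZ.1, fun hab hcd => is_two_pretransitive_iff.1 hZ.2.1 hab hcd, hZ.2.2.1, hZ.2.2.2.1⟩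

namespace ZHyp

variable (Z : ZHyp G Ω) [Finite Ω]
include Z

theorem finite : Finite G := by
  haveI := Z.faithful
  exact Finite.of_injective (fun g : G => fun x : Ω => g • x)
    fun g h e => FaithfulSMul.eq_of_smul_eq_smul fun x => congrFun e x

theorem exists_move {a b : Ω} (hab : a ≠ b) : ∃ c, c ≠ a ∧ c ≠ b := by
  obtain ⟨g, hg, x, y, hxy, hx, hy⟩ := Z.fix
  by_contra hc
  push Not at hc
  haveI := Z.faithful
  refine hg (FaithfulSMul.eq_of_smul_eq_smul (α := Ω) fun z => ?_)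
  rw [one_smul]
  have hz : ∀ z : Ω, z = a ∨ z = b := fun z => or_iff_not_imp_left.2 (hc z)
  rcases hz x with rfl | rfl <;> rcases hz y with rfl | rfl <;> rcases hz z with rfl | rfl <;>
    first | assumption | exact absurd rfl hxy

theorem exists_fix {a b : Ω} (hab : a ≠ b) : ∃ h : G, h ≠ 1 ∧ h • a = a ∧ h • b = b := by
  obtain ⟨g, hg, x, y, hxy, hx, hy⟩ := Z.fix
  obtain ⟨e, ea, eb⟩ := Z.two hxy hab
  refine ⟨e * g * e⁻¹, fun h => hg (conj_eq_one_iff.1 h), ?_, ?_⟩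
  · rw [← ea, mul_smul, inv_smul_smul, mul_smul, hx]
  · rw [← eb, mul_smul, inv_smul_smul, mul_smul, hy]

/-- The two-point stabiliser as a subgroup of the point stabiliser. -/
theorem fc {a b : Ω} (hab : a ≠ b) :
    Cfsg.IsFrobeniusComplement ((stabilizer G b).subgroupOf (stabilizer G a)) := by
  refine ⟨?_, ?_, ?_⟩
  · obtain ⟨h, h1, ha, hb⟩ := Z.exists_fix hab
    intro e
    have hm : (⟨h, ha⟩ : stabilizer G a) ∈ (stabilizer G b).subgroupOf (stabilizer G a) := hb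
    rw [e, Subgroup.mem_bot] at hm
    exact h1 (congrArg Subtype.val hm)
  · obtain ⟨c, hca, hcb⟩ := Z.exists_move hab
    obtain ⟨g, ga, gb⟩ := Z.two hab (Ne.symm hca)
    intro e
    exact hcb (gb.symm.trans (show (⟨g, ga⟩ : stabilizer G a) ∈ (stabilizer G b).subgroupOf (stabilizer G a) from
      e ▸ Subgroup.mem_top _))
  · intro g hg
    refine (Subgroup.eq_bot_iff_forall _).2 ?_
    rintro x ⟨hx, hx'⟩
    replace hx' : x ∈ MulAut.conj g • (stabilizer G b).subgroupOf (stabilizer G a) := hx'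
    rw [H21.mem_conj_smul] at hx'
    refine Subtype.ext (Z.three x.1 a b (g.1 • b) hab ?_ ?_ x.2 hx ?_)
    · exact fun e => hg e.symm
    · intro e
      exact hab (smul_left_cancel g.1 ((g.2 : g.1 • a = a).trans e))
    · have h : (g.1⁻¹ * x.1 * g.1) • b = b := hx'
      rw [mul_smul, mul_smul, inv_smul_eq_iff] at h
      exact h

/-- The regular normal subgroup of a point stabiliser. -/
theorem exists_kernel (a : Ω) : ∃ U : Subgroup G, U ≤ stabilizer G a ∧
    (∀ g ∈ stabilizer G a, ∀ u ∈ U, g * u * g⁻¹ ∈ U) ∧ Group.IsNilpotent U ∧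
    (∀ y z : Ω, y ≠ a → z ≠ a → ∃! u : U, (u : G) • y = z) ∧
    (∀ g ∈ stabilizer G a, (∀ y, y ≠ a → g • y ≠ y) → g ∈ U) := by
  haveI := Z.finite
  obtain ⟨g, hg, x, y, hxy, hx, hy⟩ := Z.fix
  obtain ⟨b, hba⟩ : ∃ b, b ≠ a := by
    by_cases h : x = a
    · exact ⟨y, fun e => hxy (h.trans e.symm)⟩
    · exact ⟨x, h⟩
  have hfc := Z.fc hba.symm
  obtain ⟨N, hNk, hNn, hNc, hNnil⟩ := H21.exists_kernel_nilpotent hfc
  have hker : ∀ n : stabilizer G a, n ∈ N ↔ n = 1 ∨ ∀ y, y ≠ a → n.1 • y ≠ y := by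
    intro n
    rw [← SetLike.mem_coe, hNk, H21.mem_frobeniusKernel]
    refine or_congr_right ⟨fun h y hy e => ?_, fun h g hg' => ?_⟩
    · obtain ⟨k, ka, kb⟩ := Z.two hba.symm hy.symm
      refine h ⟨k, ka⟩ ?_
      show (k⁻¹ * n.1 * k) • b = b
      rw [mul_smul, mul_smul, kb, e, ← kb, inv_smul_smul]
    · refine h (g.1 • b) (fun e => hba ?_) ?_
      · exact smul_left_cancel g.1 (e.trans (g.2 : g.1 • a = a).symm)
      · have h' : (g.1⁻¹ * n.1 * g.1) • b = b := hg'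
        rw [mul_smul, mul_smul, inv_smul_eq_iff] at h'
        exact h'
  refine ⟨N.map (stabilizer G a).subtype, Subgroup.map_subtype_le N, ?_, ?_, ?_, ?_⟩
  · rintro g hg _ ⟨n, hn, rfl⟩
    exact ⟨_, hNn.conj_mem n hn ⟨g, hg⟩, rfl⟩
  · exact Group.nilpotent_of_mulEquiv (G := N) (N.equivMapOfInjective _ Subtype.val_injective)
  · have reach : ∀ z, z ≠ a → ∃ n : stabilizer G a, n ∈ N ∧ n.1 • b = z := by
      intro z hz
      obtain ⟨g, ga, gb⟩ := Z.two hba.symm hz.symm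
      obtain ⟨⟨n, h⟩, hnh⟩ := hNc.2 (⟨g, ga⟩ : stabilizer G a)
      refine ⟨n, n.2, ?_⟩
      have e : n.1.1 * h.1.1 = g := congrArg Subtype.val hnh
      have hb' : h.1.1 • b = b := h.2
      rw [← e, mul_smul, hb'] at gb
      exact gb
    intro y z hy hz
    obtain ⟨n, hn, hny⟩ := reach y hy
    obtain ⟨n', hn', hnz⟩ := reach z hz
    refine ⟨⟨n'.1 * n.1⁻¹, ⟨n' * n⁻¹, mul_mem hn' (inv_mem hn), rfl⟩⟩, ?_, ?_⟩
    · show (n'.1 * n.1⁻¹) • y = z
      rw [mul_smul, inv_smul_eq_iff.2 hny.symm, hnz]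
    · rintro ⟨_, u, hu, rfl⟩ h
      have hfix : (n * n'⁻¹ * u).1 • y = y := by
        show (n.1 * n'.1⁻¹ * u.1) • y = y
        rw [mul_smul, show u.1 • y = z from h, mul_smul, inv_smul_eq_iff.2 hnz.symm, hny]
      have := ((hker _).1 (mul_mem (mul_mem hn (inv_mem hn')) hu)).resolve_right fun h' => h' y hy hfix
      apply Subtype.ext
      show u.1 = n'.1 * n.1⁻¹
      have h1 : n.1 * n'.1⁻¹ * u.1 = 1 := congrArg Subtype.val this
      rw [eq_inv_of_mul_eq_one_right h1, mul_inv_rev, inv_inv]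
  · intro g hg hfree
    exact ⟨⟨g, hg⟩, (hker _).2 (Or.inr hfree), rfl⟩

omit [Finite Ω] in
theorem transitive : IsPretransitive G Ω := by
  refine ⟨fun x y => ?_⟩
  rcases eq_or_ne x y with rfl | h
  · exact ⟨1, one_smul _ _⟩
  · obtain ⟨g, hg, -⟩ := Z.two h h.symm
    exact ⟨g, hg⟩

/-- A normal subgroup acting with trivial two-point stabilisers contains a regular subgroup normal in `G`. -/
theorem exists_regular_of_semiregular (N : Subgroup G) [N.Normal] [IsPretransitive N Ω]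
    (a : Ω) (hNa : ∃ n ∈ N, n ≠ 1 ∧ n • a = a)
    (htriv : ∀ n ∈ N, ∀ x y : Ω, x ≠ y → n • x = x → n • y = y → n = 1) :
    ∃ R : Subgroup G, R.Normal ∧ IsPretransitive R Ω ∧ ∀ x : Ω, stabilizer R x = ⊥ := by
  haveI := Z.finite
  set H := stabilizer N a with hH
  have hfc : Cfsg.IsFrobeniusComplement H := by
    refine ⟨?_, ?_, ?_⟩
    · obtain ⟨n, hn, h1, h2⟩ := hNa
      intro e
      have hm : (⟨n, hn⟩ : N) ∈ H := h2
      rw [e, Subgroup.mem_bot] at hm
      exact h1 (congrArg Subtype.val hm)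
    · intro e
      obtain ⟨g, hg, x, y, hxy, -, -⟩ := Z.fix
      obtain ⟨n, hn⟩ := exists_smul_eq N a x
      obtain ⟨n', hn'⟩ := exists_smul_eq N a y
      have hn1 : n • a = a := (e ▸ Subgroup.mem_top n : n ∈ H)
      have hn1' : n' • a = a := (e ▸ Subgroup.mem_top n' : n' ∈ H)
      exact hxy (hn.symm.trans (hn1.trans (hn1'.symm.trans hn')))
    · intro g hg
      refine (Subgroup.eq_bot_iff_forall _).2 ?_
      rintro x ⟨hx, hx'⟩
      replace hx' : x ∈ MulAut.conj g • H := hx'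
      rw [H21.mem_conj_smul] at hx'
      have h : (g⁻¹ * x * g) • a = a := hx'
      rw [mul_smul, mul_smul, inv_smul_eq_iff] at h
      exact Subtype.ext (htriv x.1 x.2 a (g • a) (fun e => hg e.symm) hx h)
  obtain ⟨K, hK, hKn, hKc⟩ := H21.exists_kernel hfc
  have hker : ∀ n : N, n ∈ K ↔ n = 1 ∨ ∀ x : Ω, n • x ≠ x := by
    intro n
    rw [← SetLike.mem_coe, hK, H21.mem_frobeniusKernel]
    refine or_congr_right ⟨fun h x e => ?_, fun h g hg' => ?_⟩
    · obtain ⟨k, hk⟩ := exists_smul_eq N a x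
      refine h k ?_
      show (k⁻¹ * n * k) • a = a
      rw [mul_smul, mul_smul, hk, e, ← hk, inv_smul_smul]
    · refine h (g • a) ?_
      have h' : (g⁻¹ * n * g) • a = a := hg'
      rw [mul_smul, mul_smul, inv_smul_eq_iff] at h'
      exact h'
  refine ⟨K.map N.subtype, ⟨?_⟩, ⟨fun x y => ?_⟩, fun x => ?_⟩
  · rintro _ ⟨n, hn, rfl⟩ g
    refine ⟨⟨g * n.1 * g⁻¹, Subgroup.Normal.conj_mem ‹_› _ n.2 g⟩, ?_, rfl⟩
    rw [SetLike.mem_coe, hker] at hn ⊢
    rcases hn with rfl | hn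
    · left; apply Subtype.ext; simp
    · right
      intro z e
      have e' : (g * n.1 * g⁻¹) • z = z := e
      rw [mul_smul, mul_smul, smul_eq_iff_eq_inv_smul] at e'
      exact hn (g⁻¹ • z) e'
  · obtain ⟨n₁, hn₁⟩ := exists_smul_eq N a x
    obtain ⟨n₂, hn₂⟩ := exists_smul_eq N a y
    obtain ⟨⟨k₁, h₁⟩, e₁⟩ := hKc.2 n₁
    obtain ⟨⟨k₂, h₂⟩, e₂⟩ := hKc.2 n₂
    simp only at e₁ e₂
    rw [← e₁, mul_smul, (h₁.2 : h₁.1 • a = a)] at hn₁
    rw [← e₂, mul_smul, (h₂.2 : h₂.1 • a = a)] at hn₂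
    refine ⟨⟨(k₂.1 * k₁.1⁻¹ : N).1, ⟨_, mul_mem k₂.2 (inv_mem k₁.2), rfl⟩⟩, ?_⟩
    show (k₂.1 * k₁.1⁻¹ : N) • x = y
    rw [mul_smul, inv_smul_eq_iff.2 hn₁.symm, hn₂]
  · refine (Subgroup.eq_bot_iff_forall _).2 ?_
    rintro ⟨_, n, hn, rfl⟩ hx
    rcases (hker n).1 hn with rfl | h
    · rfl
    · exact absurd (show n • x = x from hx) (h x)

end ZHyp

/-- A regular normal subgroup of a doubly transitive group is abelian. -/
theorem regular_normal_comm [Finite G] (h2 : ∀ {a b c d : Ω}, a ≠ b → c ≠ d → ∃ g : G, g • a = c ∧ g • b = d)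
    (R : Subgroup G) [R.Normal] [IsPretransitive R Ω] (a : Ω) (hreg : ∀ x : Ω, stabilizer R x = ⊥) :
    ∀ r ∈ R, ∀ s ∈ R, r * s = s * r := by
  rcases subsingleton_or_nontrivial R with hs | hs
  · intro r hr s hs'
    rw [show r = s from congrArg Subtype.val (Subsingleton.elim (⟨r, hr⟩ : R) ⟨s, hs'⟩)]
  obtain ⟨⟨r₀, hr₀⟩, hne₀⟩ := exists_ne (1 : R)
  have inj : ∀ r ∈ R, r • a = a → r = 1 := fun r hr e => by
    have hm : (⟨r, hr⟩ : R) ∈ stabilizer R a := e
    rw [hreg a, Subgroup.mem_bot] at hm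
    exact congrArg Subtype.val hm
  have conj : ∀ r ∈ R, ∀ s ∈ R, r ≠ 1 → s ≠ 1 → ∃ g : G, g * r * g⁻¹ = s := by
    intro r hr s hs' r1 s1
    obtain ⟨g, ga, gb⟩ := h2 (fun e => r1 (inj r hr e.symm)) (fun e => s1 (inj s hs' e.symm))
    refine ⟨g, ?_⟩
    have hmem : g * r * g⁻¹ ∈ R := Subgroup.Normal.conj_mem ‹_› r hr g
    have h : (s⁻¹ * (g * r * g⁻¹)) • a = a := by
      rw [mul_smul, mul_smul, mul_smul, inv_smul_eq_iff.2 ga.symm, gb, inv_smul_smul]
    have := inj _ (mul_mem (inv_mem hs') hmem) h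
    exact (inv_mul_eq_one.1 this).symm
  have hord : ∀ x y : R, x ≠ 1 → y ≠ 1 → orderOf x = orderOf y := by
    intro x y hx hy
    obtain ⟨g, hg⟩ := conj x.1 x.2 y.1 y.2 (fun e => hx (Subtype.ext e)) (fun e => hy (Subtype.ext e))
    rw [← Subgroup.orderOf_coe, ← Subgroup.orderOf_coe, ← hg]
    exact (MulEquiv.orderOf_eq (MulAut.conj g) x.1).symm
  obtain ⟨p, hp, hpd⟩ := Nat.exists_prime_and_dvd (Finite.one_lt_card (α := R)).ne'
  haveI : Fact p.Prime := ⟨hp⟩
  obtain ⟨x, hx⟩ := exists_prime_orderOf_dvd_card' p hpd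
  have hx1 : x ≠ 1 := fun e => hp.one_lt.ne (by rw [← hx, e, orderOf_one])
  have hP : IsPGroup p R := fun y => by
    rcases eq_or_ne y 1 with rfl | hy
    · exact ⟨0, one_pow _⟩
    · exact ⟨1, by rw [pow_one, ← hx, ← hord y x hy hx1, pow_orderOf_eq_one]⟩
  obtain ⟨⟨z, hzc⟩, hz1⟩ := (nontrivial_iff_exists_ne (1 : Subgroup.center R)).1 hP.center_nontrivial
  intro r hr s hs'
  rcases eq_or_ne r 1 with rfl | r1
  · rw [one_mul, mul_one]
  obtain ⟨g, hg⟩ := conj z.1 z.2 r hr (fun e => hz1 (Subtype.ext (Subtype.ext e))) r1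
  have hs2 : g⁻¹ * s * g ∈ R := by
    have := Subgroup.Normal.conj_mem ‹R.Normal› s hs' g⁻¹
    rwa [inv_inv] at this
  have := congrArg Subtype.val (Subgroup.mem_center_iff.1 hzc ⟨_, hs2⟩)
  rw [← hg]
  calc g * z.1 * g⁻¹ * s = g * (z.1 * (g⁻¹ * s * g)) * g⁻¹ := by group
    _ = g * ((g⁻¹ * s * g) * z.1) * g⁻¹ := by rw [show (g⁻¹ * s * g) * z.1 = z.1 * (g⁻¹ * s * g) from this]
    _ = _ := by group

/-- Normal subgroups of Zassenhaus groups are Zassenhaus groups. -/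
theorem zassenhaus_normal [Finite Ω] (hZ : IsZassenhausGroup G Ω) (N : Subgroup G) [N.Normal] (hN : N ≠ ⊥) :
    IsZassenhausGroup N Ω := by
  have Z := ZHyp.of_zassenhaus hZ
  haveI := Z.finite
  haveI := Z.faithful
  haveI := isPretransitive_of_normal_two_transitive hZ.2.1 N hN
  obtain ⟨a, ha⟩ := hZ.2.2.2.2 N ‹_› inferInstance
  have hall : ∀ x : Ω, ∃ n ∈ N, n ≠ 1 ∧ n • x = x := by
    intro x
    obtain ⟨⟨n, hn⟩, hna, hn1⟩ := (Subgroup.bot_or_exists_ne_one _).resolve_left ha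
    obtain ⟨k, hk⟩ := exists_smul_eq N a x
    refine ⟨k.1 * n * k.1⁻¹, mul_mem (mul_mem k.2 hn) (inv_mem k.2), fun e => hn1 (Subtype.ext (conj_eq_one_iff.1 e)), ?_⟩
    have hk' : k.1 • a = x := hk
    rw [mul_smul, mul_smul, inv_smul_eq_iff.2 hk'.symm, show n • a = a from hna, hk']
  have hpair : ∃ n ∈ N, n ≠ 1 ∧ ∃ x y : Ω, x ≠ y ∧ n • x = x ∧ n • y = y := by
    by_contra hc
    push Not at hc
    obtain ⟨R, hR, hRt, hRs⟩ := Z.exists_regular_of_semiregular N a (hall a) fun n hn x y hxy hx hy => by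
      by_contra h1
      exact hc n hn h1 x y hxy hx hy
    obtain ⟨x, hx⟩ := hZ.2.2.2.2 R hR hRt
    exact hx (hRs x)
  obtain ⟨n, hn, hn1, x, y, hxy, hnx, hny⟩ := hpair
  obtain ⟨U, hUle, hUn, -, hUreg, hUmax⟩ := Z.exists_kernel x
  have hinj : ∀ u ∈ U, u * n = n * u → u = 1 := by
    intro u hu hc
    by_contra hu1
    have hyu : u • y ≠ y := fun e => hu1 (congrArg Subtype.val
      ((hUreg y y hxy.symm hxy.symm).unique (y₁ := ⟨u, hu⟩) (y₂ := 1) e (one_smul _ _)))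
    refine hn1 (Z.three n x y (u • y) hxy hyu.symm (fun e => hxy ?_) hnx hny (by rw [← mul_smul, ← hc, mul_smul, hny]))
    exact smul_left_cancel u ((show u • x = x from hUle hu).trans e)
  have hUN : U ≤ N := by
    let f : U → U := fun u => ⟨u.1 * (n * u.1⁻¹ * n⁻¹), mul_mem u.2 (hUn n hnx _ (inv_mem u.2))⟩
    have hf : Function.Injective f := by
      intro u v e
      have e' : u.1 * (n * u.1⁻¹ * n⁻¹) = v.1 * (n * v.1⁻¹ * n⁻¹) := congrArg Subtype.val e
      refine (inv_mul_eq_one.1 (Subtype.ext (hinj _ (v⁻¹ * u).2 ?_))).symm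
      show (v.1⁻¹ * u.1) * n = n * (v.1⁻¹ * u.1)
      calc (v.1⁻¹ * u.1) * n = v.1⁻¹ * (u.1 * (n * u.1⁻¹ * n⁻¹)) * n * u.1 := by group
        _ = v.1⁻¹ * (v.1 * (n * v.1⁻¹ * n⁻¹)) * n * u.1 := by rw [e']
        _ = _ := by group
    intro u hu
    obtain ⟨v, hv⟩ := Finite.surjective_of_injective hf ⟨u, hu⟩
    have e : v.1 * (n * v.1⁻¹ * n⁻¹) = u := congrArg Subtype.val hv
    rw [← e, show v.1 * (n * v.1⁻¹ * n⁻¹) = (v.1 * n * v.1⁻¹) * n⁻¹ by group]
    exact mul_mem (Subgroup.Normal.conj_mem ‹_› n hn _) (inv_mem hn)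
  have two : ∀ {p q r s : Ω}, p ≠ q → r ≠ s → ∃ g : N, g • p = r ∧ g • q = s := by
    intro p q r s hpq hrs
    obtain ⟨e, he⟩ := exists_smul_eq N p x
    obtain ⟨e', he'⟩ := exists_smul_eq N r x
    have h1 : e • q ≠ x := fun h => hpq (smul_left_cancel e (he.trans h.symm))
    have h2 : e' • s ≠ x := fun h => hrs (smul_left_cancel e' (he'.trans h.symm))
    obtain ⟨u, hu, -⟩ := hUreg _ _ h1 h2
    refine ⟨e'⁻¹ * ⟨u.1, hUN u.2⟩ * e, ?_, ?_⟩
    · rw [mul_smul, mul_smul, he, inv_smul_eq_iff, he']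
      exact hUle u.2
    · rw [mul_smul, mul_smul, inv_smul_eq_iff]
      exact hu
  refine ⟨⟨fun {g₁ g₂} h => Subtype.ext (FaithfulSMul.eq_of_smul_eq_smul (α := Ω) h)⟩,
    is_two_pretransitive_iff.2 two, fun g p q r h1 h2 h3 e1 e2 e3 => Subtype.ext (Z.three g.1 p q r h1 h2 h3 e1 e2 e3),
    ⟨⟨n, hn⟩, fun e => hn1 (congrArg Subtype.val e), x, y, hxy, hnx, hny⟩, fun R hR hRt => ?_⟩
  by_contra hreg
  push Not at hreg
  haveI := hR
  haveI := hRt
  have hab := regular_normal_comm (G := N) two R x hreg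
  have habel : ∀ g : G, ∀ r ∈ R, (⟨g * r.1 * g⁻¹, Subgroup.Normal.conj_mem ‹N.Normal› _ r.2 g⟩ : N) ∈ R := by
    intro g r hr
    set c : N := ⟨g * r.1 * g⁻¹, Subgroup.Normal.conj_mem ‹N.Normal› _ r.2 g⟩
    let φ : N →* N := ((MulAut.conjNormal g : MulAut N) : N ≃* N).toMonoidHom
    have hφv : ∀ z : N, (φ z).1 = g * z.1 * g⁻¹ := fun z => MulAut.conjNormal_apply g z
    haveI : (R.map φ).Normal := hR.map φ ((MulAut.conjNormal g : MulAut N).surjective)
    haveI : IsPretransitive (R.map φ) Ω := ⟨fun p q => by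
      obtain ⟨r', hr'⟩ := exists_smul_eq R (g⁻¹ • p) (g⁻¹ • q)
      refine ⟨⟨φ r'.1, Subgroup.mem_map_of_mem _ r'.2⟩, ?_⟩
      show (φ r'.1).1 • p = q
      rw [hφv, mul_smul, mul_smul, show r'.1.1 • (g⁻¹ • p) = g⁻¹ • q from hr', smul_inv_smul]⟩
    have hregφ : ∀ p : Ω, stabilizer (R.map φ) p = ⊥ := fun p => (Subgroup.eq_bot_iff_forall _).2 <| by
      rintro ⟨_, r', hr', rfl⟩ hp
      have h' : (φ r').1 • p = p := hp
      rw [hφv, mul_smul, mul_smul, smul_eq_iff_eq_inv_smul] at h'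
      have h2 : (⟨r', hr'⟩ : R) ∈ stabilizer R (g⁻¹ • p) := h'
      rw [hreg, Subgroup.mem_bot] at h2
      have h3 : r' = 1 := congrArg Subtype.val h2
      subst h3
      exact Subtype.ext (map_one φ)
    obtain ⟨s, hs, -⟩ : ∃ s ∈ R.map φ, (s : N) = c := ⟨c, ⟨r, hr, Subtype.ext (hφv r)⟩, rfl⟩
    by_contra hcR
    have hdis : R ⊓ R.map φ = ⊥ ∨ R.map φ ≤ R := by
      by_cases hint : R ⊓ R.map φ = ⊥
      · exact Or.inl hint
      right
      obtain ⟨z, ⟨hz1, hz2⟩, hz⟩ := (Subgroup.bot_or_exists_ne_one _).resolve_left hint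
      intro w hw
      rcases eq_or_ne w 1 with rfl | hw1
      · exact one_mem _
      have i1 : ∀ v ∈ R.map φ, v • x = x → v = 1 := fun v hv e => by
        have hm : (⟨v, hv⟩ : R.map φ) ∈ stabilizer (R.map φ) x := e
        rw [hregφ x, Subgroup.mem_bot] at hm
        exact congrArg Subtype.val hm
      obtain ⟨k, kx, ky⟩ := two (fun e => hz (i1 z hz2 e.symm)) (fun e => hw1 (i1 w hw e.symm))
      have e1 : (w⁻¹ * (k * z * k⁻¹)) • x = x := by
        rw [mul_smul, mul_smul, mul_smul, inv_smul_eq_iff.2 kx.symm, ky, inv_smul_smul]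
      have := i1 _ (mul_mem (inv_mem hw) (Subgroup.Normal.conj_mem ‹(R.map φ).Normal› z hz2 k)) e1
      rw [inv_mul_eq_one.1 this]
      exact hR.conj_mem z hz1 k
    rcases hdis with hd | hd
    · have hcomm : ∀ u ∈ R, ∀ v ∈ R.map φ, u * v = v * u := fun u hu v hv =>
        (Subgroup.commute_of_normal_of_disjoint R (R.map φ) hR ‹_› (disjoint_iff.2 hd) u v hu hv)
      obtain ⟨u, hu⟩ := exists_smul_eq R (c⁻¹ • x) x
      have hcφ : c ∈ R.map φ := ⟨r, hr, Subtype.ext (hφv r)⟩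
      have e1 : (u.1 * c⁻¹) • x = x := by rw [mul_smul]; exact hu
      have hfix : ∀ p : Ω, (u.1 * c⁻¹) • p = p := by
        intro p
        obtain ⟨w, hw⟩ := exists_smul_eq R x p
        have hwc : w.1 * (u.1 * c⁻¹) = (u.1 * c⁻¹) * w.1 := by
          rw [← mul_assoc, hab _ w.2 _ u.2, mul_assoc, hcomm _ w.2 _ (inv_mem hcφ), mul_assoc]
        rw [← show w.1 • x = p from hw, ← mul_smul, ← hwc, mul_smul, e1]
      have h1 : u.1.1 * c.1⁻¹ = 1 := FaithfulSMul.eq_of_smul_eq_smul (α := Ω) fun p => by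
        rw [one_smul]; exact hfix p
      exact hcR (by rw [← Subtype.ext (mul_inv_eq_one.1 h1)]; exact u.2)
    · exact hcR (hd ⟨r, hr, Subtype.ext (hφv r)⟩)
  obtain ⟨z, hz⟩ := hZ.2.2.2.2 (R.map N.subtype) ⟨by
      rintro _ ⟨r, hr, rfl⟩ g
      exact ⟨_, habel g r hr, rfl⟩⟩ ⟨fun p q => by
      obtain ⟨r, hr⟩ := exists_smul_eq R p q
      exact ⟨⟨r.1.1, ⟨r.1, r.2, rfl⟩⟩, hr⟩⟩
  refine hz ((Subgroup.eq_bot_iff_forall _).2 ?_)
  rintro ⟨_, r, hr, rfl⟩ h'
  have h2 : (⟨r, hr⟩ : R) ∈ stabilizer R z := h'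
  rw [hreg, Subgroup.mem_bot] at h2
  have h3 : r = 1 := congrArg Subtype.val h2
  subst h3
  rfl

/-- In odd degree: `|H|` is odd, an involution swaps each pair and inverts the two-point stabiliser. -/
theorem odd_degree_data [Fintype Ω] (Z : ZHyp G Ω) (hodd : Odd (Fintype.card Ω)) {a b : Ω} (hab : a ≠ b) :
    Odd (Nat.card ↥(stabilizer G a ⊓ stabilizer G b)) ∧
    ∃ t : G, orderOf t = 2 ∧ t • a = b ∧ t • b = a ∧
      ∀ h ∈ stabilizer G a ⊓ stabilizer G b, t * h * t⁻¹ = h⁻¹ := by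
  classical
  haveI := Z.finite
  have fix_unique : ∀ t : G, t * t = 1 → t ≠ 1 → ∀ x y : Ω, t • x = x → t • y = y → x = y := by
    intro t tt t1 x y hx hy
    by_contra hxy
    have hfix : (Finset.univ.filter fun z : Ω => t • z = z) = ({x, y} : Finset Ω) := by
      ext z
      simp only [Finset.mem_filter, Finset.mem_univ, true_and, Finset.mem_insert, Finset.mem_singleton]
      refine ⟨fun hz => ?_, fun h => by rcases h with rfl | rfl <;> assumption⟩
      by_contra hc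
      push Not at hc
      exact t1 (Z.three t x y z hxy hc.2.symm hc.1.symm hx hy hz)
    have hinv : Function.Involutive (fun z : Ω => t • z) := fun z => by simp only [← mul_smul, tt, one_smul]
    have hmod : (Finset.univ.filter fun z : Ω => t • z = z).card ≡ Fintype.card Ω [MOD 2] := by
      haveI : Fact (Nat.Prime 2) := ⟨Nat.prime_two⟩
      have hs : (hinv.toPerm _) ^ (2 : ℕ) ^ 1 = 1 := Equiv.ext fun z => by simp [pow_succ, hinv z]
      have := Equiv.Perm.card_compl_support_modEq (p := 2) (n := 1) hs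
      convert this using 2
      ext z
      simp
    rw [hfix, Finset.card_pair hxy, Nat.ModEq, Nat.odd_iff.1 hodd] at hmod
    norm_num at hmod
  haveI : Fact (Nat.Prime 2) := ⟨Nat.prime_two⟩
  have hH : Odd (Nat.card ↥(stabilizer G a ⊓ stabilizer G b)) := by
    by_contra he
    rw [Nat.not_odd_iff_even, even_iff_two_dvd] at he
    obtain ⟨⟨t, ht⟩, ht2⟩ := exists_prime_orderOf_dvd_card' 2 he
    rw [Subgroup.orderOf_mk] at ht2
    exact hab (fix_unique t (by rw [← pow_two, ← ht2, pow_orderOf_eq_one]) (fun e => by simp [e] at ht2) a b ht.1 ht.2)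
  refine ⟨hH, ?_⟩
  obtain ⟨g, ga, gb⟩ := Z.two hab hab.symm
  have hg2 : g ^ 2 ∈ stabilizer G a ⊓ stabilizer G b :=
    ⟨by show g ^ 2 • a = a; rw [pow_two, mul_smul, ga, gb], by show g ^ 2 • b = b; rw [pow_two, mul_smul, gb, ga]⟩
  set n := Nat.card ↥(stabilizer G a ⊓ stabilizer G b)
  have hgn : (g ^ n) ^ 2 = 1 := by
    rw [← pow_mul, mul_comm, pow_mul]
    exact congrArg Subtype.val (pow_card_eq_one' (x := (⟨g ^ 2, hg2⟩ : ↥(stabilizer G a ⊓ stabilizer G b))))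
  have hswap : (g ^ n) • a = b ∧ (g ^ n) • b = a := by
    obtain ⟨k, hk⟩ := hH
    have hk2 : ∀ k, (g ^ 2) ^ k ∈ stabilizer G a ⊓ stabilizer G b := fun k => pow_mem hg2 k
    rw [hk, pow_succ', pow_mul, mul_smul, mul_smul]
    exact ⟨by rw [(hk2 k).1, ga], by rw [(hk2 k).2, gb]⟩
  obtain ⟨ta, tb⟩ := hswap
  set t := g ^ n
  have t1 : t ≠ 1 := fun e => hab (by rw [e, one_smul] at ta; exact ta)
  have tt : t * t = 1 := by rw [← pow_two, hgn]
  refine ⟨t, orderOf_eq_prime hgn t1, ta, tb, ?_⟩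
  -- `t` fixes exactly one point, so it acts fixed-point-freely on `H`
  obtain ⟨c, hc⟩ : ∃ c : Ω, t • c = c := by
    by_contra hc
    push Not at hc
    have hinv : Function.Involutive (fun z : Ω => t • z) := fun z => by simp only [← mul_smul, tt, one_smul]
    have := Equiv.Perm.card_compl_support_modEq (p := 2) (n := 1) (σ := hinv.toPerm _)
      (Equiv.ext fun z => by simp [pow_succ, hinv z])
    have h0 : ((hinv.toPerm _).supportᶜ) = ∅ := by
      rw [Finset.eq_empty_iff_forall_notMem]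
      intro z hz
      simp only [Finset.mem_compl, Equiv.Perm.mem_support, Function.Involutive.coe_toPerm, not_not] at hz
      exact hc z hz
    rw [h0, Finset.card_empty, Nat.ModEq, Nat.odd_iff.1 hodd] at this
    norm_num at this
  have hca : c ≠ a := fun e => hab (by rw [e, ta] at hc; exact hc.symm)
  have hcb : c ≠ b := fun e => hab (by rw [e, tb] at hc; exact hc)
  set H := stabilizer G a ⊓ stabilizer G b
  have hnorm : ∀ h ∈ H, t * h * t⁻¹ ∈ H := by
    intro h hh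
    have ti : t⁻¹ = t := inv_eq_of_mul_eq_one_right tt
    rw [ti]
    exact ⟨by show (t * h * t) • a = a; rw [mul_smul, mul_smul, ta, hh.2, tb],
      by show (t * h * t) • b = b; rw [mul_smul, mul_smul, tb, hh.1, ta]⟩
  intro h hh
  let ψ : Subgroup.zpowers t →* MulAut H :=
    H21.conjHom (Subgroup.zpowers_le.2 (Subgroup.mem_normalizer_iff.2 fun x => ⟨hnorm x, fun hx => by
      have := hnorm _ hx
      rwa [show t * (t * x * t⁻¹) * t⁻¹ = (t * t) * x * (t * t)⁻¹ by group, tt, inv_one, mul_one, one_mul] at this⟩))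
  have key := H21.eq_inv_of_involution ψ (s := ⟨t, Subgroup.mem_zpowers t⟩) (Subtype.ext tt) (fun k hk => ?_) ⟨h, hh⟩
  · exact congrArg Subtype.val key
  · have e : t * k.1 * t⁻¹ = k.1 := congrArg Subtype.val hk
    have hkc : k.1 • c = c := by
      refine fix_unique t tt t1 _ _ ?_ hc
      rw [← mul_smul, show t * k.1 = k.1 * t by rw [← mul_inv_eq_iff_eq_mul]; exact e, mul_smul, hc]
    exact Subtype.ext (Z.three k.1 a b c hab hcb.symm hca.symm k.2.1 k.2.2 hkc)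

/-- A Zassenhaus group of odd degree is simple. -/
theorem zassenhaus_odd_simple [Fintype Ω] (hZ : IsZassenhausGroup G Ω) (hodd : Odd (Fintype.card Ω)) :
    IsSimpleGroup G := by
  classical
  have Z := ZHyp.of_zassenhaus hZ
  haveI := Z.finite
  haveI : Nontrivial G := by
    obtain ⟨g, hg, -⟩ := Z.fix
    exact ⟨⟨g, 1, hg⟩⟩
  refine ⟨fun N hN => or_iff_not_imp_left.2 fun hne => ?_⟩
  haveI := hN
  have ZN := ZHyp.of_zassenhaus (zassenhaus_normal hZ N hne)
  have hNtwo : ∀ {p q r s : Ω}, p ≠ q → r ≠ s → ∃ g : N, g • p = r ∧ g • q = s := fun h1 h2 => ZN.two h1 h2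
  obtain ⟨g, hg, a, b, hab, -, -⟩ := Z.fix
  obtain ⟨hH, t, ht, ta, tb, hinv⟩ := odd_degree_data Z hodd hab
  obtain ⟨-, t', ht', ta', tb', -⟩ := odd_degree_data ZN hodd hab
  set H := stabilizer G a ⊓ stabilizer G b
  -- every element of `H` lies in `N`
  have hHN : ∀ h ∈ H, h ∈ N := by
    intro h hh
    have hd : t'.1⁻¹ * t ∈ H := by
      refine ⟨?_, ?_⟩
      · show (t'.1⁻¹ * t) • a = a
        rw [mul_smul, ta, inv_smul_eq_iff]; exact ta'.symm
      · show (t'.1⁻¹ * t) • b = b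
        rw [mul_smul, tb, inv_smul_eq_iff]; exact tb'.symm
    -- `H` is commutative, being inverted by `t`
    have hcomm : ∀ x ∈ H, ∀ y ∈ H, x * y = y * x := by
      intro x hx y hy
      have h3 := hinv _ (mul_mem hx hy)
      rw [show t * (x * y) * t⁻¹ = (t * x * t⁻¹) * (t * y * t⁻¹) by group, hinv x hx, hinv y hy] at h3
      have := congrArg (·⁻¹) h3
      simp only [mul_inv_rev, inv_inv] at this
      exact this.symm
    have e : t'.1 * h * t'.1⁻¹ = h⁻¹ := by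
      set d := t'.1⁻¹ * t with hdd
      have : t = t'.1 * d := by rw [hdd, mul_inv_cancel_left]
      have h2 := hinv h hh
      rw [this, show t'.1 * d * h * (t'.1 * d)⁻¹ = t'.1 * (d * h * d⁻¹) * t'.1⁻¹ by group,
        hcomm d hd h hh, mul_inv_cancel_right] at h2
      exact h2
    have hsq : h ^ 2 ∈ N := by
      have : t'.1 * (h⁻¹ * t'.1⁻¹ * h) ∈ N := mul_mem t'.2 (by
        have := hN.conj_mem _ (inv_mem t'.2) h⁻¹
        rwa [inv_inv] at this)
      rw [show t'.1 * (h⁻¹ * t'.1⁻¹ * h) = (t'.1 * h * t'.1⁻¹)⁻¹ * h by group, e, inv_inv, ← pow_two] at this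
      exact this
    obtain ⟨k, hk⟩ := hH
    have h1 : h ^ (2 * k + 1) = 1 := by
      rw [← hk]
      exact congrArg Subtype.val (pow_card_eq_one' (x := (⟨h, hh⟩ : H)))
    have : h = (h ^ 2) ^ (k + 1) := by
      rw [← pow_mul, show 2 * (k + 1) = (2 * k + 1) + 1 by ring, pow_succ, h1, one_mul]
    rw [this]
    exact pow_mem hsq _
  rw [eq_top_iff]
  intro x _
  have hxab : x • a ≠ x • b := fun e => hab (smul_left_cancel x e)
  obtain ⟨n, na, nb⟩ := hNtwo hxab hab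
  have hm : n.1 * x ∈ N := hHN _ ⟨by show (n.1 * x) • a = a; rw [mul_smul]; exact na,
    by show (n.1 * x) • b = b; rw [mul_smul]; exact nb⟩
  have := mul_mem (inv_mem n.2) hm
  rwa [inv_mul_cancel_left] at this

end Cfsg.Agent.H7
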