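import Cfsg.Agent.H7.ZassKernel

/-!
Zassenhaus groups with two-point stabilisers of even order: the conjugates of the involution fixing two points each
swap `(n - 1) / 2` pairs, and there is one for every pair; hence `n - 1 ≤ 2 d`.
-/

set_option autoImplicit false
set_option linter.style.haveILetI false

namespace Cfsg.Agent.H7

open MulAction

variable {G Ω : Type*} [Group G] [MulAction G Ω] [Fintype Ω]

/-- The involution of the two-point stabiliser: it is unique, central and inverts the abelian kernel. -/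
theorem ZK.exists_central_involution {a b : Ω} {U : Subgroup G} (K : ZK G a b U)
    (heven : Even (Nat.card ↥(stabilizer G a ⊓ stabilizer G b))) :
    (∀ u ∈ U, ∀ v ∈ U, u * v = v * u) ∧ ∃ z ∈ stabilizer G a ⊓ stabilizer G b, z ≠ 1 ∧ z * z = 1 ∧
      (∀ t ∈ stabilizer G a ⊓ stabilizer G b, t ≠ 1 → t * t = 1 → t = z) ∧
      (∀ h ∈ stabilizer G a ⊓ stabilizer G b, h * z = z * h) ∧ ∀ u ∈ U, z * u * z⁻¹ = u⁻¹ := by
  haveI := K.z.finite
  haveI : Nontrivial U := by
    obtain ⟨c, hca, hcb⟩ := K.z.exists_move K.ne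
    obtain ⟨u, hu, e⟩ := K.reach hca
    exact ⟨⟨⟨u, hu⟩, 1, fun e' => hcb (by
      rw [← e, show u = 1 from congrArg Subtype.val e', one_smul])⟩⟩
  obtain ⟨hcom, ⟨z, hz⟩, ho, hzc, huniq, hinv⟩ :=
    H21.even_fpf (H21.conjHom K.le_normalizer) K.conjHom_fpf (even_iff_two_dvd.1 heven)
  rw [Subgroup.orderOf_mk] at ho
  refine ⟨fun u hu v hv => congrArg Subtype.val (hcom.is_comm.comm ⟨u, hu⟩ ⟨v, hv⟩), z, hz, ?_, ?_, ?_, ?_, ?_⟩
  · intro e; rw [e, orderOf_one] at ho; omega
  · rw [← pow_two, ← ho, pow_orderOf_eq_one]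
  · intro t ht t1 tt
    refine congrArg Subtype.val (huniq ⟨t, ht⟩ ?_)
    rw [Subgroup.orderOf_mk]
    exact orderOf_eq_prime (by rw [pow_two, tt]) t1
  · intro h hh
    exact congrArg Subtype.val (Subgroup.mem_center_iff.1 hzc ⟨h, hh⟩)
  · intro u hu
    exact congrArg Subtype.val (hinv ⟨u, hu⟩)

namespace ZHyp

variable (Z : ZHyp G Ω)
include Z

theorem even_degree {a b : Ω} (hab : a ≠ b) (heven : Even (Nat.card ↥(stabilizer G a ⊓ stabilizer G b))) :
    Even (Fintype.card Ω) := by
  by_contra h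
  exact (Nat.not_even_iff_odd.2 (odd_degree_data Z (Nat.not_even_iff_odd.1 h) hab).1) heven

/-- The counting: there is a set of involutions, each with exactly two fixed points, of which exactly `(n - 1) / 2`
swap two given points. -/
theorem exists_axial {a b : Ω} (hab : a ≠ b) (heven : Even (Nat.card ↥(stabilizer G a ⊓ stabilizer G b))) :
    ∃ S : Finset G, (∀ x ∈ S, x * x = 1 ∧ x • a = b ∧ x • b = a ∧ ∃ c : Ω, x • c = c) ∧
      2 * S.card = Fintype.card Ω - 2 := by
  classical
  haveI := Z.finite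
  haveI : Fintype G := Fintype.ofFinite G
  obtain ⟨U, K, -⟩ := Z.exists_ZK hab
  obtain ⟨-, z, hz, z1, zz, huniq, -, -⟩ := K.exists_central_involution heven
  have hfix : ∀ c : Ω, z • c = c ↔ c = a ∨ c = b := by
    refine fun c => ⟨fun h => ?_, fun h => by rcases h with rfl | rfl; exacts [hz.1, hz.2]⟩
    by_contra hc
    push Not at hc
    exact z1 (Z.three z a b c hab hc.2.symm hc.1.symm hz.1 hz.2 h)
  set C : Finset G := Finset.univ.filter fun x => ∃ g, x = g * z * g⁻¹ with hC
  have hxx : ∀ x ∈ C, x * x = 1 := by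
    intro x hx
    obtain ⟨g, rfl⟩ := (Finset.mem_filter.1 hx).2
    rw [show g * z * g⁻¹ * (g * z * g⁻¹) = g * (z * z) * g⁻¹ by group, zz]
    group
  -- fixed points of the members
  have hfixC : ∀ x ∈ C, (Finset.univ.filter fun c : Ω => x • c = c).card = 2 := by
    intro x hx
    obtain ⟨g, rfl⟩ := (Finset.mem_filter.1 hx).2
    rw [Finset.card_eq_two]
    refine ⟨g • a, g • b, fun e => hab (smul_left_cancel g e), Finset.ext fun c => ?_⟩
    simp only [Finset.mem_filter, Finset.mem_univ, true_and, Finset.mem_insert, Finset.mem_singleton]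
    rw [mul_smul, mul_smul, smul_eq_iff_eq_inv_smul, hfix, inv_smul_eq_iff, inv_smul_eq_iff]
  have hconjC : ∀ g x, x ∈ C → g * x * g⁻¹ ∈ C := by
    intro g x hx
    obtain ⟨k, rfl⟩ := (Finset.mem_filter.1 hx).2
    exact Finset.mem_filter.2 ⟨Finset.mem_univ _, g * k, by group⟩
  have hex : ∀ c e : Ω, c ≠ e → ∃ g : G, g • a = c ∧ g • b = e := fun c e hce => Z.two hab hce
  -- the number of members
  have hcardC : C.card * 2 = Fintype.card Ω * (Fintype.card Ω - 1) := by
    have h1 : ∀ p ∈ (Finset.univ : Finset Ω).offDiag,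
        (C.bipartiteBelow (fun x p => x • p.1 = p.1 ∧ x • p.2 = p.2) p).card = 1 := by
      rintro ⟨c, e⟩ hp
      simp only [Finset.mem_offDiag, Finset.mem_univ, true_and] at hp
      obtain ⟨g, gc, ge⟩ := hex c e hp
      rw [Finset.card_eq_one]
      refine ⟨g * z * g⁻¹, Finset.eq_singleton_iff_unique_mem.2 ⟨?_, ?_⟩⟩
      · refine Finset.mem_filter.2 ⟨Finset.mem_filter.2 ⟨Finset.mem_univ _, g, rfl⟩, ?_, ?_⟩
        · show (g * z * g⁻¹) • c = c
          rw [← gc, mul_smul, inv_smul_smul, mul_smul, show z • a = a from hz.1]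
        · show (g * z * g⁻¹) • e = e
          rw [← ge, mul_smul, inv_smul_smul, mul_smul, show z • b = b from hz.2]
      · intro x hx
        obtain ⟨hxC, h1, h2⟩ := Finset.mem_filter.1 hx
        simp only at h1 h2
        obtain ⟨k, rfl⟩ := (Finset.mem_filter.1 hxC).2
        have hy : g⁻¹ * (k * z * k⁻¹) * g = z := by
          refine huniq _ ⟨?_, ?_⟩ ?_ ?_
          · show _ • a = a
            rw [mul_smul, gc, mul_smul, h1, inv_smul_eq_iff, gc]
          · show _ • b = b
            rw [mul_smul, ge, mul_smul, h2, inv_smul_eq_iff, ge]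
          · rw [show g⁻¹ * (k * z * k⁻¹) * g = (g⁻¹ * k) * z * (g⁻¹ * k)⁻¹ by group, Ne, conj_eq_one_iff]
            exact z1
          · rw [show g⁻¹ * (k * z * k⁻¹) * g * (g⁻¹ * (k * z * k⁻¹) * g) = g⁻¹ * k * (z * z) * k⁻¹ * g by group, zz]
            group
        calc k * z * k⁻¹ = g * (g⁻¹ * (k * z * k⁻¹) * g) * g⁻¹ := by group
          _ = _ := by rw [hy]
    have h2 : ∀ x ∈ C, ((Finset.univ : Finset Ω).offDiag.bipartiteAbove
        (fun x p => x • p.1 = p.1 ∧ x • p.2 = p.2) x).card = 2 := by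
      intro x hx
      rw [show ((Finset.univ : Finset Ω).offDiag.bipartiteAbove (fun x p => x • p.1 = p.1 ∧ x • p.2 = p.2) x) =
        (Finset.univ.filter fun c : Ω => x • c = c).offDiag by
          ext ⟨c, e⟩; simp [Finset.bipartiteAbove]; tauto,
        Finset.offDiag_card, hfixC x hx]
    have hsum := Finset.sum_card_bipartiteAbove_eq_sum_card_bipartiteBelow
      (s := C) (t := (Finset.univ : Finset Ω).offDiag) (fun x p => x • p.1 = p.1 ∧ x • p.2 = p.2)
    rw [Finset.sum_congr rfl h2, Finset.sum_congr rfl h1, Finset.sum_const, Finset.sum_const, smul_eq_mul,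
      smul_eq_mul, mul_one, Finset.offDiag_card, Finset.card_univ] at hsum
    rw [hsum, Nat.mul_sub, mul_one]
  -- each pair is swapped by equally many
  set S := C.filter fun x => x • a = b with hS
  have hswap : ∀ x ∈ C, ∀ c e : Ω, x • c = e → x • e = c := fun x hx c e h => by
    rw [← h, ← mul_smul, hxx x hx, one_smul]
  refine ⟨S, fun x hx => ?_, ?_⟩
  · obtain ⟨hxC, hxa⟩ := Finset.mem_filter.1 hx
    refine ⟨hxx x hxC, hxa, hswap x hxC a b hxa, ?_⟩
    obtain ⟨g, rfl⟩ := (Finset.mem_filter.1 hxC).2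
    exact ⟨g • a, by rw [mul_smul, inv_smul_smul, mul_smul, show z • a = a from hz.1]⟩
  · have h1 : ∀ p ∈ (Finset.univ : Finset Ω).offDiag,
        (C.bipartiteBelow (fun x p => x • p.1 = p.2) p).card = S.card := by
      rintro ⟨c, e⟩ hp
      simp only [Finset.mem_offDiag, Finset.mem_univ, true_and] at hp
      obtain ⟨g, gc, ge⟩ := hex c e hp
      refine Finset.card_bij (fun x _ => g⁻¹ * x * g) ?_ ?_ ?_
      · intro x hx
        obtain ⟨hxC, h⟩ := Finset.mem_filter.1 hx
        simp only at h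
        refine Finset.mem_filter.2 ⟨?_, by rw [mul_smul, gc, mul_smul, h, inv_smul_eq_iff, ge]⟩
        simpa using hconjC g⁻¹ x hxC
      · intro x _ y _ h
        simpa using h
      · intro y hy
        obtain ⟨hyC, h⟩ := Finset.mem_filter.1 hy
        refine ⟨g * y * g⁻¹, Finset.mem_filter.2 ⟨hconjC g y hyC, ?_⟩, by group⟩
        show (g * y * g⁻¹) • c = e
        rw [← gc, mul_smul, inv_smul_smul, mul_smul, h, ge]
    have h2 : ∀ x ∈ C, ((Finset.univ : Finset Ω).offDiag.bipartiteAbove (fun x p => x • p.1 = p.2) x).card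
        = Fintype.card Ω - 2 := by
      intro x hx
      rw [← hfixC x hx, ← Finset.card_compl]
      refine Finset.card_bij (fun p _ => p.1) ?_ ?_ ?_
      · rintro ⟨c, e⟩ hp
        simp only [Finset.bipartiteAbove, Finset.mem_filter, Finset.mem_offDiag, Finset.mem_univ, true_and] at hp
        simp only [Finset.mem_compl, Finset.mem_filter, Finset.mem_univ, true_and]
        exact fun h => hp.1 (h.symm.trans hp.2)
      · rintro ⟨c, e⟩ hp ⟨c', e'⟩ hp' h
        simp only [Finset.bipartiteAbove, Finset.mem_filter] at hp hp'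
        simp only at h
        subst h
        exact Prod.ext rfl (hp.2.symm.trans hp'.2)
      · intro c hc
        simp only [Finset.mem_compl, Finset.mem_filter, Finset.mem_univ, true_and] at hc
        exact ⟨(c, x • c), by simp [Finset.bipartiteAbove, Ne.symm hc], rfl⟩
    have hsum := Finset.sum_card_bipartiteAbove_eq_sum_card_bipartiteBelow
      (s := C) (t := (Finset.univ : Finset Ω).offDiag) (fun x p => x • p.1 = p.2)
    rw [Finset.sum_congr rfl h2, Finset.sum_congr rfl h1, Finset.sum_const, Finset.sum_const, smul_eq_mul,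
      smul_eq_mul, Finset.offDiag_card, Finset.card_univ,
      show Fintype.card Ω * Fintype.card Ω - Fintype.card Ω = Fintype.card Ω * (Fintype.card Ω - 1) by
        rw [Nat.mul_sub, mul_one]] at hsum
    have hlt : 2 < Fintype.card Ω := by
      obtain ⟨c, hca, hcb⟩ := Z.exists_move hab
      rw [Fintype.two_lt_card_iff]
      exact ⟨a, b, c, hab, Ne.symm hca, Ne.symm hcb⟩
    have hN : Fintype.card Ω * (Fintype.card Ω - 1) ≠ 0 := Nat.mul_ne_zero (by omega) (by omega)
    refine Nat.eq_of_mul_eq_mul_left (Nat.pos_of_ne_zero hN) ?_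
    rw [← mul_assoc, mul_comm _ 2, mul_assoc, ← hsum, ← hcardC]
    ring

/-- Even two-point stabilisers have at least `(n - 1) / 2` elements. -/
theorem even_le {a b : Ω} (hab : a ≠ b) (heven : Even (Nat.card ↥(stabilizer G a ⊓ stabilizer G b))) :
    Fintype.card Ω - 2 ≤ 2 * Nat.card ↥(stabilizer G a ⊓ stabilizer G b) := by
  classical
  haveI := Z.finite
  obtain ⟨S, hS, hc⟩ := Z.exists_axial hab heven
  obtain ⟨t, ta, tb⟩ := Z.two hab hab.symm
  rw [← hc, ← Nat.card_eq_finsetCard]
  refine Nat.mul_le_mul_left 2 (Nat.card_le_card_of_injective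
    (fun x : S => (⟨t⁻¹ * x.1, ?_, ?_⟩ : ↥(stabilizer G a ⊓ stabilizer G b))) ?_)
  · show (t⁻¹ * x.1) • a = a
    rw [mul_smul, (hS x.1 x.2).2.1, inv_smul_eq_iff, ta]
  · show (t⁻¹ * x.1) • b = b
    rw [mul_smul, (hS x.1 x.2).2.2.1, inv_smul_eq_iff, tb]
  · intro x y e
    exact Subtype.ext (mul_left_cancel (congrArg Subtype.val e))

/-- If `n - 1 = 2 d` with `d` even, every element swapping two points is an involution with a fixed point. -/
theorem even_half {a b : Ω} (hab : a ≠ b) (heven : Even (Nat.card ↥(stabilizer G a ⊓ stabilizer G b)))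
    (hcard : Fintype.card Ω = 2 * Nat.card ↥(stabilizer G a ⊓ stabilizer G b) + 2)
    {g : G} (ga : g • a = b) (gb : g • b = a) : g * g = 1 ∧ ∃ c : Ω, g • c = c := by
  classical
  haveI := Z.finite
  obtain ⟨S, hS, hc⟩ := Z.exists_axial hab heven
  set f : S → ↥(stabilizer G a ⊓ stabilizer G b) := fun x => ⟨g⁻¹ * x.1,
    (show (g⁻¹ * x.1) • a = a by rw [mul_smul, (hS x.1 x.2).2.1, inv_smul_eq_iff, ga]),
    (show (g⁻¹ * x.1) • b = b by rw [mul_smul, (hS x.1 x.2).2.2.1, inv_smul_eq_iff, gb])⟩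
  have hf : Function.Bijective f := by
    refine Function.Injective.bijective_of_nat_card_le
      (fun x y e => Subtype.ext (mul_left_cancel (congrArg Subtype.val e))) ?_
    rw [Nat.card_eq_finsetCard]; omega
  obtain ⟨x, hx⟩ := hf.2 1
  rw [show g = x.1 from inv_mul_eq_one.1 (congrArg Subtype.val hx)]
  exact ⟨(hS x.1 x.2).1, (hS x.1 x.2).2.2.2⟩

/-- Even two-point stabilisers have order `n - 1` or `(n - 1) / 2`. -/
theorem even_cases {a b : Ω} (hab : a ≠ b) (heven : Even (Nat.card ↥(stabilizer G a ⊓ stabilizer G b))) :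
    Fintype.card Ω = Nat.card ↥(stabilizer G a ⊓ stabilizer G b) + 2 ∨
      Fintype.card Ω = 2 * Nat.card ↥(stabilizer G a ⊓ stabilizer G b) + 2 := by
  obtain ⟨U, K, -⟩ := Z.exists_ZK hab
  obtain ⟨k, hk⟩ := K.dvd_degree
  have h := Z.even_le hab heven
  obtain ⟨c, hca, hcb⟩ := Z.exists_move hab
  have hlt : 2 < Fintype.card Ω := Fintype.two_lt_card_iff.2 ⟨a, b, c, hab, hca.symm, hcb.symm⟩
  rw [Nat.card_eq_fintype_card] at hk
  generalize Nat.card ↥(stabilizer G a ⊓ stabilizer G b) = d at *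
  have hd : 0 < d := Nat.pos_of_ne_zero fun e => by rw [e, zero_mul] at hk; omega
  rw [hk] at h
  have hk2 : k ≤ 2 := Nat.le_of_mul_le_mul_left (by rwa [mul_comm 2 d] at h) hd
  interval_cases k <;> omega

end ZHyp

end Cfsg.Agent.H7
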